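import Cfsg.Prelude.Def_ChevE6
import Cfsg.Agent.H6.OrbCheck

/-! The Poincaré polynomial and the Coxeter system of the Weyl group of type E6. -/

set_option autoImplicit false

namespace CfsgH6

open Cfsg.Lie

set_option maxRecDepth 100000

/-- orbit table -/
def orbE6x0 : Orb where
  l := 6
  cm := 0xa788887a788887a778887a878878a888878a
  lam := 0x988888
  cl := [([0], [0], 1), ([1], [1], 1), ([2], [2], 1), ([3], [3], 1), ([4], [4], 1), ([5], [5], 1)]
  O := [0x988888, 0x1798888, 0x2879888, 0x3887998, 0x4888978, 0x4888799, 0x5889779, 0x5888897,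
    0x6889877, 0x6897889, 0x7897987, 0x7978889, 0x8898788, 0x8978987, 0x8788889, 0x9979788,
    0x9788987, 0xa987898, 0xa789788, 0xb988878, 0xb797898, 0xc798878, 0xc878898, 0xd879878,
    0xe887988, 0xf888789, 0x10888887]

theorem cmE6 : ∀ i j : Fin chevE6.rank, chevE6.cartan i (chevE6.simple j) = orbE6x0.a i j := by
  decide +kernel

theorem poinE6x0 (G : Good chevE6) {R : Type*} [CommSemiring R] (q : R) :
    G.fold.poin q {c | c ∈ ([⟨0, by decide⟩, ⟨1, by decide⟩, ⟨2, by decide⟩, ⟨3, by decide⟩, ⟨4, by decide⟩, ⟨5, by decide⟩] : List (Fin chevE6.rank))} = (q ^ 0 + q ^ 1 + q ^ 2 + q ^ 3 + 2 * q ^ 4 + 2 * q ^ 5 + 2 * q ^ 6 + 2 * q ^ 7 + 3 * q ^ 8 + 2 * q ^ 9 + 2 * q ^ 10 + 2 * q ^ 11 + 2 * q ^ 12 + q ^ 13 + q ^ 14 + q ^ 15 + q ^ 16) *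
      G.fold.poin q {c | c ∈ ([⟨0, by decide⟩, ⟨1, by decide⟩, ⟨2, by decide⟩, ⟨3, by decide⟩, ⟨4, by decide⟩] : List (Fin chevE6.rank))} := by
  rw [G.poin_step orbE6x0 rfl cmE6 [⟨0, by decide⟩, ⟨1, by decide⟩, ⟨2, by decide⟩, ⟨3, by decide⟩, ⟨4, by decide⟩] [⟨0, by decide⟩, ⟨1, by decide⟩, ⟨2, by decide⟩, ⟨3, by decide⟩, ⟨4, by decide⟩, ⟨5, by decide⟩] (by decide +kernel) rfl (by decide +kernel)
    (by decide +kernel) (by decide +kernel) (by decide +kernel) q]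
  congr 1
  have : orbE6x0.O.map orbE6x0.hi = [0, 1, 2, 3, 4, 4, 5, 5, 6, 6, 7, 7, 8, 8, 8, 9, 9, 10, 10, 11, 11, 12, 12, 13, 14, 15, 16] := by decide +kernel
  rw [show (fun x => q ^ orbE6x0.hi x) = (fun n => q ^ n) ∘ orbE6x0.hi from rfl, ← List.map_map, this]
  simp only [List.map_cons, List.map_nil, List.sum_cons, List.sum_nil]
  ring

/-- orbit table -/
def orbE6x1 : Orb where
  l := 6
  cm := 0xa788887a788887a778887a878878a888878a
  lam := 0x888889
  cl := [([0], [0], 1), ([1], [1], 1), ([2], [2], 1), ([3], [3], 1), ([4], [4], 1)]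
  O := [0x888889, 0x1888987, 0x2889788, 0x3897898, 0x4898878, 0x4978898, 0x5979878, 0x6987988,
    0x7988789, 0x8988887]

theorem poinE6x1 (G : Good chevE6) {R : Type*} [CommSemiring R] (q : R) :
    G.fold.poin q {c | c ∈ ([⟨0, by decide⟩, ⟨1, by decide⟩, ⟨2, by decide⟩, ⟨3, by decide⟩, ⟨4, by decide⟩] : List (Fin chevE6.rank))} = (q ^ 0 + q ^ 1 + q ^ 2 + q ^ 3 + 2 * q ^ 4 + q ^ 5 + q ^ 6 + q ^ 7 + q ^ 8) *
      G.fold.poin q {c | c ∈ ([⟨1, by decide⟩, ⟨2, by decide⟩, ⟨3, by decide⟩, ⟨4, by decide⟩] : List (Fin chevE6.rank))} := by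
  rw [G.poin_step orbE6x1 rfl cmE6 [⟨1, by decide⟩, ⟨2, by decide⟩, ⟨3, by decide⟩, ⟨4, by decide⟩] [⟨0, by decide⟩, ⟨1, by decide⟩, ⟨2, by decide⟩, ⟨3, by decide⟩, ⟨4, by decide⟩] (by decide +kernel) rfl (by decide +kernel)
    (by decide +kernel) (by decide +kernel) (by decide +kernel) q]
  congr 1
  have : orbE6x1.O.map orbE6x1.hi = [0, 1, 2, 3, 4, 4, 5, 6, 7, 8] := by decide +kernel
  rw [show (fun x => q ^ orbE6x1.hi x) = (fun n => q ^ n) ∘ orbE6x1.hi from rfl, ← List.map_map, this]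
  simp only [List.map_cons, List.map_nil, List.sum_cons, List.sum_nil]
  ring

/-- orbit table -/
def orbE6x2 : Orb where
  l := 6
  cm := 0xa788887a788887a778887a878878a888878a
  lam := 0x898888
  cl := [([1], [1], 1), ([2], [2], 1), ([3], [3], 1), ([4], [4], 1)]
  O := [0x898888, 0x1979888, 0x2987998, 0x3988978, 0x3988799, 0x4989779, 0x5997889, 0x6a78889]

theorem poinE6x2 (G : Good chevE6) {R : Type*} [CommSemiring R] (q : R) :
    G.fold.poin q {c | c ∈ ([⟨1, by decide⟩, ⟨2, by decide⟩, ⟨3, by decide⟩, ⟨4, by decide⟩] : List (Fin chevE6.rank))} = (q ^ 0 + q ^ 1 + q ^ 2 + 2 * q ^ 3 + q ^ 4 + q ^ 5 + q ^ 6) *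
      G.fold.poin q {c | c ∈ ([⟨1, by decide⟩, ⟨2, by decide⟩, ⟨3, by decide⟩] : List (Fin chevE6.rank))} := by
  rw [G.poin_step orbE6x2 rfl cmE6 [⟨1, by decide⟩, ⟨2, by decide⟩, ⟨3, by decide⟩] [⟨1, by decide⟩, ⟨2, by decide⟩, ⟨3, by decide⟩, ⟨4, by decide⟩] (by decide +kernel) rfl (by decide +kernel)
    (by decide +kernel) (by decide +kernel) (by decide +kernel) q]
  congr 1
  have : orbE6x2.O.map orbE6x2.hi = [0, 1, 2, 3, 3, 4, 5, 6] := by decide +kernel
  rw [show (fun x => q ^ orbE6x2.hi x) = (fun n => q ^ n) ∘ orbE6x2.hi from rfl, ← List.map_map, this]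
  simp only [List.map_cons, List.map_nil, List.sum_cons, List.sum_nil]
  ring

/-- orbit table -/
def orbE6x3 : Orb where
  l := 6
  cm := 0xa788887a788887a778887a878878a888878a
  lam := 0x888988
  cl := [([1], [1], 1), ([2], [2], 1), ([3], [3], 1)]
  O := [0x888988, 0x1889789, 0x2897899, 0x3898879]

theorem poinE6x3 (G : Good chevE6) {R : Type*} [CommSemiring R] (q : R) :
    G.fold.poin q {c | c ∈ ([⟨1, by decide⟩, ⟨2, by decide⟩, ⟨3, by decide⟩] : List (Fin chevE6.rank))} = (q ^ 0 + q ^ 1 + q ^ 2 + q ^ 3) *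
      G.fold.poin q {c | c ∈ ([⟨1, by decide⟩, ⟨3, by decide⟩] : List (Fin chevE6.rank))} := by
  rw [G.poin_step orbE6x3 rfl cmE6 [⟨1, by decide⟩, ⟨3, by decide⟩] [⟨1, by decide⟩, ⟨2, by decide⟩, ⟨3, by decide⟩] (by decide +kernel) rfl (by decide +kernel)
    (by decide +kernel) (by decide +kernel) (by decide +kernel) q]
  congr 1
  have : orbE6x3.O.map orbE6x3.hi = [0, 1, 2, 3] := by decide +kernel
  rw [show (fun x => q ^ orbE6x3.hi x) = (fun n => q ^ n) ∘ orbE6x3.hi from rfl, ← List.map_map, this]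
  simp only [List.map_cons, List.map_nil, List.sum_cons, List.sum_nil]
  ring

/-- orbit table -/
def orbE6x4 : Orb where
  l := 6
  cm := 0xa788887a788887a778887a878878a888878a
  lam := 0x889888
  cl := [([1], [1], 1), ([3], [3], 1)]
  O := [0x889888, 0x1897998, 0x2898978]

theorem poinE6x4 (G : Good chevE6) {R : Type*} [CommSemiring R] (q : R) :
    G.fold.poin q {c | c ∈ ([⟨1, by decide⟩, ⟨3, by decide⟩] : List (Fin chevE6.rank))} = (q ^ 0 + q ^ 1 + q ^ 2) *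
      G.fold.poin q {c | c ∈ ([⟨1, by decide⟩] : List (Fin chevE6.rank))} := by
  rw [G.poin_step orbE6x4 rfl cmE6 [⟨1, by decide⟩] [⟨1, by decide⟩, ⟨3, by decide⟩] (by decide +kernel) rfl (by decide +kernel)
    (by decide +kernel) (by decide +kernel) (by decide +kernel) q]
  congr 1
  have : orbE6x4.O.map orbE6x4.hi = [0, 1, 2] := by decide +kernel
  rw [show (fun x => q ^ orbE6x4.hi x) = (fun n => q ^ n) ∘ orbE6x4.hi from rfl, ← List.map_map, this]
  simp only [List.map_cons, List.map_nil, List.sum_cons, List.sum_nil]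
  ring

/-- orbit table -/
def orbE6x5 : Orb where
  l := 6
  cm := 0xa788887a788887a778887a878878a888878a
  lam := 0x888898
  cl := [([1], [1], 1)]
  O := [0x888898, 0x1889878]

theorem poinE6x5 (G : Good chevE6) {R : Type*} [CommSemiring R] (q : R) :
    G.fold.poin q {c | c ∈ ([⟨1, by decide⟩] : List (Fin chevE6.rank))} = (q ^ 0 + q ^ 1) *
      G.fold.poin q {c | c ∈ ([] : List (Fin chevE6.rank))} := by
  rw [G.poin_step orbE6x5 rfl cmE6 [] [⟨1, by decide⟩] (by decide +kernel) rfl (by decide +kernel)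
    (by decide +kernel) (by decide +kernel) (by decide +kernel) q]
  congr 1
  have : orbE6x5.O.map orbE6x5.hi = [0, 1] := by decide +kernel
  rw [show (fun x => q ^ orbE6x5.hi x) = (fun n => q ^ n) ∘ orbE6x5.hi from rfl, ← List.map_map, this]
  simp only [List.map_cons, List.map_nil, List.sum_cons, List.sum_nil]
  ring

theorem poinE6 (G : Good chevE6) {R : Type*} [CommRing R] (q : R) :
    (q - 1) ^ 6 * ∑ᶠ w : G.WJ Set.univ, q ^ G.N w = (q ^ 2 - 1) * (q ^ 5 - 1) * (q ^ 6 - 1) * (q ^ 8 - 1) * (q ^ 9 - 1) * (q ^ 12 - 1) := by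
  rw [G.poin_univ q [⟨0, by decide⟩, ⟨1, by decide⟩, ⟨2, by decide⟩, ⟨3, by decide⟩, ⟨4, by decide⟩, ⟨5, by decide⟩] (by decide +kernel), poinE6x0, poinE6x1, poinE6x2, poinE6x3, poinE6x4, poinE6x5]
  simp only [List.not_mem_nil, Set.ofPred_false, Fold.poin_empty]
  ring

theorem cardWE6 (G : Good chevE6) : Nat.card G.W = 51840 := by
  have h := G.poin_univ (1 : ℕ) [⟨0, by decide⟩, ⟨1, by decide⟩, ⟨2, by decide⟩, ⟨3, by decide⟩, ⟨4, by decide⟩, ⟨5, by decide⟩] (by decide +kernel)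
  rw [poinE6x0, poinE6x1, poinE6x2, poinE6x3, poinE6x4, poinE6x5] at h
  simp only [List.not_mem_nil, Set.ofPred_false, Fold.poin_empty, one_pow] at h
  rw [← G.WJ_univ]
  have := Fintype.ofFinite (G.WJ Set.univ)
  rw [Nat.card_eq_fintype_card, ← Finset.card_univ, Finset.card_eq_sum_ones, ← finsum_eq_sum_of_fintype]
  exact h

theorem coxE6 (G : Good chevE6) : ∃ cs : CoxeterSystem (B := Fin chevE6.rank) CoxeterMatrix.E₆ G.W,
    ∀ i, (cs.simple i : Equiv.Perm (Fin chevE6.nroots)) = G.σ i :=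
  G.coxeter_of_chk (T := orbE6x0) rfl cmE6 _ (by decide +kernel)

theorem coxEltE6 (G : Good chevE6) : orderOf (G.wN (List.range 6)) = 12 :=
  G.ordChk_sound (T := orbE6x0) rfl cmE6 (by decide +kernel)

end CfsgH6
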