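import Cfsg.Prelude.Def_ChevE7
import Cfsg.Agent.H6.OrbCheck

/-! The Poincaré polynomial and the Coxeter system of the Weyl group of type E7. -/

set_option autoImplicit false

namespace CfsgH6

open Cfsg.Lie

set_option maxRecDepth 100000

/-- orbit table -/
def orbE7x0 : Orb where
  l := 7
  cm := 0xa7888887a7888887a7888887a7788887a8788878a8888878a
  lam := 0x9888888
  cl := [([0], [0], 1), ([1], [1], 1), ([2], [2], 1), ([3], [3], 1), ([4], [4], 1), ([5], [5], 1), ([6], [6], 1)]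
  O := [0x9888888, 0x17988888, 0x28798888, 0x38879888, 0x48887998, 0x58888978, 0x58888799, 0x68889779,
    0x68888897, 0x78889877, 0x78897889, 0x88897987, 0x88978889, 0x98898788, 0x98978987, 0x99788889,
    0xa8979788, 0xa9788987, 0xa7888889, 0xb8987898, 0xb9789788, 0xb7888987, 0xc8988878, 0xc9797898,
    0xc7889788, 0xd9798878, 0xd9878898, 0xd7897898, 0xe9879878, 0xe7898878, 0xe7978898, 0xf9887988,
    0xf7979878, 0xf8788898, 0x109888789, 0x107987988, 0x108789878, 0x119888887, 0x117988789, 0x118797988,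
    0x127988887, 0x128798789, 0x128878988, 0x138798887, 0x138879789, 0x148879887, 0x148887899, 0x158887997,
    0x158888879, 0x168888977, 0x168888798, 0x178889778, 0x188897888, 0x198978888, 0x1a9788888, 0x1b7888888]

theorem cmE7 : ∀ i j : Fin chevE7.rank, chevE7.cartan i (chevE7.simple j) = orbE7x0.a i j := by
  decide +kernel

theorem poinE7x0 (G : Good chevE7) {R : Type*} [CommSemiring R] (q : R) :
    G.fold.poin q {c | c ∈ ([⟨0, by decide⟩, ⟨1, by decide⟩, ⟨2, by decide⟩, ⟨3, by decide⟩, ⟨4, by decide⟩, ⟨5, by decide⟩, ⟨6, by decide⟩] : List (Fin chevE7.rank))} = (q ^ 0 + q ^ 1 + q ^ 2 + q ^ 3 + q ^ 4 + 2 * q ^ 5 + 2 * q ^ 6 + 2 * q ^ 7 + 2 * q ^ 8 + 3 * q ^ 9 + 3 * q ^ 10 + 3 * q ^ 11 + 3 * q ^ 12 + 3 * q ^ 13 + 3 * q ^ 14 + 3 * q ^ 15 + 3 * q ^ 16 + 3 * q ^ 17 + 3 * q ^ 18 + 2 * q ^ 19 + 2 * q ^ 20 + 2 * q ^ 21 + 2 * q ^ 22 + q ^ 23 + q ^ 24 + q ^ 25 + q ^ 26 + q ^ 27) *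
      G.fold.poin q {c | c ∈ ([⟨0, by decide⟩, ⟨1, by decide⟩, ⟨2, by decide⟩, ⟨3, by decide⟩, ⟨4, by decide⟩, ⟨5, by decide⟩] : List (Fin chevE7.rank))} := by
  rw [G.poin_step orbE7x0 rfl cmE7 [⟨0, by decide⟩, ⟨1, by decide⟩, ⟨2, by decide⟩, ⟨3, by decide⟩, ⟨4, by decide⟩, ⟨5, by decide⟩] [⟨0, by decide⟩, ⟨1, by decide⟩, ⟨2, by decide⟩, ⟨3, by decide⟩, ⟨4, by decide⟩, ⟨5, by decide⟩, ⟨6, by decide⟩] (by decide +kernel) rfl (by decide +kernel)
    (by decide +kernel) (by decide +kernel) (by decide +kernel) q]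
  congr 1
  have : orbE7x0.O.map orbE7x0.hi = [0, 1, 2, 3, 4, 5, 5, 6, 6, 7, 7, 8, 8, 9, 9, 9, 10, 10, 10, 11, 11, 11, 12, 12, 12, 13, 13, 13, 14, 14, 14, 15, 15, 15, 16, 16, 16, 17, 17, 17, 18, 18, 18, 19, 19, 20, 20, 21, 21, 22, 22, 23, 24, 25, 26, 27] := by decide +kernel
  rw [show (fun x => q ^ orbE7x0.hi x) = (fun n => q ^ n) ∘ orbE7x0.hi from rfl, ← List.map_map, this]
  simp only [List.map_cons, List.map_nil, List.sum_cons, List.sum_nil]
  ring

/-- orbit table -/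
def orbE7x1 : Orb where
  l := 7
  cm := 0xa7888887a7888887a7888887a7788887a8788878a8888878a
  lam := 0x8988888
  cl := [([0], [0], 1), ([1], [1], 1), ([2], [2], 1), ([3], [3], 1), ([4], [4], 1), ([5], [5], 1)]
  O := [0x8988888, 0x19798888, 0x29879888, 0x39887998, 0x49888978, 0x49888799, 0x59889779, 0x59888897,
    0x69889877, 0x69897889, 0x79897987, 0x79978889, 0x89898788, 0x89978987, 0x8a788889, 0x99979788,
    0x9a788987, 0xa9987898, 0xaa789788, 0xb9988878, 0xba797898, 0xca798878, 0xca878898, 0xda879878,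
    0xea887988, 0xfa888789, 0x10a888887]

theorem poinE7x1 (G : Good chevE7) {R : Type*} [CommSemiring R] (q : R) :
    G.fold.poin q {c | c ∈ ([⟨0, by decide⟩, ⟨1, by decide⟩, ⟨2, by decide⟩, ⟨3, by decide⟩, ⟨4, by decide⟩, ⟨5, by decide⟩] : List (Fin chevE7.rank))} = (q ^ 0 + q ^ 1 + q ^ 2 + q ^ 3 + 2 * q ^ 4 + 2 * q ^ 5 + 2 * q ^ 6 + 2 * q ^ 7 + 3 * q ^ 8 + 2 * q ^ 9 + 2 * q ^ 10 + 2 * q ^ 11 + 2 * q ^ 12 + q ^ 13 + q ^ 14 + q ^ 15 + q ^ 16) *
      G.fold.poin q {c | c ∈ ([⟨0, by decide⟩, ⟨1, by decide⟩, ⟨2, by decide⟩, ⟨3, by decide⟩, ⟨4, by decide⟩] : List (Fin chevE7.rank))} := by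
  rw [G.poin_step orbE7x1 rfl cmE7 [⟨0, by decide⟩, ⟨1, by decide⟩, ⟨2, by decide⟩, ⟨3, by decide⟩, ⟨4, by decide⟩] [⟨0, by decide⟩, ⟨1, by decide⟩, ⟨2, by decide⟩, ⟨3, by decide⟩, ⟨4, by decide⟩, ⟨5, by decide⟩] (by decide +kernel) rfl (by decide +kernel)
    (by decide +kernel) (by decide +kernel) (by decide +kernel) q]
  congr 1
  have : orbE7x1.O.map orbE7x1.hi = [0, 1, 2, 3, 4, 4, 5, 5, 6, 6, 7, 7, 8, 8, 8, 9, 9, 10, 10, 11, 11, 12, 12, 13, 14, 15, 16] := by decide +kernel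
  rw [show (fun x => q ^ orbE7x1.hi x) = (fun n => q ^ n) ∘ orbE7x1.hi from rfl, ← List.map_map, this]
  simp only [List.map_cons, List.map_nil, List.sum_cons, List.sum_nil]
  ring

/-- orbit table -/
def orbE7x2 : Orb where
  l := 7
  cm := 0xa7888887a7888887a7888887a7788887a8788878a8888878a
  lam := 0x8888889
  cl := [([0], [0], 1), ([1], [1], 1), ([2], [2], 1), ([3], [3], 1), ([4], [4], 1)]
  O := [0x8888889, 0x18888987, 0x28889788, 0x38897898, 0x48898878, 0x48978898, 0x58979878, 0x68987988,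
    0x78988789, 0x88988887]

theorem poinE7x2 (G : Good chevE7) {R : Type*} [CommSemiring R] (q : R) :
    G.fold.poin q {c | c ∈ ([⟨0, by decide⟩, ⟨1, by decide⟩, ⟨2, by decide⟩, ⟨3, by decide⟩, ⟨4, by decide⟩] : List (Fin chevE7.rank))} = (q ^ 0 + q ^ 1 + q ^ 2 + q ^ 3 + 2 * q ^ 4 + q ^ 5 + q ^ 6 + q ^ 7 + q ^ 8) *
      G.fold.poin q {c | c ∈ ([⟨1, by decide⟩, ⟨2, by decide⟩, ⟨3, by decide⟩, ⟨4, by decide⟩] : List (Fin chevE7.rank))} := by
  rw [G.poin_step orbE7x2 rfl cmE7 [⟨1, by decide⟩, ⟨2, by decide⟩, ⟨3, by decide⟩, ⟨4, by decide⟩] [⟨0, by decide⟩, ⟨1, by decide⟩, ⟨2, by decide⟩, ⟨3, by decide⟩, ⟨4, by decide⟩] (by decide +kernel) rfl (by decide +kernel)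
    (by decide +kernel) (by decide +kernel) (by decide +kernel) q]
  congr 1
  have : orbE7x2.O.map orbE7x2.hi = [0, 1, 2, 3, 4, 4, 5, 6, 7, 8] := by decide +kernel
  rw [show (fun x => q ^ orbE7x2.hi x) = (fun n => q ^ n) ∘ orbE7x2.hi from rfl, ← List.map_map, this]
  simp only [List.map_cons, List.map_nil, List.sum_cons, List.sum_nil]
  ring

/-- orbit table -/
def orbE7x3 : Orb where
  l := 7
  cm := 0xa7888887a7888887a7888887a7788887a8788878a8888878a
  lam := 0x8898888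
  cl := [([1], [1], 1), ([2], [2], 1), ([3], [3], 1), ([4], [4], 1)]
  O := [0x8898888, 0x18979888, 0x28987998, 0x38988978, 0x38988799, 0x48989779, 0x58997889, 0x68a78889]

theorem poinE7x3 (G : Good chevE7) {R : Type*} [CommSemiring R] (q : R) :
    G.fold.poin q {c | c ∈ ([⟨1, by decide⟩, ⟨2, by decide⟩, ⟨3, by decide⟩, ⟨4, by decide⟩] : List (Fin chevE7.rank))} = (q ^ 0 + q ^ 1 + q ^ 2 + 2 * q ^ 3 + q ^ 4 + q ^ 5 + q ^ 6) *
      G.fold.poin q {c | c ∈ ([⟨1, by decide⟩, ⟨2, by decide⟩, ⟨3, by decide⟩] : List (Fin chevE7.rank))} := by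
  rw [G.poin_step orbE7x3 rfl cmE7 [⟨1, by decide⟩, ⟨2, by decide⟩, ⟨3, by decide⟩] [⟨1, by decide⟩, ⟨2, by decide⟩, ⟨3, by decide⟩, ⟨4, by decide⟩] (by decide +kernel) rfl (by decide +kernel)
    (by decide +kernel) (by decide +kernel) (by decide +kernel) q]
  congr 1
  have : orbE7x3.O.map orbE7x3.hi = [0, 1, 2, 3, 3, 4, 5, 6] := by decide +kernel
  rw [show (fun x => q ^ orbE7x3.hi x) = (fun n => q ^ n) ∘ orbE7x3.hi from rfl, ← List.map_map, this]
  simp only [List.map_cons, List.map_nil, List.sum_cons, List.sum_nil]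
  ring

/-- orbit table -/
def orbE7x4 : Orb where
  l := 7
  cm := 0xa7888887a7888887a7888887a7788887a8788878a8888878a
  lam := 0x8888988
  cl := [([1], [1], 1), ([2], [2], 1), ([3], [3], 1)]
  O := [0x8888988, 0x18889789, 0x28897899, 0x38898879]

theorem poinE7x4 (G : Good chevE7) {R : Type*} [CommSemiring R] (q : R) :
    G.fold.poin q {c | c ∈ ([⟨1, by decide⟩, ⟨2, by decide⟩, ⟨3, by decide⟩] : List (Fin chevE7.rank))} = (q ^ 0 + q ^ 1 + q ^ 2 + q ^ 3) *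
      G.fold.poin q {c | c ∈ ([⟨1, by decide⟩, ⟨3, by decide⟩] : List (Fin chevE7.rank))} := by
  rw [G.poin_step orbE7x4 rfl cmE7 [⟨1, by decide⟩, ⟨3, by decide⟩] [⟨1, by decide⟩, ⟨2, by decide⟩, ⟨3, by decide⟩] (by decide +kernel) rfl (by decide +kernel)
    (by decide +kernel) (by decide +kernel) (by decide +kernel) q]
  congr 1
  have : orbE7x4.O.map orbE7x4.hi = [0, 1, 2, 3] := by decide +kernel
  rw [show (fun x => q ^ orbE7x4.hi x) = (fun n => q ^ n) ∘ orbE7x4.hi from rfl, ← List.map_map, this]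
  simp only [List.map_cons, List.map_nil, List.sum_cons, List.sum_nil]
  ring

/-- orbit table -/
def orbE7x5 : Orb where
  l := 7
  cm := 0xa7888887a7888887a7888887a7788887a8788878a8888878a
  lam := 0x8889888
  cl := [([1], [1], 1), ([3], [3], 1)]
  O := [0x8889888, 0x18897998, 0x28898978]

theorem poinE7x5 (G : Good chevE7) {R : Type*} [CommSemiring R] (q : R) :
    G.fold.poin q {c | c ∈ ([⟨1, by decide⟩, ⟨3, by decide⟩] : List (Fin chevE7.rank))} = (q ^ 0 + q ^ 1 + q ^ 2) *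
      G.fold.poin q {c | c ∈ ([⟨1, by decide⟩] : List (Fin chevE7.rank))} := by
  rw [G.poin_step orbE7x5 rfl cmE7 [⟨1, by decide⟩] [⟨1, by decide⟩, ⟨3, by decide⟩] (by decide +kernel) rfl (by decide +kernel)
    (by decide +kernel) (by decide +kernel) (by decide +kernel) q]
  congr 1
  have : orbE7x5.O.map orbE7x5.hi = [0, 1, 2] := by decide +kernel
  rw [show (fun x => q ^ orbE7x5.hi x) = (fun n => q ^ n) ∘ orbE7x5.hi from rfl, ← List.map_map, this]
  simp only [List.map_cons, List.map_nil, List.sum_cons, List.sum_nil]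
  ring

/-- orbit table -/
def orbE7x6 : Orb where
  l := 7
  cm := 0xa7888887a7888887a7888887a7788887a8788878a8888878a
  lam := 0x8888898
  cl := [([1], [1], 1)]
  O := [0x8888898, 0x18889878]

theorem poinE7x6 (G : Good chevE7) {R : Type*} [CommSemiring R] (q : R) :
    G.fold.poin q {c | c ∈ ([⟨1, by decide⟩] : List (Fin chevE7.rank))} = (q ^ 0 + q ^ 1) *
      G.fold.poin q {c | c ∈ ([] : List (Fin chevE7.rank))} := by
  rw [G.poin_step orbE7x6 rfl cmE7 [] [⟨1, by decide⟩] (by decide +kernel) rfl (by decide +kernel)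
    (by decide +kernel) (by decide +kernel) (by decide +kernel) q]
  congr 1
  have : orbE7x6.O.map orbE7x6.hi = [0, 1] := by decide +kernel
  rw [show (fun x => q ^ orbE7x6.hi x) = (fun n => q ^ n) ∘ orbE7x6.hi from rfl, ← List.map_map, this]
  simp only [List.map_cons, List.map_nil, List.sum_cons, List.sum_nil]
  ring

theorem poinE7 (G : Good chevE7) {R : Type*} [CommRing R] (q : R) :
    (q - 1) ^ 7 * ∑ᶠ w : G.WJ Set.univ, q ^ G.N w = (q ^ 2 - 1) * (q ^ 6 - 1) * (q ^ 8 - 1) * (q ^ 10 - 1) * (q ^ 12 - 1) * (q ^ 14 - 1) * (q ^ 18 - 1) := by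
  rw [G.poin_univ q [⟨0, by decide⟩, ⟨1, by decide⟩, ⟨2, by decide⟩, ⟨3, by decide⟩, ⟨4, by decide⟩, ⟨5, by decide⟩, ⟨6, by decide⟩] (by decide +kernel), poinE7x0, poinE7x1, poinE7x2, poinE7x3, poinE7x4, poinE7x5, poinE7x6]
  simp only [List.not_mem_nil, Set.ofPred_false, Fold.poin_empty]
  ring

theorem cardWE7 (G : Good chevE7) : Nat.card G.W = 2903040 := by
  have h := G.poin_univ (1 : ℕ) [⟨0, by decide⟩, ⟨1, by decide⟩, ⟨2, by decide⟩, ⟨3, by decide⟩, ⟨4, by decide⟩, ⟨5, by decide⟩, ⟨6, by decide⟩] (by decide +kernel)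
  rw [poinE7x0, poinE7x1, poinE7x2, poinE7x3, poinE7x4, poinE7x5, poinE7x6] at h
  simp only [List.not_mem_nil, Set.ofPred_false, Fold.poin_empty, one_pow] at h
  rw [← G.WJ_univ]
  have := Fintype.ofFinite (G.WJ Set.univ)
  rw [Nat.card_eq_fintype_card, ← Finset.card_univ, Finset.card_eq_sum_ones, ← finsum_eq_sum_of_fintype]
  exact h

theorem coxE7 (G : Good chevE7) : ∃ cs : CoxeterSystem (B := Fin chevE7.rank) CoxeterMatrix.E₇ G.W,
    ∀ i, (cs.simple i : Equiv.Perm (Fin chevE7.nroots)) = G.σ i :=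
  G.coxeter_of_chk (T := orbE7x0) rfl cmE7 _ (by decide +kernel)

theorem coxEltE7 (G : Good chevE7) : orderOf (G.wN (List.range 7)) = 18 :=
  G.ordChk_sound (T := orbE7x0) rfl cmE7 (by decide +kernel)

end CfsgH6
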