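import Cfsg.Prelude.Def_ChevE8
import Cfsg.Agent.H6.OrbCheck

/-! The Poincaré polynomial and the Coxeter system of the Weyl group of type E8. -/

set_option autoImplicit false

namespace CfsgH6

open Cfsg.Lie

set_option maxRecDepth 100000

/-- orbit table -/
def orbE8x0 : Orb where
  l := 8
  cm := 0xa78888887a78888887a78888887a78888887a77888887a87888878a88888878a
  lam := 0x98888888
  cl := [([0], [0], 1), ([1], [1], 1), ([2], [2], 1), ([3], [3], 1), ([4], [4], 1), ([5], [5], 1), ([6], [6], 1), ([7], [7], 1)]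
  O := [0x98888888, 0x179888888, 0x287988888, 0x388798888, 0x488879888, 0x588887998, 0x688888978, 0x688888799,
    0x788889779, 0x788888897, 0x888889877, 0x888897889, 0x988897987, 0x988978889, 0xa88898788, 0xa88978987,
    0xa89788889, 0xb88979788, 0xb89788987, 0xb97888889, 0xc88987898, 0xc89789788, 0xc97888987, 0xc78888889,
    0xd88988878, 0xd89797898, 0xd97889788, 0xd78888987, 0xe89798878, 0xe89878898, 0xe97897898, 0xe78889788,
    0xf89879878, 0xf97898878, 0xf97978898, 0xf78897898, 0x1089887988, 0x1097979878, 0x1078898878, 0x1098788898,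
    0x1078978898, 0x1189888789, 0x1197987988, 0x1198789878, 0x1178979878, 0x1179788898, 0x1289888887, 0x1297988789,
    0x1298797988, 0x1278987988, 0x1279789878, 0x1287888898, 0x1397988887, 0x1398798789, 0x1378988789, 0x1398878988,
    0x1379797988, 0x1387889878, 0x1498798887, 0x1478988887, 0x1498879789, 0x1479798789, 0x1479878988, 0x1487897988,
    0x1598879887, 0x1579798887, 0x1598887899, 0x1579879789, 0x1587898789, 0x1587978988, 0x1698887997, 0x1679879887,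
    0x1687898887, 0x1698888879, 0x1679887899, 0x1687979789, 0x1688788988, 0x1798888977, 0x1798888798, 0x1779887997,
    0x1787979887, 0x1779888879, 0x1787987899, 0x1788789789, 0x1898889778, 0x1879888977, 0x1879888798, 0x1887987997,
    0x1888789887, 0x1887988879, 0x1888797899, 0x1998897888, 0x1979889778, 0x1987988977, 0x1987988798, 0x1988797997,
    0x1988798879, 0x1988878899, 0x1a98978888, 0x1a79897888, 0x1a87989778, 0x1a88798977, 0x1a88798798, 0x1a88878997,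
    0x1a88879879, 0x1b99788888, 0x1b79978888, 0x1b87997888, 0x1b88799778, 0x1b88879977, 0x1b88879798, 0x1b88887989,
    0x1ca7888888, 0x1c7a788888, 0x1c87a78888, 0x1c887a7888, 0x1c8887a778, 0x1c88887a87, 0x1c888878a8, 0x1c8888878a,
    0x1d69888888, 0x1d96988888, 0x1d89698888, 0x1d88969888, 0x1d88896998, 0x1d88889689, 0x1d88889868, 0x1d88888986,
    0x1e77988888, 0x1e97798888, 0x1e89779888, 0x1e88977998, 0x1e88897978, 0x1e88897799, 0x1e88889787, 0x1f78798888,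
    0x1f97879888, 0x1f89787998, 0x1f88978978, 0x1f88978799, 0x1f88898779, 0x1f88897897, 0x2078879888, 0x2097887998,
    0x2089788978, 0x2089788799, 0x2088979779, 0x2088978897, 0x2088898877, 0x2178887998, 0x2197888978, 0x2197888799,
    0x2189789779, 0x2189788897, 0x2188979877, 0x2188987889, 0x2278888978, 0x2278888799, 0x2297889779, 0x2297888897,
    0x2289789877, 0x2289797889, 0x2288987987, 0x2378889779, 0x2378888897, 0x2397889877, 0x2397897889, 0x2389797987,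
    0x2389878889, 0x2388988788, 0x2478889877, 0x2478897889, 0x2497897987, 0x2497978889, 0x2489798788, 0x2489878987,
    0x2578897987, 0x2578978889, 0x2597898788, 0x2597978987, 0x2598788889, 0x2589879788, 0x2678898788, 0x2678978987,
    0x2679788889, 0x2697979788, 0x2698788987, 0x2689887898, 0x2778979788, 0x2779788987, 0x2787888889, 0x2797987898,
    0x2798789788, 0x2789888878, 0x2878987898, 0x2879789788, 0x2887888987, 0x2897988878, 0x2898797898, 0x2978988878,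
    0x2979797898, 0x2987889788, 0x2998798878, 0x2998878898, 0x2a79798878, 0x2a79878898, 0x2a87897898, 0x2a98879878,
    0x2b79879878, 0x2b87898878, 0x2b87978898, 0x2b98887988, 0x2c79887988, 0x2c87979878, 0x2c88788898, 0x2c98888789,
    0x2d79888789, 0x2d87987988, 0x2d88789878, 0x2d98888887, 0x2e79888887, 0x2e87988789, 0x2e88797988, 0x2f87988887,
    0x2f88798789, 0x2f88878988, 0x3088798887, 0x3088879789, 0x3188879887, 0x3188887899, 0x3288887997, 0x3288888879,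
    0x3388888977, 0x3388888798, 0x3488889778, 0x3588897888, 0x3688978888, 0x3789788888, 0x3897888888, 0x3978888888]

theorem cmE8 : ∀ i j : Fin chevE8.rank, chevE8.cartan i (chevE8.simple j) = orbE8x0.a i j := by
  decide +kernel

theorem poinE8x0 (G : Good chevE8) {R : Type*} [CommSemiring R] (q : R) :
    G.fold.poin q {c | c ∈ ([⟨0, by decide⟩, ⟨1, by decide⟩, ⟨2, by decide⟩, ⟨3, by decide⟩, ⟨4, by decide⟩, ⟨5, by decide⟩, ⟨6, by decide⟩, ⟨7, by decide⟩] : List (Fin chevE8.rank))} = (q ^ 0 + q ^ 1 + q ^ 2 + q ^ 3 + q ^ 4 + q ^ 5 + 2 * q ^ 6 + 2 * q ^ 7 + 2 * q ^ 8 + 2 * q ^ 9 + 3 * q ^ 10 + 3 * q ^ 11 + 4 * q ^ 12 + 4 * q ^ 13 + 4 * q ^ 14 + 4 * q ^ 15 + 5 * q ^ 16 + 5 * q ^ 17 + 6 * q ^ 18 + 6 * q ^ 19 + 6 * q ^ 20 + 6 * q ^ 21 + 7 * q ^ 22 + 7 * q ^ 23 + 7 * q ^ 24 + 7 * q ^ 25 + 7 * q ^ 26 + 7 * q ^ 27 + 8 * q ^ 28 + 8 * q ^ 29 + 7 * q ^ 30 + 7 * q ^ 31 + 7 * q ^ 32 + 7 * q ^ 33 + 7 * q ^ 34 + 7 * q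 ^ 35 + 6 * q ^ 36 + 6 * q ^ 37 + 6 * q ^ 38 + 6 * q ^ 39 + 5 * q ^ 40 + 5 * q ^ 41 + 4 * q ^ 42 + 4 * q ^ 43 + 4 * q ^ 44 + 4 * q ^ 45 + 3 * q ^ 46 + 3 * q ^ 47 + 2 * q ^ 48 + 2 * q ^ 49 + 2 * q ^ 50 + 2 * q ^ 51 + q ^ 52 + q ^ 53 + q ^ 54 + q ^ 55 + q ^ 56 + q ^ 57) *
      G.fold.poin q {c | c ∈ ([⟨0, by decide⟩, ⟨1, by decide⟩, ⟨2, by decide⟩, ⟨3, by decide⟩, ⟨4, by decide⟩, ⟨5, by decide⟩, ⟨6, by decide⟩] : List (Fin chevE8.rank))} := by
  rw [G.poin_step orbE8x0 rfl cmE8 [⟨0, by decide⟩, ⟨1, by decide⟩, ⟨2, by decide⟩, ⟨3, by decide⟩, ⟨4, by decide⟩, ⟨5, by decide⟩, ⟨6, by decide⟩] [⟨0, by decide⟩, ⟨1, by decide⟩, ⟨2, by decide⟩, ⟨3, by decide⟩, ⟨4, by decide⟩, ⟨5, by decide⟩, ⟨6, by decide⟩, ⟨7, by decide⟩] (by decide +kernel) rfl (by decide +kernel)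
    (by decide +kernel) (by decide +kernel) (by decide +kernel) q]
  congr 1
  have : orbE8x0.O.map orbE8x0.hi = [0, 1, 2, 3, 4, 5, 6, 6, 7, 7, 8, 8, 9, 9, 10, 10, 10, 11, 11, 11, 12, 12, 12, 12, 13, 13, 13, 13, 14, 14, 14, 14, 15, 15, 15, 15, 16, 16, 16, 16, 16, 17, 17, 17, 17, 17, 18, 18, 18, 18, 18, 18, 19, 19, 19, 19, 19, 19, 20, 20, 20, 20, 20, 20, 21, 21, 21, 21, 21, 21, 22, 22, 22, 22, 22, 22, 22, 23, 23, 23, 23, 23, 23, 23, 24, 24, 24, 24, 24, 24, 24, 25, 25, 25, 25, 25, 25, 25, 26, 26, 26, 26, 26, 26, 26, 27, 27, 27, 27, 27, 27, 27, 28, 28, 28, 28, 28, 28, 28, 28, 29, 29, 29, 29, 29, 29, 29, 29, 30, 30, 30, 30, 30, 30, 30, 31, 31, 31, 31, 31, 31, 31, 32, 32, 32, 32, 32, 32, 32, 33, 33, 33, 33, 33, 33, 33, 34, 34, 34, 34, 34, 34, 34, 35, 35, 35, 35, 35, 35, 35, 36, 36, 36, 36, 36, 36, 37, 37, 37, 37, 37, 37, 38, 38, 38, 38, 38, 38, 39, 39, 39, 39, 39, 39, 40, 40, 40, 40, 40, 41, 41, 41, 41, 41, 42,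 42, 42, 42, 43, 43, 43, 43, 44, 44, 44, 44, 45, 45, 45, 45, 46, 46, 46, 47, 47, 47, 48, 48, 49, 49, 50, 50, 51, 51, 52, 53, 54, 55, 56, 57] := by decide +kernel
  rw [show (fun x => q ^ orbE8x0.hi x) = (fun n => q ^ n) ∘ orbE8x0.hi from rfl, ← List.map_map, this]
  simp only [List.map_cons, List.map_nil, List.sum_cons, List.sum_nil]
  ring

/-- orbit table -/
def orbE8x1 : Orb where
  l := 8
  cm := 0xa78888887a78888887a78888887a78888887a77888887a87888878a88888878a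
  lam := 0x89888888
  cl := [([0], [0], 1), ([1], [1], 1), ([2], [2], 1), ([3], [3], 1), ([4], [4], 1), ([5], [5], 1), ([6], [6], 1)]
  O := [0x89888888, 0x197988888, 0x298798888, 0x398879888, 0x498887998, 0x598888978, 0x598888799, 0x698889779,
    0x698888897, 0x798889877, 0x798897889, 0x898897987, 0x898978889, 0x998898788, 0x998978987, 0x999788889,
    0xa98979788, 0xa99788987, 0xaa7888889, 0xb98987898, 0xb99789788, 0xba7888987, 0xc98988878, 0xc99797898,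
    0xca7889788, 0xd99798878, 0xd99878898, 0xda7897898, 0xe99879878, 0xea7898878, 0xea7978898, 0xf99887988,
    0xfa7979878, 0xfa8788898, 0x1099888789, 0x10a7987988, 0x10a8789878, 0x1199888887, 0x11a7988789, 0x11a8797988,
    0x12a7988887, 0x12a8798789, 0x12a8878988, 0x13a8798887, 0x13a8879789, 0x14a8879887, 0x14a8887899, 0x15a8887997,
    0x15a8888879, 0x16a8888977, 0x16a8888798, 0x17a8889778, 0x18a8897888, 0x19a8978888, 0x1aa9788888, 0x1bb7888888]

theorem poinE8x1 (G : Good chevE8) {R : Type*} [CommSemiring R] (q : R) :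
    G.fold.poin q {c | c ∈ ([⟨0, by decide⟩, ⟨1, by decide⟩, ⟨2, by decide⟩, ⟨3, by decide⟩, ⟨4, by decide⟩, ⟨5, by decide⟩, ⟨6, by decide⟩] : List (Fin chevE8.rank))} = (q ^ 0 + q ^ 1 + q ^ 2 + q ^ 3 + q ^ 4 + 2 * q ^ 5 + 2 * q ^ 6 + 2 * q ^ 7 + 2 * q ^ 8 + 3 * q ^ 9 + 3 * q ^ 10 + 3 * q ^ 11 + 3 * q ^ 12 + 3 * q ^ 13 + 3 * q ^ 14 + 3 * q ^ 15 + 3 * q ^ 16 + 3 * q ^ 17 + 3 * q ^ 18 + 2 * q ^ 19 + 2 * q ^ 20 + 2 * q ^ 21 + 2 * q ^ 22 + q ^ 23 + q ^ 24 + q ^ 25 + q ^ 26 + q ^ 27) *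
      G.fold.poin q {c | c ∈ ([⟨0, by decide⟩, ⟨1, by decide⟩, ⟨2, by decide⟩, ⟨3, by decide⟩, ⟨4, by decide⟩, ⟨5, by decide⟩] : List (Fin chevE8.rank))} := by
  rw [G.poin_step orbE8x1 rfl cmE8 [⟨0, by decide⟩, ⟨1, by decide⟩, ⟨2, by decide⟩, ⟨3, by decide⟩, ⟨4, by decide⟩, ⟨5, by decide⟩] [⟨0, by decide⟩, ⟨1, by decide⟩, ⟨2, by decide⟩, ⟨3, by decide⟩, ⟨4, by decide⟩, ⟨5, by decide⟩, ⟨6, by decide⟩] (by decide +kernel) rfl (by decide +kernel)
    (by decide +kernel) (by decide +kernel) (by decide +kernel) q]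
  congr 1
  have : orbE8x1.O.map orbE8x1.hi = [0, 1, 2, 3, 4, 5, 5, 6, 6, 7, 7, 8, 8, 9, 9, 9, 10, 10, 10, 11, 11, 11, 12, 12, 12, 13, 13, 13, 14, 14, 14, 15, 15, 15, 16, 16, 16, 17, 17, 17, 18, 18, 18, 19, 19, 20, 20, 21, 21, 22, 22, 23, 24, 25, 26, 27] := by decide +kernel
  rw [show (fun x => q ^ orbE8x1.hi x) = (fun n => q ^ n) ∘ orbE8x1.hi from rfl, ← List.map_map, this]
  simp only [List.map_cons, List.map_nil, List.sum_cons, List.sum_nil]
  ring

/-- orbit table -/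
def orbE8x2 : Orb where
  l := 8
  cm := 0xa78888887a78888887a78888887a78888887a77888887a87888878a88888878a
  lam := 0x88988888
  cl := [([0], [0], 1), ([1], [1], 1), ([2], [2], 1), ([3], [3], 1), ([4], [4], 1), ([5], [5], 1)]
  O := [0x88988888, 0x189798888, 0x289879888, 0x389887998, 0x489888978, 0x489888799, 0x589889779, 0x589888897,
    0x689889877, 0x689897889, 0x789897987, 0x789978889, 0x889898788, 0x889978987, 0x88a788889, 0x989979788,
    0x98a788987, 0xa89987898, 0xa8a789788, 0xb89988878, 0xb8a797898, 0xc8a798878, 0xc8a878898, 0xd8a879878,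
    0xe8a887988, 0xf8a888789, 0x108a888887]

theorem poinE8x2 (G : Good chevE8) {R : Type*} [CommSemiring R] (q : R) :
    G.fold.poin q {c | c ∈ ([⟨0, by decide⟩, ⟨1, by decide⟩, ⟨2, by decide⟩, ⟨3, by decide⟩, ⟨4, by decide⟩, ⟨5, by decide⟩] : List (Fin chevE8.rank))} = (q ^ 0 + q ^ 1 + q ^ 2 + q ^ 3 + 2 * q ^ 4 + 2 * q ^ 5 + 2 * q ^ 6 + 2 * q ^ 7 + 3 * q ^ 8 + 2 * q ^ 9 + 2 * q ^ 10 + 2 * q ^ 11 + 2 * q ^ 12 + q ^ 13 + q ^ 14 + q ^ 15 + q ^ 16) *
      G.fold.poin q {c | c ∈ ([⟨0, by decide⟩, ⟨1, by decide⟩, ⟨2, by decide⟩, ⟨3, by decide⟩, ⟨4, by decide⟩] : List (Fin chevE8.rank))} := by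
  rw [G.poin_step orbE8x2 rfl cmE8 [⟨0, by decide⟩, ⟨1, by decide⟩, ⟨2, by decide⟩, ⟨3, by decide⟩, ⟨4, by decide⟩] [⟨0, by decide⟩, ⟨1, by decide⟩, ⟨2, by decide⟩, ⟨3, by decide⟩, ⟨4, by decide⟩, ⟨5, by decide⟩] (by decide +kernel) rfl (by decide +kernel)
    (by decide +kernel) (by decide +kernel) (by decide +kernel) q]
  congr 1
  have : orbE8x2.O.map orbE8x2.hi = [0, 1, 2, 3, 4, 4, 5, 5, 6, 6, 7, 7, 8, 8, 8, 9, 9, 10, 10, 11, 11, 12, 12, 13, 14, 15, 16] := by decide +kernel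
  rw [show (fun x => q ^ orbE8x2.hi x) = (fun n => q ^ n) ∘ orbE8x2.hi from rfl, ← List.map_map, this]
  simp only [List.map_cons, List.map_nil, List.sum_cons, List.sum_nil]
  ring

/-- orbit table -/
def orbE8x3 : Orb where
  l := 8
  cm := 0xa78888887a78888887a78888887a78888887a77888887a87888878a88888878a
  lam := 0x88888889
  cl := [([0], [0], 1), ([1], [1], 1), ([2], [2], 1), ([3], [3], 1), ([4], [4], 1)]
  O := [0x88888889, 0x188888987, 0x288889788, 0x388897898, 0x488898878, 0x488978898, 0x588979878, 0x688987988,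
    0x788988789, 0x888988887]

theorem poinE8x3 (G : Good chevE8) {R : Type*} [CommSemiring R] (q : R) :
    G.fold.poin q {c | c ∈ ([⟨0, by decide⟩, ⟨1, by decide⟩, ⟨2, by decide⟩, ⟨3, by decide⟩, ⟨4, by decide⟩] : List (Fin chevE8.rank))} = (q ^ 0 + q ^ 1 + q ^ 2 + q ^ 3 + 2 * q ^ 4 + q ^ 5 + q ^ 6 + q ^ 7 + q ^ 8) *
      G.fold.poin q {c | c ∈ ([⟨1, by decide⟩, ⟨2, by decide⟩, ⟨3, by decide⟩, ⟨4, by decide⟩] : List (Fin chevE8.rank))} := by
  rw [G.poin_step orbE8x3 rfl cmE8 [⟨1, by decide⟩, ⟨2, by decide⟩, ⟨3, by decide⟩, ⟨4, by decide⟩] [⟨0, by decide⟩, ⟨1, by decide⟩, ⟨2, by decide⟩, ⟨3, by decide⟩, ⟨4, by decide⟩] (by decide +kernel) rfl (by decide +kernel)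
    (by decide +kernel) (by decide +kernel) (by decide +kernel) q]
  congr 1
  have : orbE8x3.O.map orbE8x3.hi = [0, 1, 2, 3, 4, 4, 5, 6, 7, 8] := by decide +kernel
  rw [show (fun x => q ^ orbE8x3.hi x) = (fun n => q ^ n) ∘ orbE8x3.hi from rfl, ← List.map_map, this]
  simp only [List.map_cons, List.map_nil, List.sum_cons, List.sum_nil]
  ring

/-- orbit table -/
def orbE8x4 : Orb where
  l := 8
  cm := 0xa78888887a78888887a78888887a78888887a77888887a87888878a88888878a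
  lam := 0x88898888
  cl := [([1], [1], 1), ([2], [2], 1), ([3], [3], 1), ([4], [4], 1)]
  O := [0x88898888, 0x188979888, 0x288987998, 0x388988978, 0x388988799, 0x488989779, 0x588997889, 0x688a78889]

theorem poinE8x4 (G : Good chevE8) {R : Type*} [CommSemiring R] (q : R) :
    G.fold.poin q {c | c ∈ ([⟨1, by decide⟩, ⟨2, by decide⟩, ⟨3, by decide⟩, ⟨4, by decide⟩] : List (Fin chevE8.rank))} = (q ^ 0 + q ^ 1 + q ^ 2 + 2 * q ^ 3 + q ^ 4 + q ^ 5 + q ^ 6) *
      G.fold.poin q {c | c ∈ ([⟨1, by decide⟩, ⟨2, by decide⟩, ⟨3, by decide⟩] : List (Fin chevE8.rank))} := by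
  rw [G.poin_step orbE8x4 rfl cmE8 [⟨1, by decide⟩, ⟨2, by decide⟩, ⟨3, by decide⟩] [⟨1, by decide⟩, ⟨2, by decide⟩, ⟨3, by decide⟩, ⟨4, by decide⟩] (by decide +kernel) rfl (by decide +kernel)
    (by decide +kernel) (by decide +kernel) (by decide +kernel) q]
  congr 1
  have : orbE8x4.O.map orbE8x4.hi = [0, 1, 2, 3, 3, 4, 5, 6] := by decide +kernel
  rw [show (fun x => q ^ orbE8x4.hi x) = (fun n => q ^ n) ∘ orbE8x4.hi from rfl, ← List.map_map, this]
  simp only [List.map_cons, List.map_nil, List.sum_cons, List.sum_nil]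
  ring

/-- orbit table -/
def orbE8x5 : Orb where
  l := 8
  cm := 0xa78888887a78888887a78888887a78888887a77888887a87888878a88888878a
  lam := 0x88888988
  cl := [([1], [1], 1), ([2], [2], 1), ([3], [3], 1)]
  O := [0x88888988, 0x188889789, 0x288897899, 0x388898879]

theorem poinE8x5 (G : Good chevE8) {R : Type*} [CommSemiring R] (q : R) :
    G.fold.poin q {c | c ∈ ([⟨1, by decide⟩, ⟨2, by decide⟩, ⟨3, by decide⟩] : List (Fin chevE8.rank))} = (q ^ 0 + q ^ 1 + q ^ 2 + q ^ 3) *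
      G.fold.poin q {c | c ∈ ([⟨1, by decide⟩, ⟨3, by decide⟩] : List (Fin chevE8.rank))} := by
  rw [G.poin_step orbE8x5 rfl cmE8 [⟨1, by decide⟩, ⟨3, by decide⟩] [⟨1, by decide⟩, ⟨2, by decide⟩, ⟨3, by decide⟩] (by decide +kernel) rfl (by decide +kernel)
    (by decide +kernel) (by decide +kernel) (by decide +kernel) q]
  congr 1
  have : orbE8x5.O.map orbE8x5.hi = [0, 1, 2, 3] := by decide +kernel
  rw [show (fun x => q ^ orbE8x5.hi x) = (fun n => q ^ n) ∘ orbE8x5.hi from rfl, ← List.map_map, this]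
  simp only [List.map_cons, List.map_nil, List.sum_cons, List.sum_nil]
  ring

/-- orbit table -/
def orbE8x6 : Orb where
  l := 8
  cm := 0xa78888887a78888887a78888887a78888887a77888887a87888878a88888878a
  lam := 0x88889888
  cl := [([1], [1], 1), ([3], [3], 1)]
  O := [0x88889888, 0x188897998, 0x288898978]

theorem poinE8x6 (G : Good chevE8) {R : Type*} [CommSemiring R] (q : R) :
    G.fold.poin q {c | c ∈ ([⟨1, by decide⟩, ⟨3, by decide⟩] : List (Fin chevE8.rank))} = (q ^ 0 + q ^ 1 + q ^ 2) *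
      G.fold.poin q {c | c ∈ ([⟨1, by decide⟩] : List (Fin chevE8.rank))} := by
  rw [G.poin_step orbE8x6 rfl cmE8 [⟨1, by decide⟩] [⟨1, by decide⟩, ⟨3, by decide⟩] (by decide +kernel) rfl (by decide +kernel)
    (by decide +kernel) (by decide +kernel) (by decide +kernel) q]
  congr 1
  have : orbE8x6.O.map orbE8x6.hi = [0, 1, 2] := by decide +kernel
  rw [show (fun x => q ^ orbE8x6.hi x) = (fun n => q ^ n) ∘ orbE8x6.hi from rfl, ← List.map_map, this]
  simp only [List.map_cons, List.map_nil, List.sum_cons, List.sum_nil]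
  ring

/-- orbit table -/
def orbE8x7 : Orb where
  l := 8
  cm := 0xa78888887a78888887a78888887a78888887a77888887a87888878a88888878a
  lam := 0x88888898
  cl := [([1], [1], 1)]
  O := [0x88888898, 0x188889878]

theorem poinE8x7 (G : Good chevE8) {R : Type*} [CommSemiring R] (q : R) :
    G.fold.poin q {c | c ∈ ([⟨1, by decide⟩] : List (Fin chevE8.rank))} = (q ^ 0 + q ^ 1) *
      G.fold.poin q {c | c ∈ ([] : List (Fin chevE8.rank))} := by
  rw [G.poin_step orbE8x7 rfl cmE8 [] [⟨1, by decide⟩] (by decide +kernel) rfl (by decide +kernel)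
    (by decide +kernel) (by decide +kernel) (by decide +kernel) q]
  congr 1
  have : orbE8x7.O.map orbE8x7.hi = [0, 1] := by decide +kernel
  rw [show (fun x => q ^ orbE8x7.hi x) = (fun n => q ^ n) ∘ orbE8x7.hi from rfl, ← List.map_map, this]
  simp only [List.map_cons, List.map_nil, List.sum_cons, List.sum_nil]
  ring

theorem poinE8 (G : Good chevE8) {R : Type*} [CommRing R] (q : R) :
    (q - 1) ^ 8 * ∑ᶠ w : G.WJ Set.univ, q ^ G.N w = (q ^ 2 - 1) * (q ^ 8 - 1) * (q ^ 12 - 1) * (q ^ 14 - 1) * (q ^ 18 - 1) * (q ^ 20 - 1) * (q ^ 24 - 1) * (q ^ 30 - 1) := by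
  rw [G.poin_univ q [⟨0, by decide⟩, ⟨1, by decide⟩, ⟨2, by decide⟩, ⟨3, by decide⟩, ⟨4, by decide⟩, ⟨5, by decide⟩, ⟨6, by decide⟩, ⟨7, by decide⟩] (by decide +kernel), poinE8x0, poinE8x1, poinE8x2, poinE8x3, poinE8x4, poinE8x5, poinE8x6, poinE8x7]
  simp only [List.not_mem_nil, Set.ofPred_false, Fold.poin_empty]
  ring

theorem cardWE8 (G : Good chevE8) : Nat.card G.W = 696729600 := by
  have h := G.poin_univ (1 : ℕ) [⟨0, by decide⟩, ⟨1, by decide⟩, ⟨2, by decide⟩, ⟨3, by decide⟩, ⟨4, by decide⟩, ⟨5, by decide⟩, ⟨6, by decide⟩, ⟨7, by decide⟩] (by decide +kernel)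
  rw [poinE8x0, poinE8x1, poinE8x2, poinE8x3, poinE8x4, poinE8x5, poinE8x6, poinE8x7] at h
  simp only [List.not_mem_nil, Set.ofPred_false, Fold.poin_empty, one_pow] at h
  rw [← G.WJ_univ]
  have := Fintype.ofFinite (G.WJ Set.univ)
  rw [Nat.card_eq_fintype_card, ← Finset.card_univ, Finset.card_eq_sum_ones, ← finsum_eq_sum_of_fintype]
  exact h

theorem coxE8 (G : Good chevE8) : ∃ cs : CoxeterSystem (B := Fin chevE8.rank) CoxeterMatrix.E₈ G.W,
    ∀ i, (cs.simple i : Equiv.Perm (Fin chevE8.nroots)) = G.σ i :=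
  G.coxeter_of_chk (T := orbE8x0) rfl cmE8 _ (by decide +kernel)

theorem coxEltE8 (G : Good chevE8) : orderOf (G.wN (List.range 8)) = 30 :=
  G.ordChk_sound (T := orbE8x0) rfl cmE8 (by decide +kernel)

end CfsgH6
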