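import Cfsg.Prelude.Def_LieTypes
import Cfsg.Prelude.Def_ChevB2
import Cfsg.Agent.H6.Torus

/-! Smith normal forms of the Cartan matrices. -/

set_option autoImplicit false

namespace CfsgH6

open Cfsg.Lie

variable (A : Type*) [CommGroup A] [Finite A] [IsCyclic A]

theorem cartanM_G2 : cartanM chevG2 = (!![2, -3; -1, 2] : Matrix (Fin 2) (Fin 2) ℤ) :=
  congrArg Matrix.of (by decide +kernel : (fun i j : Fin 2 => chevG2.cartan i (chevG2.simple j)) =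
    ![![2, -3], ![-1, 2]])

theorem card_ker_G2 : Nat.card (pw A (cartanM chevG2)).ker = 1 := by
  rw [cartanM_G2]
  refine (card_ker_pw (ι := Fin 2) (d := ![1, 1])
    (P := !![0, -1; 1, 2])
    (P' := !![2, 1; -1, 0])
    (Q := !![1, 2; 0, 1])
    (Q' := !![1, -2; 0, 1])
    (by decide +kernel) (by decide +kernel) (by decide +kernel)).trans ?_
  simp [Fin.prod_univ_succ, sq]

theorem pw_inj_G2 (B : Type*) [CommGroup B] : Function.Injective (pw B (cartanM chevG2)) := by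
  rw [cartanM_G2]
  exact pw_injective (ι := Fin 2) (κ := Fin 2)
    (N := !![2, 3; 1, 2]) (by decide +kernel)

theorem cartanM_B2 : cartanM chevB2 = (!![2, -2; -1, 2] : Matrix (Fin 2) (Fin 2) ℤ) :=
  congrArg Matrix.of (by decide +kernel : (fun i j : Fin 2 => chevB2.cartan i (chevB2.simple j)) =
    ![![2, -2], ![-1, 2]])

theorem card_ker_B2 : Nat.card (pw A (cartanM chevB2)).ker = Nat.gcd 2 (Nat.card A) := by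
  rw [cartanM_B2]
  refine (card_ker_pw (ι := Fin 2) (d := ![1, 2])
    (P := !![0, -1; 1, 2])
    (P' := !![2, 1; -1, 0])
    (Q := !![1, 2; 0, 1])
    (Q' := !![1, -2; 0, 1])
    (by decide +kernel) (by decide +kernel) (by decide +kernel)).trans ?_
  simp [Fin.prod_univ_succ, sq]

theorem cartanM_D4 : cartanM chevD4 = (!![2, -1, 0, 0; -1, 2, -1, -1; 0, -1, 2, 0; 0, -1, 0, 2] : Matrix (Fin 4) (Fin 4) ℤ) :=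
  congrArg Matrix.of (by decide +kernel : (fun i j : Fin 4 => chevD4.cartan i (chevD4.simple j)) =
    ![![2, -1, 0, 0], ![-1, 2, -1, -1], ![0, -1, 2, 0], ![0, -1, 0, 2]])

theorem card_ker_D4 : Nat.card (pw A (cartanM chevD4)).ker = Nat.gcd 2 (Nat.card A) ^ 2 := by
  rw [cartanM_D4]
  refine (card_ker_pw (ι := Fin 4) (d := ![1, 1, 2, 2])
    (P := !![-1, 0, 0, 0; -2, -1, 0, 0; -3, -2, -1, 0; 2, 2, 1, 1])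
    (P' := !![-1, 0, 0, 0; 2, -1, 0, 0; -1, 2, -1, 0; -1, 0, 1, 1])
    (Q := !![0, 0, 0, 1; 1, 0, 0, 2; 0, 1, -1, 1; 0, 0, 1, 2])
    (Q' := !![-2, 1, 0, 0; -3, 0, 1, 1; -2, 0, 0, 1; 1, 0, 0, 0])
    (by decide +kernel) (by decide +kernel) (by decide +kernel)).trans ?_
  simp [Fin.prod_univ_succ, sq]

theorem cartanM_F4 : cartanM chevF4 = (!![2, -1, 0, 0; -1, 2, -2, 0; 0, -1, 2, -1; 0, 0, -1, 2] : Matrix (Fin 4) (Fin 4) ℤ) :=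
  congrArg Matrix.of (by decide +kernel : (fun i j : Fin 4 => chevF4.cartan i (chevF4.simple j)) =
    ![![2, -1, 0, 0], ![-1, 2, -2, 0], ![0, -1, 2, -1], ![0, 0, -1, 2]])

theorem card_ker_F4 : Nat.card (pw A (cartanM chevF4)).ker = 1 := by
  rw [cartanM_F4]
  refine (card_ker_pw (ι := Fin 4) (d := ![1, 1, 1, 1])
    (P := !![-1, 0, 0, 0; 1, 0, -1, 0; -2, -1, 0, 0; -2, -2, -2, -1])
    (P' := !![-1, 0, 0, 0; 2, 0, -1, 0; -1, -1, 0, 0; 0, 2, 2, -1])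
    (Q := !![0, 0, 1, -2; 1, 0, 2, -4; 0, 0, 2, -3; 0, 1, 2, -2])
    (Q' := !![-2, 1, 0, 0; 2, 0, -2, 1; -3, 0, 2, 0; -2, 0, 1, 0])
    (by decide +kernel) (by decide +kernel) (by decide +kernel)).trans ?_
  simp [Fin.prod_univ_succ, sq]

theorem pw_inj_F4 (B : Type*) [CommGroup B] : Function.Injective (pw B (cartanM chevF4)) := by
  rw [cartanM_F4]
  exact pw_injective (ι := Fin 4) (κ := Fin 4)
    (N := !![2, 3, 4, 2; 3, 6, 8, 4; 2, 4, 6, 3; 1, 2, 3, 2]) (by decide +kernel)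

theorem cartanM_E6 : cartanM chevE6 = (!![2, 0, -1, 0, 0, 0; 0, 2, 0, -1, 0, 0; -1, 0, 2, -1, 0, 0; 0, -1, -1, 2, -1, 0; 0, 0, 0, -1, 2, -1; 0, 0, 0, 0, -1, 2] : Matrix (Fin 6) (Fin 6) ℤ) :=
  congrArg Matrix.of (by decide +kernel : (fun i j : Fin 6 => chevE6.cartan i (chevE6.simple j)) =
    ![![2, 0, -1, 0, 0, 0], ![0, 2, 0, -1, 0, 0], ![-1, 0, 2, -1, 0, 0], ![0, -1, -1, 2, -1, 0], ![0, 0, 0, -1, 2, -1], ![0, 0, 0, 0, -1, 2]])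

theorem card_ker_E6 : Nat.card (pw A (cartanM chevE6)).ker = Nat.gcd 3 (Nat.card A) := by
  rw [cartanM_E6]
  refine (card_ker_pw (ι := Fin 6) (d := ![1, 1, 1, 1, 1, 3])
    (P := !![-1, 0, 0, 0, 0, 0; 0, -1, 0, 0, 0, 0; 1, -2, 0, -1, 0, 0; 2, -3, 0, -2, -1, 0; -2, 1, -1, 0, 0, 0; -5, 0, -4, -3, -2, -1])
    (P' := !![-1, 0, 0, 0, 0, 0; 0, -1, 0, 0, 0, 0; 2, -1, 0, 0, -1, 0; -1, 2, -1, 0, 0, 0; 0, -1, 2, -1, 0, 0; 0, 0, -1, 2, 4, -1])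
    (Q := !![0, 0, 0, 0, 1, -2; 0, 0, 0, 0, 2, -3; 1, 0, 0, 0, 2, -4; 0, 1, 0, 0, 4, -6; 0, 0, 1, 0, 4, -5; 0, 0, 0, 1, 4, -4])
    (Q' := !![-2, 0, 1, 0, 0, 0; 0, -2, 0, 1, 0, 0; 2, -3, 0, 0, 1, 0; 4, -4, 0, 0, 0, 1; -3, 2, 0, 0, 0, 0; -2, 1, 0, 0, 0, 0])
    (by decide +kernel) (by decide +kernel) (by decide +kernel)).trans ?_
  simp [Fin.prod_univ_succ, sq]

theorem cartanM_E7 : cartanM chevE7 = (!![2, 0, -1, 0, 0, 0, 0; 0, 2, 0, -1, 0, 0, 0; -1, 0, 2, -1, 0, 0, 0; 0, -1, -1, 2, -1, 0, 0; 0, 0, 0, -1, 2, -1, 0; 0, 0, 0, 0, -1, 2, -1; 0, 0, 0, 0, 0, -1, 2] : Matrix (Fin 7) (Fin 7) ℤ) :=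
  congrArg Matrix.of (by decide +kernel : (fun i j : Fin 7 => chevE7.cartan i (chevE7.simple j)) =
    ![![2, 0, -1, 0, 0, 0, 0], ![0, 2, 0, -1, 0, 0, 0], ![-1, 0, 2, -1, 0, 0, 0], ![0, -1, -1, 2, -1, 0, 0], ![0, 0, 0, -1, 2, -1, 0], ![0, 0, 0, 0, -1, 2, -1], ![0, 0, 0, 0, 0, -1, 2]])

theorem card_ker_E7 : Nat.card (pw A (cartanM chevE7)).ker = Nat.gcd 2 (Nat.card A) := by
  rw [cartanM_E7]
  refine (card_ker_pw (ι := Fin 7) (d := ![1, 1, 1, 1, 1, 1, 2])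
    (P := !![-1, 0, 0, 0, 0, 0, 0; 0, -1, 0, 0, 0, 0, 0; 1, -2, 0, -1, 0, 0, 0; 2, -3, 0, -2, -1, 0, 0; 3, -4, 0, -3, -2, -1, 0; -2, 1, -1, 0, 0, 0, 0; -4, -1, -4, -4, -3, -2, -1])
    (P' := !![-1, 0, 0, 0, 0, 0, 0; 0, -1, 0, 0, 0, 0, 0; 2, -1, 0, 0, 0, -1, 0; -1, 2, -1, 0, 0, 0, 0; 0, -1, 2, -1, 0, 0, 0; 0, 0, -1, 2, -1, 0, 0; 0, 0, 0, -1, 2, 4, -1])
    (Q := !![0, 0, 0, 0, 0, 1, -2; 0, 0, 0, 0, 0, 2, -3; 1, 0, 0, 0, 0, 2, -4; 0, 1, 0, 0, 0, 4, -6; 0, 0, 1, 0, 0, 4, -5; 0, 0, 0, 1, 0, 4, -4; 0, 0, 0, 0, 1, 4, -3])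
    (Q' := !![-2, 0, 1, 0, 0, 0, 0; 0, -2, 0, 1, 0, 0, 0; 2, -3, 0, 0, 1, 0, 0; 4, -4, 0, 0, 0, 1, 0; 6, -5, 0, 0, 0, 0, 1; -3, 2, 0, 0, 0, 0, 0; -2, 1, 0, 0, 0, 0, 0])
    (by decide +kernel) (by decide +kernel) (by decide +kernel)).trans ?_
  simp [Fin.prod_univ_succ, sq]

theorem cartanM_E8 : cartanM chevE8 = (!![2, 0, -1, 0, 0, 0, 0, 0; 0, 2, 0, -1, 0, 0, 0, 0; -1, 0, 2, -1, 0, 0, 0, 0; 0, -1, -1, 2, -1, 0, 0, 0; 0, 0, 0, -1, 2, -1, 0, 0; 0, 0, 0, 0, -1, 2, -1, 0; 0, 0, 0, 0, 0, -1, 2, -1; 0, 0, 0, 0, 0, 0, -1, 2] : Matrix (Fin 8) (Fin 8) ℤ) :=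
  congrArg Matrix.of (by decide +kernel : (fun i j : Fin 8 => chevE8.cartan i (chevE8.simple j)) =
    ![![2, 0, -1, 0, 0, 0, 0, 0], ![0, 2, 0, -1, 0, 0, 0, 0], ![-1, 0, 2, -1, 0, 0, 0, 0], ![0, -1, -1, 2, -1, 0, 0, 0], ![0, 0, 0, -1, 2, -1, 0, 0], ![0, 0, 0, 0, -1, 2, -1, 0], ![0, 0, 0, 0, 0, -1, 2, -1], ![0, 0, 0, 0, 0, 0, -1, 2]])

theorem card_ker_E8 : Nat.card (pw A (cartanM chevE8)).ker = 1 := by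
  rw [cartanM_E8]
  refine (card_ker_pw (ι := Fin 8) (d := ![1, 1, 1, 1, 1, 1, 1, 1])
    (P := !![-1, 0, 0, 0, 0, 0, 0, 0; 0, -1, 0, 0, 0, 0, 0, 0; 1, -2, 0, -1, 0, 0, 0, 0; 2, -3, 0, -2, -1, 0, 0, 0; 3, -4, 0, -3, -2, -1, 0, 0; 4, -5, 0, -4, -3, -2, -1, 0; -2, 1, -1, 0, 0, 0, 0, 0; -3, -2, -4, -5, -4, -3, -2, -1])
    (P' := !![-1, 0, 0, 0, 0, 0, 0, 0; 0, -1, 0, 0, 0, 0, 0, 0; 2, -1, 0, 0, 0, 0, -1, 0; -1, 2, -1, 0, 0, 0, 0, 0; 0, -1, 2, -1, 0, 0, 0, 0; 0, 0, -1, 2, -1, 0, 0, 0; 0, 0, 0, -1, 2, -1, 0, 0; 0, 0, 0, 0, -1, 2, 4, -1])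
    (Q := !![0, 0, 0, 0, 0, 0, 1, -2; 0, 0, 0, 0, 0, 0, 2, -3; 1, 0, 0, 0, 0, 0, 2, -4; 0, 1, 0, 0, 0, 0, 4, -6; 0, 0, 1, 0, 0, 0, 4, -5; 0, 0, 0, 1, 0, 0, 4, -4; 0, 0, 0, 0, 1, 0, 4, -3; 0, 0, 0, 0, 0, 1, 4, -2])
    (Q' := !![-2, 0, 1, 0, 0, 0, 0, 0; 0, -2, 0, 1, 0, 0, 0, 0; 2, -3, 0, 0, 1, 0, 0, 0; 4, -4, 0, 0, 0, 1, 0, 0; 6, -5, 0, 0, 0, 0, 1, 0; 8, -6, 0, 0, 0, 0, 0, 1; -3, 2, 0, 0, 0, 0, 0, 0; -2, 1, 0, 0, 0, 0, 0, 0])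
    (by decide +kernel) (by decide +kernel) (by decide +kernel)).trans ?_
  simp [Fin.prod_univ_succ, sq]

theorem pw_inj_E8 (B : Type*) [CommGroup B] : Function.Injective (pw B (cartanM chevE8)) := by
  rw [cartanM_E8]
  exact pw_injective (ι := Fin 8) (κ := Fin 8)
    (N := !![4, 5, 7, 10, 8, 6, 4, 2; 5, 8, 10, 15, 12, 9, 6, 3; 7, 10, 14, 20, 16, 12, 8, 4; 10, 15, 20, 30, 24, 18, 12, 6; 8, 12, 16, 24, 20, 15, 10, 5; 6, 9, 12, 18, 15, 12, 8, 4; 4, 6, 8, 12, 10, 8, 6, 3; 2, 3, 4, 6, 5, 4, 3, 2]) (by decide +kernel)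

end CfsgH6
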