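import Mathlib
import Cfsg.Agent.H6.Levi

/-! Optimal parabolic subgroups of unipotent subsets. -/

set_option autoImplicit false

namespace CfsgH6

open Cfsg.Lie

variable {D : ChevalleyDatum}

namespace Good

variable (G : Good D) {R : Type*} [CommRing R]

/-- additive functions on the roots -/
def Add (φ : Fin D.nroots → R) : Prop := ∀ r, φ r = ∑ i, G.vec r i * φ (G.sm i)

theorem add_lin (l : Fin D.rank → R) : G.Add fun r => ∑ i, G.vec r i * l i := fun r =>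
  Finset.sum_congr rfl fun i _ => by simp [G.vec_sm, Pi.single_apply]

theorem add_A (r : Fin D.nroots) : G.Add (G.A r) := G.A_lin r

theorem add_fn (f : Fin D.rank → ℤ) : G.Add (G.fn f) := by
  convert G.add_lin f using 2 with r
  simp [fn, fv, mul_comm]

variable {G} {φ : Fin D.nroots → R}

theorem Add.comb (h : G.Add φ) {k a b : Fin D.nroots} {x y : ℤ}
    (e : ∀ i, G.vec k i = x * G.vec a i + y * G.vec b i) : φ k = x * φ a + y * φ b := by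
  rw [h k, h a, h b, Finset.mul_sum, Finset.mul_sum, ← Finset.sum_add_distrib]
  exact Finset.sum_congr rfl fun i _ => by rw [e]; push_cast; ring

theorem Add.rev (h : G.Add φ) (r : Fin D.nroots) : φ r.rev = - φ r := by
  rw [h.comb (k := r.rev) (a := r) (b := r) (x := -1) (y := 0) fun i => by simp [G.vec_rev]]; simp

theorem Add.comp (h : G.Add φ) {w : Equiv.Perm (Fin D.nroots)} (hw : G.Lin w) : G.Add fun r => φ (w r) := fun r => by
  simp only [h (w _), hw r, Int.cast_sum, Finset.sum_mul, Finset.mul_sum]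
  rw [Finset.sum_comm]
  simp [mul_assoc]

theorem Add.σ_eq (h : G.Add φ) {i : Fin D.rank} (e : φ (G.sm i) = 0) (r : Fin D.nroots) : φ (G.σ i r) = φ r := by
  rw [h.comb (G.σ_vec i r), e]; simp

theorem Add.WJ_eq (h : G.Add φ) {w : Equiv.Perm (Fin D.nroots)} (hw : w ∈ G.WJ {i | φ (G.sm i) = 0})
    (r : Fin D.nroots) : φ (w r) = φ r :=
  G.WJ_induction (p := fun w => φ (w r) = φ r) rfl (fun i hi w _ e => (h.σ_eq hi _).trans e) hw

theorem Add.eq_zero (h : G.Add φ) {r : Fin D.nroots} (hr : G.InJ {i | φ (G.sm i) = 0} r) : φ r = 0 := by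
  rw [h r]
  refine Finset.sum_eq_zero fun i _ => ?_
  by_cases e : φ (G.sm i) = 0
  · simp [e]
  · simp [hr i e]

variable [LinearOrder R] [IsStrictOrderedRing R]

theorem Add.nonneg (h : G.Add φ) (hd : ∀ i, 0 ≤ φ (G.sm i)) {r : Fin D.nroots} (hr : G.Pos r) : 0 ≤ φ r := by
  rw [h r]; exact Finset.sum_nonneg fun i _ => mul_nonneg (Int.cast_nonneg (hr i)) (hd i)

theorem Add.pos_of (h : G.Add φ) (hd : ∀ i, 0 ≤ φ (G.sm i)) {r : Fin D.nroots} (hr : 0 < φ r) : G.Pos r := by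
  by_contra e
  have := h.nonneg hd (G.pos_rev.2 e)
  rw [h.rev] at this
  linarith

theorem Add.exists_dom (h : G.Add φ) : ∃ w ∈ G.W, ∀ i, 0 ≤ φ (w (G.sm i)) := by
  classical
  obtain ⟨w, hw, hm⟩ := Set.exists_min_image (G.W : Set (Equiv.Perm (Fin D.nroots)))
    (fun w => (Finset.univ.filter fun r => G.Pos r ∧ φ (w r) < 0).card) (Set.toFinite _) ⟨1, one_mem _⟩
  refine ⟨w, hw, fun i => not_lt.1 fun e => (hm _ (mul_mem hw (G.σ_mem i))).not_gt ?_⟩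
  rw [← Finset.card_image_of_injective _ (G.σ i).injective]
  refine Finset.card_lt_card ⟨fun r hr => ?_, fun hs => ?_⟩
  · obtain ⟨s, hs, rfl⟩ := Finset.mem_image.1 hr
    simp only [Finset.mem_filter, Finset.mem_univ, true_and] at hs ⊢
    refine ⟨G.pos_σ hs.1 ?_, hs.2⟩
    rintro rfl
    have := hs.2
    rw [Equiv.Perm.mul_apply, G.σ_sm, rev_W hw, h.rev] at this
    linarith
  · obtain ⟨s, hs, e'⟩ := Finset.mem_image.1 (hs (Finset.mem_filter.2 ⟨Finset.mem_univ _, G.pos_sm i, e⟩))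
    rw [← G.σ_sm_rev, (G.σ i).injective.eq_iff] at e'
    exact G.not_pos_sm_rev i (e' ▸ (Finset.mem_filter.1 hs).2.1)

theorem Add.mem_WJ (h : G.Add φ) (hd : ∀ i, 0 ≤ φ (G.sm i)) {w : Equiv.Perm (Fin D.nroots)} (hw : w ∈ G.W)
    (h' : ∀ i, 0 ≤ φ (w (G.sm i))) : w ∈ G.WJ {i | φ (G.sm i) = 0} := by
  refine WJ_induction_N' (J := Set.univ) (p := fun w => (∀ i, 0 ≤ φ (w (G.sm i))) → w ∈ G.WJ {i | φ (G.sm i) = 0})
    (fun _ => one_mem _) (fun i _ w hw hp ih h1 => ?_) (G.WJ_univ ▸ hw) h'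
  have h2 := (h.comp (lin_W (mul_mem (G.σ_mem i) (G.WJ_le _ hw)))).nonneg h1 hp
  rw [Equiv.Perm.mul_apply, perm_apply_inv, G.σ_sm, h.rev] at h2
  have h3 : φ (G.sm i) = 0 := by linarith [hd i]
  exact mul_mem (G.σ_mem_WJ h3) (ih fun j => h.σ_eq h3 _ ▸ h1 j)

theorem Nil.exists_W {f : Fin D.rank → ℤ} {S : Set (Fin D.nroots)} (hS : G.Nil f S) :
    ∃ w ∈ G.W, ∀ r ∈ S, G.Pos (w r) := by
  obtain ⟨w, hw, h⟩ := (G.add_fn f).exists_dom
  exact ⟨w⁻¹, inv_mem hw, fun r hr => ((G.add_fn f).comp (lin_W hw)).pos_of h (by simpa using hS.pos r hr)⟩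

end Good

namespace Cover

variable {G : Good D} {F : Type*} [Field F] {Γ : Type*} [Group Γ] (C : Cover G F Γ)

theorem mem_pos_of_mem_U {f : Fin D.rank → ℤ} {S : Set (Fin D.nroots)} (hS : G.Nil f S) {y : Γ} (h : y ∈ C.US S)
    (h' : y ∈ C.U) : y ∈ C.US (S ∩ {r | G.Pos r}) := by
  obtain ⟨a, ha, b, hb, rfl⟩ := C.exists_mul hS (A := S ∩ {r | G.Pos r}) (B := S ∩ {r | ¬ G.Pos r})
    (fun s => by simp only [Set.mem_inter_iff, Set.mem_setOf_eq]; tauto) h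
  have : b ∈ C.B ⊓ C.V := ⟨C.U_le_B ((mul_mem_cancel_left (C.US_mono Set.inter_subset_right ha)).1 h'),
    C.US_mono Set.inter_subset_right hb⟩
  rw [C.B_inf_V, Subgroup.mem_bot] at this
  simpa [this] using ha

theorem mem_inf' {f f' : Fin D.rank → ℤ} {S S' : Set (Fin D.nroots)} (hS : G.Nil f S) (hS' : G.Nil f' S') {y : Γ}
    (h : y ∈ C.US S) (h' : y ∈ C.US S') : y ∈ C.US (S ∩ S') := by
  obtain ⟨w, hw, h1⟩ := hS.exists_W
  obtain ⟨m, -, hm⟩ := C.exists_NN hw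
  obtain ⟨g, h2⟩ := hS'.preimage (Good.lin_W (inv_mem hw))
  have h3 : m * y * m⁻¹ ∈ C.US (⇑w⁻¹ ⁻¹' S) := hm.conj_mem (fun s hs => by simpa using hs) h
  have h4 : ⇑w⁻¹ ⁻¹' S ⊆ {r | G.Pos r} := fun r hr => by simpa using h1 _ hr
  have h5 := C.mem_pos_of_mem_U h2 (hm.conj_mem (fun s hs => by simpa using hs) h') (C.US_mono h4 h3)
  have := hm.conj_mem' (T := S ∩ S') (fun s hs => ⟨hs.1, hs.2.1⟩) (C.mem_inf G.nil_pos h4 Set.inter_subset_right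
    (hS.closed.preimage (Good.lin_W (inv_mem hw))) (h2.closed.inter G.nil_pos.closed) h3 h5 rfl)
  simpa [mul_assoc] using this

/-- admissible weights -/
structure Wt (c : Fin D.nroots → ℝ) : Prop where
  one_le : ∀ r, 1 ≤ c r
  le_two : ∀ r, c r ≤ 2
  inv : ∀ w ∈ G.W, ∀ r, c (w r) = c r
  conj : ∀ ψ : Fin D.nroots → ℝ, G.Add (fun r => c r * ψ r) → (∀ i, 0 ≤ ψ (G.sm i)) → ∀ r, G.Pos r → ∀ s, 1 ≤ ψ s →
    ∀ t u, C.x r t * C.x s u * (C.x r t)⁻¹ ∈ C.US {r | 1 ≤ ψ r}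

theorem wt_one : C.Wt 1 where
  one_le _ := le_rfl
  le_two _ := one_le_two
  inv _ _ _ := rfl
  conj ψ h hd r hr s hs t u := by
    simp only [Pi.one_apply, one_mul] at h
    refine C.x_conj_mem (fun e => ?_) (fun s hs k i j hi hj e => ?_) t (C.x_mem hs u)
    · have := h.nonneg hd hr
      rw [Set.mem_setOf_eq, h.rev] at e
      linarith
    · have := h.nonneg hd hr
      have h1 : (1 : ℝ) ≤ j := by exact_mod_cast hj
      rw [Set.mem_setOf_eq] at hs ⊢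
      rw [h.comb e]; push_cast; nlinarith [mul_nonneg (Nat.cast_nonneg i : (0 : ℝ) ≤ i) this]

/-- admissible pairs -/
def Adm (c : Fin D.nroots → ℝ) (X : Set Γ) (g : Γ) (ψ : Fin D.nroots → ℝ) : Prop :=
  g ∈ C.Gr ∧ G.Add (fun r => c r * ψ r) ∧ ∀ x ∈ X, g * x * g⁻¹ ∈ C.US {r | 1 ≤ ψ r}

/-- optimal pairs -/
def Opt (c : Fin D.nroots → ℝ) (X : Set Γ) (g : Γ) (ψ : Fin D.nroots → ℝ) : Prop :=
  C.Adm c X g ψ ∧ (∀ i, 0 ≤ ψ (G.sm i)) ∧ ∀ g' ψ', C.Adm c X g' ψ' → ∑ r, ψ r ^ 2 ≤ ∑ r, ψ' r ^ 2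

variable {C} {c : Fin D.nroots → ℝ} (hc : C.Wt c) {X : Set Γ}
include hc

theorem Wt.pos (r : Fin D.nroots) : 0 < c r := one_pos.trans_le (hc.one_le r)

theorem Wt.comp {ψ : Fin D.nroots → ℝ} (h : G.Add fun r => c r * ψ r) {w : Equiv.Perm (Fin D.nroots)} (hw : w ∈ G.W) :
    G.Add fun r => c r * ψ (w r) := by
  simpa only [hc.inv w hw] using h.comp (Good.lin_W hw)

theorem Wt.nil {ψ : Fin D.nroots → ℝ} (h : G.Add fun r => c r * ψ r) (hd : ∀ i, 0 ≤ ψ (G.sm i)) :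
    G.Nil 1 {r | 1 ≤ ψ r} := by
  refine G.nil_pos.subset (fun r hr => h.pos_of (fun i => mul_nonneg (hc.pos _).le (hd i))
    (mul_pos (hc.pos r) (one_pos.trans_le hr))) fun r hr s hs k i j hi hj e => ?_
  have h1 : (1 : ℝ) ≤ j := by exact_mod_cast hj
  have h2 : (1 : ℝ) ≤ i := by exact_mod_cast hi
  have h3 := h.comb e
  have h4 : 1 ≤ c r * ψ r := one_le_mul_of_one_le_of_one_le (hc.one_le r) hr
  have h5 : 1 ≤ c s * ψ s := one_le_mul_of_one_le_of_one_le (hc.one_le s) hs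
  push_cast at h3
  exact le_of_mul_le_mul_left (by nlinarith [hc.le_two k]) (hc.pos k)

theorem Wt.B_conj {ψ : Fin D.nroots → ℝ} (h : G.Add fun r => c r * ψ r) (hd : ∀ i, 0 ≤ ψ (G.sm i)) {b : Γ}
    (hb : b ∈ C.B) {v : Γ} (hv : v ∈ C.US {r | 1 ≤ ψ r}) : b * v * b⁻¹ ∈ C.US {r | 1 ≤ ψ r} := by
  obtain ⟨u, hu, k, hk, rfl⟩ := C.mem_B.1 hb
  have := C.US_induction' (p := fun u => u * (k * v * k⁻¹) * u⁻¹ ∈ C.US {r | 1 ≤ ψ r}) (by simpa using C.HH_conj hk hv)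
    (fun g _ r hr t ih => by simpa [mul_assoc] using C.conj_mem_of_gen (hc.conj ψ h hd r hr · · t) ih) hu
  simpa [mul_assoc] using this

theorem Wt.exists_opt (hX : X ⊆ C.U) : ∃ g ψ, C.Opt c X g ψ := by
  have h0 : C.Adm c X 1 fun r => 2 * G.fn 1 r / c r := ⟨one_mem _, fun r => by
    simp only [mul_div_cancel₀ _ (hc.pos _).ne']
    rw [G.add_fn 1 r]; push_cast; rw [Finset.mul_sum]; exact Finset.sum_congr rfl fun i _ => by ring,
    fun x hx => by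
      rw [one_mul, inv_one, mul_one]
      refine C.US_mono (fun r hr => (le_div_iff₀ (hc.pos r)).2 ?_) (hX hx)
      have : (1 : ℝ) ≤ G.fn 1 r := by exact_mod_cast G.nil_pos.pos r hr
      linarith [hc.le_two r]⟩
  have h1 : IsClosed {ψ | ∃ g, C.Adm c X g ψ} := by
    have : {ψ | ∃ g, C.Adm c X g ψ} = ⋃ S : {S : Set (Fin D.nroots) // ∃ g ∈ C.Gr, ∀ x ∈ X, g * x * g⁻¹ ∈ C.US S},
        (⋂ r, {ψ | c r * ψ r = ∑ i, G.vec r i * (c (G.sm i) * ψ (G.sm i))}) ∩ ⋂ r ∈ S.1, {ψ | 1 ≤ ψ r} := by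
      ext ψ
      simp only [Set.mem_setOf_eq, Set.mem_iUnion, Set.mem_inter_iff, Set.mem_iInter]
      exact ⟨fun ⟨g, h1, h2, h3⟩ => ⟨⟨_, g, h1, h3⟩, h2, fun _ h => h⟩,
        fun ⟨⟨S, g, h1, h3⟩, h2, h4⟩ => ⟨g, h1, h2, fun x hx => C.US_mono h4 (h3 x hx)⟩⟩
    rw [this]
    exact isClosed_iUnion_of_finite fun S => (isClosed_iInter fun r => isClosed_eq (by fun_prop) (by fun_prop)).inter
      (isClosed_biInter fun r _ => isClosed_le (by fun_prop) (by fun_prop))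
  obtain ⟨ψ, ⟨g, h2⟩, h3⟩ := ContinuousOn.exists_isMinOn' (f := fun ψ : Fin D.nroots → ℝ => ∑ r, ψ r ^ 2)
    (by fun_prop) h1 ⟨1, h0⟩ (Filter.Eventually.filter_mono inf_le_left (by
      filter_upwards [(tendsto_norm_cocompact_atTop (E := Fin D.nroots → ℝ)).eventually_ge_atTop
        √(∑ r, (2 * G.fn 1 r / c r : ℝ) ^ 2)] with ψ h
      refine (Real.sqrt_le_sqrt_iff (by positivity)).1 (h.trans ((pi_norm_le_iff_of_nonneg (by positivity)).2 fun r =>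
        Real.abs_le_sqrt (Finset.single_le_sum (f := fun r => ψ r ^ 2) (fun _ _ => by positivity) (Finset.mem_univ r))))))
  obtain ⟨w, hw, h4⟩ := h2.2.1.exists_dom
  obtain ⟨m, hm, h5⟩ := C.exists_NN hw
  refine ⟨m⁻¹ * g, fun r => ψ (w r), ⟨mul_mem (inv_mem (C.NN_le_Gr hm)) h2.1, hc.comp h2.2.1 hw, fun x hx => ?_⟩,
    fun i => nonneg_of_mul_nonneg_right (h4 i) (hc.pos _), fun g' ψ' h => ?_⟩
  · simpa [mul_assoc] using h5.conj_mem' (T := {r | 1 ≤ ψ (w r)}) (fun s hs => by simpa using hs) (h2.2.2 x hx)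
  · rw [Equiv.sum_comp w fun r => ψ r ^ 2]
    exact h3 ⟨g', h⟩

theorem Wt.unique {g g' : Γ} {ψ ψ' : Fin D.nroots → ℝ} (h : C.Opt c X g ψ) (h' : C.Opt c X g' ψ') :
    ψ = ψ' ∧ g' * g⁻¹ ∈ C.PJ {i | ψ (G.sm i) = 0} := by
  obtain ⟨u, hu, m, hm, w, hw, h1, b, hb, e⟩ := C.bruhat_PJ (C.PJ_univ ▸ mul_mem h'.1.1 (inv_mem h.1.1))
  rw [G.WJ_univ] at hw
  obtain ⟨f, h2⟩ := (hc.nil h'.1.2.1 h'.2.1).preimage (Good.lin_W hw)
  have h3 : C.Adm c X (b * g) fun r => (ψ r + ψ' (w r)) / 2 := ⟨mul_mem (C.B_le_Gr hb) h.1.1, fun r => by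
    have e1 := h.1.2.1 r
    have e2 := hc.comp h'.1.2.1 hw r
    simp only [mul_add, ← mul_div_assoc, add_div, Finset.sum_add_distrib, ← Finset.sum_div] at e1 e2 ⊢
    rw [e1, e2], fun x hx => by
      have h4 := hc.B_conj h.1.2.1 h.2.1 hb (h.1.2.2 x hx)
      have h5 := h1.conj_mem' (T := w ⁻¹' {r | 1 ≤ ψ' r}) (fun s hs => by simpa using hs)
        (hc.B_conj h'.1.2.1 h'.2.1 (C.U_le_B (inv_mem hu)) (h'.1.2.2 x hx))
      rw [mul_inv_eq_iff_eq_mul.1 e] at h5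
      simp only [mul_assoc, mul_inv_rev, inv_inv, inv_mul_cancel_left, inv_mul_cancel, mul_one] at h4 h5 ⊢
      refine C.US_mono (fun r hr => ?_) (C.mem_inf' (hc.nil h.1.2.1 h.2.1) h2 h4 h5)
      have h6 : 1 ≤ ψ r := hr.1
      have h7 : 1 ≤ ψ' (w r) := hr.2
      rw [Set.mem_setOf_eq]; linarith⟩
  have h4 : ∀ r, ψ r = ψ' (w r) := fun r => by
    have h5 := h.2.2 _ _ h3
    have h6 := h'.2.2 _ _ h.1
    rw [← Equiv.sum_comp w fun r => ψ' r ^ 2] at h6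
    have h7 : ∑ r, ((ψ r + ψ' (w r)) / 2) ^ 2 = (∑ r, ψ r ^ 2 + ∑ r, ψ' (w r) ^ 2) / 2 -
        (∑ r, (ψ r - ψ' (w r)) ^ 2) / 4 := by
      simp only [← Finset.sum_add_distrib, Finset.sum_div, ← Finset.sum_sub_distrib]
      exact Finset.sum_congr rfl fun _ _ => by ring
    have := Finset.single_le_sum (f := fun r => (ψ r - ψ' (w r)) ^ 2) (fun _ _ => by positivity) (Finset.mem_univ r)
    nlinarith [sq_nonneg (ψ r - ψ' (w r))]
  have h5 := h'.1.2.1.mem_WJ (fun i => mul_nonneg (hc.pos _).le (h'.2.1 i)) hw fun i =>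
    mul_nonneg (hc.pos _).le (h4 _ ▸ h.2.1 i)
  have h6 : ψ = ψ' := funext fun r => by
    have := h'.1.2.1.WJ_eq h5 r
    rw [hc.inv w hw, mul_right_inj' (hc.pos r).ne'] at this
    rw [h4, this]
  simp only [mul_eq_zero, (hc.pos _).ne', false_or] at h5
  exact ⟨h6, e ▸ h6 ▸ mul_mem (mul_mem (C.B_le_PJ _ (C.U_le_B hu)) (C.mem_PJ_of_mon hm h5 h1)) (C.B_le_PJ _ hb)⟩

theorem Wt.le_rad {ψ : Fin D.nroots → ℝ} (h : G.Add fun r => c r * ψ r) (hd : ∀ i, 0 ≤ ψ (G.sm i)) :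
    {r | 1 ≤ ψ r} ⊆ G.radJ {i | ψ (G.sm i) = 0} := fun r hr =>
  ⟨G.ht_pos_iff.1 (G.fn_one r ▸ (hc.nil h hd).pos r hr), fun e => by
    have := h.eq_zero (r := r) (by simpa only [mul_eq_zero, (hc.pos _).ne', false_or] using e)
    rw [mul_eq_zero, or_iff_right (hc.pos r).ne'] at this
    exact absurd (this ▸ hr : (1 : ℝ) ≤ 0) (by norm_num)⟩

omit hc in
theorem Opt.conj {g n : Γ} {ψ : Fin D.nroots → ℝ} (h : C.Opt c X g ψ) (hn : n ∈ C.Gr)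
    (h1 : ∀ x ∈ X, n * x * n⁻¹ ∈ X) : C.Opt c X (g * n) ψ :=
  ⟨⟨mul_mem h.1.1 hn, h.1.2.1, fun x hx => by simpa [mul_assoc] using h.1.2.2 _ (h1 x hx)⟩, h.2⟩

omit hc in
theorem rad_univ : G.radJ Set.univ = ∅ := Set.eq_empty_of_forall_notMem fun _ h => h.2 fun _ h => (h trivial).elim

omit hc in
/-- the theorem of Borel and Tits -/
theorem borel_tits (C : Cover G F Γ) {X : Set Γ} (hX : X ⊆ C.U) : ∃ g ∈ C.Gr, ∃ J : Set (Fin D.rank),
    (∀ x ∈ X, g * x * g⁻¹ ∈ C.US (G.radJ J)) ∧ ∀ n ∈ C.Gr, (∀ x ∈ X, n * x * n⁻¹ ∈ X) → g * n * g⁻¹ ∈ C.PJ J := by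
  obtain ⟨g, ψ, h⟩ := C.wt_one.exists_opt hX
  exact ⟨g, h.1.1, _, fun x hx => C.US_mono (C.wt_one.le_rad h.1.2.1 h.2.1) (h.1.2.2 x hx),
    fun n hn h1 => (C.wt_one.unique h (h.conj hn h1)).2⟩

end Cover

end CfsgH6
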