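import Mathlib
import Cfsg.Agent.H6.Kempf

/-! The affine Weyl group acts freely on the alcoves. -/

set_option autoImplicit false

namespace CfsgH6

open Cfsg.Lie

variable {D : ChevalleyDatum}

namespace Good

variable (G : Good D)

/-- pairing of the coroot lattice with the roots -/
def pr (y : Fin D.rank → ℤ) (r : Fin D.nroots) : ℤ := ∑ i, y i * G.A (G.sm i) r

theorem add_pr (y : Fin D.rank → ℤ) : G.Add (G.pr y) := fun r => by
  simp only [pr, Int.cast_id, Finset.mul_sum]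
  rw [Finset.sum_comm]
  refine Finset.sum_congr rfl fun i _ => ?_
  rw [G.A_lin, Finset.mul_sum]
  exact Finset.sum_congr rfl fun j _ => by ring

theorem pr_cov (r s : Fin D.nroots) : G.pr (cov D r) s = G.A r s := by simp [pr, G.A_sm]; rfl

theorem pr_add (y z : Fin D.rank → ℤ) (r : Fin D.nroots) : G.pr (y + z) r = G.pr y r + G.pr z r := by
  simp [pr, add_mul, Finset.sum_add_distrib]

theorem pr_smul (a : ℤ) (y : Fin D.rank → ℤ) (r : Fin D.nroots) : G.pr (a • y) r = a * G.pr y r := by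
  simp [pr, Finset.mul_sum, mul_assoc]

theorem pr_sub (y z : Fin D.rank → ℤ) (r : Fin D.nroots) : G.pr (y - z) r = G.pr y r - G.pr z r := by
  simp [pr, sub_mul, Finset.sum_sub_distrib]

/-- the matrix of an element of the Weyl group on the coroot lattice -/
def cM (w : Equiv.Perm (Fin D.nroots)) : Matrix (Fin D.rank) (Fin D.rank) ℤ := Matrix.of fun i j => cov D (w (G.sm i)) j

variable {G}

theorem pr_vecMul {w : Equiv.Perm (Fin D.nroots)} (hw : w ∈ G.W) (y : Fin D.rank → ℤ) (r : Fin D.nroots) :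
    G.pr (Matrix.vecMul y (G.cM w)) (w r) = G.pr y r := by
  simp only [pr, Matrix.vecMul, dotProduct, cM, Matrix.of_apply, Finset.sum_mul]
  rw [Finset.sum_comm]
  refine Finset.sum_congr rfl fun i _ => ?_
  rw [← A_W hw (G.sm i) r, ← G.pr_cov, pr, Finset.mul_sum]
  exact Finset.sum_congr rfl fun j _ => by ring

theorem pr_W {w : Equiv.Perm (Fin D.nroots)} (hw : w ∈ G.W) (y : Fin D.rank → ℤ) (r : Fin D.nroots) :
    G.pr y (w r) = G.pr (Matrix.vecMul y (G.cM w⁻¹)) r := by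
  rw [← pr_vecMul (inv_mem hw), perm_inv_apply]

theorem Add.rf {z : Fin D.nroots → ℤ} (h : G.Add z) (r s : Fin D.nroots) : z (G.rf r s) = z s - G.A r s * z r := by
  rw [h.comb (G.rf_vec r s)]; simp; ring

theorem Add.sum_A {z : Fin D.nroots → ℤ} (h : G.Add z) (r : Fin D.nroots) :
    2 * ∑ s, G.A r s * z s = z r * ∑ s, G.A r s ^ 2 := by
  rw [two_mul]
  nth_rw 1 [← Equiv.sum_comp (G.rf r)]
  rw [← Finset.sum_add_distrib, Finset.mul_sum]
  refine Finset.sum_congr rfl fun s _ => ?_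
  rw [h.rf, (G.add_A r).rf, G.A_self]; ring

variable (G)

theorem sum_A_pos (r : Fin D.nroots) : 0 < ∑ s, G.A r s ^ 2 :=
  Finset.sum_pos' (fun _ _ => sq_nonneg _) ⟨r, Finset.mem_univ _, by rw [G.A_self]; norm_num⟩

theorem small_eq_zero (y : Fin D.rank → ℤ) (h : ∀ r, |G.pr y r| ≤ 1) (r : Fin D.nroots) : G.pr y r = 0 := by
  induction hn : ∑ i, (y i).natAbs using Nat.strong_induction_on generalizing y r with
  | _ n ih =>
  by_contra h0
  have h1 : 0 < ∑ i, y i * ∑ s, G.A (G.sm i) s * G.pr y s := by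
    simp only [Finset.mul_sum]
    rw [Finset.sum_comm]
    refine Finset.sum_pos' (fun s _ => ?_) ⟨r, Finset.mem_univ _, ?_⟩ <;>
      simp only [← mul_assoc, ← Finset.sum_mul]
    exacts [mul_self_nonneg _, mul_self_pos.2 h0]
  obtain ⟨i, -, hi⟩ := Finset.exists_lt_of_sum_lt (f := fun _ => (0 : ℤ)) (by simpa using h1)
  have h2 := (G.add_pr y).sum_A (G.sm i)
  have h3 : 0 < y i * G.pr y (G.sm i) := by
    have : 0 < y i * G.pr y (G.sm i) * ∑ s, G.A (G.sm i) s ^ 2 := by rw [mul_assoc, ← h2]; linarith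
    exact (mul_pos_iff_of_pos_right (G.sum_A_pos _)).1 this
  have h4 : ∀ s, G.pr (y - G.pr y (G.sm i) • cov D (G.sm i)) s = G.pr y (G.rf (G.sm i) s) := fun s => by
    rw [G.pr_sub, G.pr_smul, G.pr_cov, (G.add_pr y).rf]; ring
  refine h0 ?_
  rw [← G.rf_rf (G.sm i) r, ← h4]
  refine ih _ ?_ _ (fun s => h4 s ▸ h _) _ rfl
  rw [← hn]
  refine Finset.sum_lt_sum (fun j _ => ?_) ⟨i, Finset.mem_univ _, ?_⟩
  · by_cases e : j = i
    · have := abs_le.1 (h (G.sm i))
      simp only [e, Pi.sub_apply, Pi.smul_apply, G.cov_sm, if_true, smul_eq_mul, mul_one]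
      rcases pos_and_pos_or_neg_and_neg_of_mul_pos h3 with h5 | h5 <;> omega
    · simp [G.cov_sm, e]
  · have := abs_le.1 (h (G.sm i))
    simp only [Pi.sub_apply, Pi.smul_apply, G.cov_sm, if_true, smul_eq_mul, mul_one]
    rcases pos_and_pos_or_neg_and_neg_of_mul_pos h3 with h5 | h5 <;> omega

variable {G}

theorem Add.aff {z : Fin D.nroots → ℤ} (h : G.Add z) {v : Equiv.Perm (Fin D.nroots)} (hv : v ∈ G.W) (n : ℤ)
    (μ : Fin D.rank → ℤ) : G.Add fun r => z (v r) + n * G.pr μ r := fun r => by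
  simp only [h.comp (lin_W hv) r, G.add_pr μ r, mul_add, Finset.sum_add_distrib, Finset.mul_sum, Int.cast_id]
  simp only [mul_left_comm]

/-- every point is conjugate into the closed fundamental alcove -/
theorem Add.exists_alcove {z : Fin D.nroots → ℤ} (h : G.Add z) {n : ℤ} (hn : 0 < n) : ∃ v ∈ G.W, ∃ μ,
    (∀ i, 0 ≤ z (v (G.sm i)) + n * G.pr μ (G.sm i)) ∧ ∀ r, z (v r) + n * G.pr μ r ≤ n := by
  obtain ⟨⟨v, μ⟩, hv, hm⟩ := ((wellFounded_lt (α := ℕ)).onFun (f := fun p : Equiv.Perm (Fin D.nroots) × _ =>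
    (∑ r, (z (p.1 r) + n * G.pr p.2 r) ^ 2).toNat)).has_min {p | p.1 ∈ G.W} ⟨(1, 0), G.W.one_mem⟩
  have h1 := h.aff hv n μ
  have h2 : ∀ r, z (v r) + n * G.pr μ r ≤ n := fun r => not_lt.1 fun e => by
    refine hm (v * G.rf r, Matrix.vecMul μ (G.cM (G.rf r)⁻¹) + cov D r) (mul_mem hv (G.rf_mem r)) ?_
    have h3 : ∀ s, z (v (G.rf r s)) + n * G.pr (Matrix.vecMul μ (G.cM (G.rf r)⁻¹) + cov D r) s =
        (z (v s) + n * G.pr μ s) - (z (v r) + n * G.pr μ r - n) * G.A r s := fun s => by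
      rw [G.pr_add, ← pr_W (G.rf_mem r), G.pr_cov, mul_add, ← add_assoc, h1.rf]; ring
    have h4 := h1.sum_A r
    have h5 := G.sum_A_pos r
    refine (Int.toNat_lt_toNat ?_).2 ?_ <;> simp only [Equiv.Perm.mul_apply, h3]
    · exact Finset.sum_pos' (fun _ _ => sq_nonneg _) ⟨r, Finset.mem_univ _, by positivity [hn.trans e]⟩
    · set k := z (v r) + n * G.pr μ r - n
      have : ∑ s, (z (v s) + n * G.pr μ s - k * G.A r s) ^ 2 = ∑ s, (z (v s) + n * G.pr μ s) ^ 2 -
          k * (2 * ∑ s, G.A r s * (z (v s) + n * G.pr μ s)) + k ^ 2 * ∑ s, G.A r s ^ 2 := by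
        simp only [Finset.mul_sum, ← Finset.sum_sub_distrib, ← Finset.sum_add_distrib]
        exact Finset.sum_congr rfl fun s _ => by ring
      rw [this, h4, show z (v r) + n * G.pr μ r = k + n by simp [k]]
      have : 0 < k * n * ∑ s, G.A r s ^ 2 := mul_pos (mul_pos (sub_pos.2 e) hn) h5
      linarith
  obtain ⟨w, hw, h3⟩ := h1.exists_dom
  exact ⟨v * w, mul_mem hv hw, Matrix.vecMul μ (G.cM w⁻¹), fun i => pr_W hw μ _ ▸ h3 i, fun r => pr_W hw μ _ ▸ h2 _⟩

/-- freeness on alcoves -/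
theorem Add.alcove {z : Fin D.nroots → ℤ} (h : G.Add z) {n : ℤ} (hn : 0 < n) (h0 : ∀ r, ¬ n ∣ z r)
    {u : Equiv.Perm (Fin D.nroots)} (hu : u ∈ G.W) (μ : Fin D.rank → ℤ)
    (e : ∀ r, (z (u r) + n * G.pr μ r) / n = z r / n) : u = 1 := by
  obtain ⟨v, hv, ν, h1, h2⟩ := h.exists_alcove hn
  have h3 := h.aff hv n ν
  set z' := fun r => z (v r) + n * G.pr ν r
  have h4 : ∀ r, ¬ n ∣ z' r := fun r e => h0 (v r) ((dvd_add_left (dvd_mul_right n _)).1 e)
  have h5 : ∀ r, -n < z' r ∧ z' r < n := fun r =>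
    ⟨by have := (h2 r.rev).lt_of_ne fun e => h4 r.rev (Dvd.intro 1 (by simpa using e.symm))
        have := h3.rev r; simp only [z'] at *; linarith,
      (h2 r).lt_of_ne fun e => h4 r (Dvd.intro 1 (by simpa using e.symm))⟩
  have hu' : v⁻¹ * u * v ∈ G.W := mul_mem (mul_mem (inv_mem hv) hu) hv
  obtain ⟨μ', h6⟩ : ∃ μ', ∀ r, G.pr μ' r = G.pr μ (v r) + G.pr ν r - G.pr ν ((v⁻¹ * u * v) r) :=
    ⟨_, fun r => by rw [pr_W hv, pr_W hu', ← G.pr_add, ← G.pr_sub]⟩
  have h7 : ∀ r, (z' ((v⁻¹ * u * v) r) + n * G.pr μ' r) / n = z' r / n := fun r => by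
    have : z' ((v⁻¹ * u * v) r) + n * G.pr μ' r = z (u (v r)) + n * G.pr μ (v r) + n * G.pr ν r := by
      simp only [h6, z', Equiv.Perm.mul_apply, perm_apply_inv]; ring
    rw [this, Int.add_mul_ediv_left _ _ hn.ne', e, Int.add_mul_ediv_left _ _ hn.ne']
  have h8 : ∀ r, -1 ≤ z' r / n ∧ z' r / n ≤ 0 := fun r =>
    ⟨(Int.le_ediv_iff_mul_le hn).2 (by linarith [(h5 r).1]),
      Int.lt_add_one_iff.1 ((Int.ediv_lt_iff_lt_mul hn).2 (by linarith [(h5 r).2]))⟩
  have h9 := G.small_eq_zero μ' fun r => by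
    have := h7 r
    rw [Int.add_mul_ediv_left _ _ hn.ne'] at this
    have h1 := h8 r
    have h2 := h8 ((v⁻¹ * u * v) r)
    rw [abs_le]; omega
  have : v⁻¹ * u * v = 1 := eq_one_of_pos hu' fun i => h3.pos_of h1 ?_
  · rwa [mul_assoc, inv_mul_eq_one, right_eq_mul] at this
  have e1 := h7 (G.sm i)
  rw [h9, mul_zero, add_zero] at e1
  have e2 : 0 ≤ z' (G.sm i) / n := Int.ediv_nonneg (h1 i) hn.le
  refine lt_of_le_of_ne ((Int.ediv_nonneg_iff_of_pos hn).1 (e1 ▸ e2)) fun e => h4 _ (e ▸ dvd_zero n)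

/-- an element of the affine stabiliser preserving the positive walls is trivial -/
theorem Add.stab_eq_one {z : Fin D.nroots → ℤ} (h : G.Add z) {n : ℤ} (hn : 0 < n)
    {u : Equiv.Perm (Fin D.nroots)} (hu : u ∈ G.W) (μ : Fin D.rank → ℤ) (e : ∀ r, z (u r) + n * G.pr μ r = z r)
    (hP : ∀ r, G.Pos r → n ∣ z r → G.Pos (u r)) : u = 1 := by
  obtain ⟨N, hN⟩ : ∃ N : ℤ, ∀ r, |G.fn 1 r| < N := by
    obtain ⟨N, hN⟩ := (Set.finite_range fun r => |G.fn 1 r|).bddAbove
    exact ⟨N + 1, fun r => Int.lt_add_one_iff.2 (hN ⟨r, rfl⟩)⟩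
  have h1 : ∀ r, G.Pos r → 0 < G.fn 1 r := G.nil_pos.pos
  have h2 : ∀ r, ¬ G.Pos r → G.fn 1 r < 0 := fun r hr => by
    have := h1 _ (G.pos_rev.2 hr)
    rw [(G.add_fn 1).rev] at this
    linarith
  have hN0 : 0 < N := (abs_nonneg _).trans_lt (hN (G.sm ⟨0, by have := G.two_le_rank; omega⟩))
  have key : ∀ (a b : ℤ), |b| < N → (N * a + b) / (N * n) = (a + if b < 0 then -1 else 0) / n := fun a b hb => by
    rw [← Int.ediv_ediv_of_nonneg hN0.le, add_comm, Int.add_mul_ediv_left _ _ hN0.ne', add_comm]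
    congr 2
    rw [abs_lt] at hb
    split_ifs with h
    · rw [show b = (b + N) + N * -1 by ring, Int.add_mul_ediv_left _ _ hN0.ne',
        Int.ediv_eq_zero_of_lt (by omega) (by omega), zero_add]
    · exact Int.ediv_eq_zero_of_lt (by omega) hb.2
  refine Add.alcove (z := fun r => N * z r + G.fn 1 r) (fun r => ?_) (mul_pos hN0 hn) (fun r hr => ?_) hu μ fun r => ?_
  · simp only [h r, G.add_fn 1 r, mul_add, Finset.sum_add_distrib, Finset.mul_sum, Int.cast_id]
    simp only [mul_left_comm]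
  · have h3 := (dvd_add_right (dvd_mul_right N _)).1 ((dvd_mul_right N n).trans hr)
    have h4 := Int.eq_zero_of_abs_lt_dvd h3 (hN r)
    by_cases hr : G.Pos r
    exacts [(h1 r hr).ne' h4, (h2 r hr).ne h4]
  · rw [show N * z (u r) + G.fn 1 (u r) + N * n * G.pr μ r = N * z r + G.fn 1 (u r) by rw [← e r]; ring,
      key _ _ (hN _), key _ _ (hN _)]
    by_cases h3 : n ∣ z r
    · have : G.fn 1 (u r) < 0 ↔ G.fn 1 r < 0 := by
        by_cases hr : G.Pos r
        · have := h1 r hr; have := h1 _ (hP r hr h3); omega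
        · have h4 := hP r.rev (G.pos_rev.2 hr) (by rw [h.rev]; exact h3.neg_right)
          rw [rev_W hu, G.pos_rev] at h4
          have := h2 r hr; have := h2 _ h4; omega
      simp only [this]
    · have : (z r + -1) / n = (z r + 0) / n := by
        have h4 := Int.emod_add_mul_ediv (z r) n
        have h5 := Int.emod_nonneg (z r) hn.ne'
        have h6 := Int.emod_lt_of_pos (z r) hn
        have h7 : z r % n ≠ 0 := fun e => h3 (Int.dvd_of_emod_eq_zero e)
        rw [add_zero, show z r + -1 = (z r % n - 1) + n * (z r / n) by linarith, Int.add_mul_ediv_left _ _ hn.ne',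
          Int.ediv_eq_zero_of_lt (by omega) (by omega), zero_add]
      split_ifs <;> simp only [this]

theorem N_lt_rf {w : Equiv.Perm (Fin D.nroots)} (hw : w ∈ G.W) {r : Fin D.nroots} (hr : G.Pos r) (h : G.Pos (w r)) :
    G.N w < G.N (w * G.rf r) := by
  obtain ⟨l, hl⟩ := G.exists_wp (mul_mem hw (G.rf_mem r))
  obtain ⟨l, -, hl', hlen⟩ := G.exists_reduced Set.univ l fun _ _ => trivial
  rw [hl] at hl' hlen
  obtain ⟨a, x, m, rfl, e⟩ := G.exchange_root l hr (by
    rw [hl', Equiv.Perm.mul_apply, G.rf_self, rev_W hw, G.pos_rev, not_not]; exact h)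
  have : w = wp G.σ (a ++ m) := by
    rw [← mul_left_inj (G.rf r), ← hl', wp_append, wp_append, wp_cons, ← G.rf_sm, ← e, G.rf_conj (G.wp_mem m)]
    simp [mul_assoc]
  have h1 := G.N_wp_le (a ++ m)
  rw [← this] at h1
  rw [← hlen]
  simp at h1 ⊢
  omega

end Good

end CfsgH6
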