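import Mathlib
import Cfsg.Agent.H6.Bn1
import Cfsg.Agent.H8.Dick3
import Cfsg.Agent.H8.SL2g
import Cfsg.Agent.H8.Sol
import Cfsg.Agent.S3266

set_option autoImplicit false
open MulAction Subgroup CfsgH8

namespace CfsgH6.Bn

theorem tr_S4 (g : Equiv.Perm (Fin 4)) : g * Equiv.swap 0 1 = Equiv.swap 0 1 * g → g ^ 2 = 1 := by
  revert g; decide +kernel

variable {F : Type*} [Field F]

local notation "SL2" => Matrix.SpecialLinearGroup (Fin 2) F
local notation "PSL2" => Matrix.ProjectiveSpecialLinearGroup (Fin 2) F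

theorem sl_ext {g h : SL2} (h0 : g.1 0 0 = h.1 0 0) (h1 : g.1 0 1 = h.1 0 1) (h2 : g.1 1 0 = h.1 1 0)
    (h3 : g.1 1 1 = h.1 1 1) : g = h :=
  Subtype.ext (Matrix.ext (forall_m2.2 ⟨h0, h1, h2, h3⟩))

theorem fricke {u v : SL2} (h : u * v = v * u) : u.1.trace ^ 2 + v.1.trace ^ 2 + (v⁻¹ * u).1.trace ^ 2 -
    u.1.trace * v.1.trace * (v⁻¹ * u).1.trace - 4 = 0 := by
  have e : (u * v⁻¹ * u⁻¹ * v).1.trace = 2 := by
    have : u * v⁻¹ * u⁻¹ * v = 1 := by
      rw [(show Commute u v from h).inv_right.eq]; group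
    rw [this]; simp
  have d1 := sl2_det u
  have d2 := sl2_det v
  simp only [Matrix.trace_fin_two, sl2_mul, sl2_inv, Matrix.of_apply, Matrix.cons_val', Matrix.cons_val_zero,
    Matrix.cons_val_one, Matrix.cons_val_fin_one] at e ⊢
  linear_combination e - ((u.1 0 0 + u.1 1 1) ^ 2 - 2 * (u.1 0 0 * u.1 1 1 - u.1 0 1 * u.1 1 0)) * d2 -
    ((v.1 0 0 + v.1 1 1) ^ 2 - 2) * d1

theorem trace_add (g h : SL2) : (g * h).1.trace + (g⁻¹ * h).1.trace = g.1.trace * h.1.trace := by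
  simp only [Matrix.trace_fin_two, sl2_mul, sl2_inv, Matrix.of_apply, Matrix.cons_val', Matrix.cons_val_zero,
    Matrix.cons_val_one, Matrix.cons_val_fin_one]
  ring

theorem conj_cS (g : SL2) : ((cS 0)⁻¹ * g * cS 0).1 1 0 = -g.1 0 1 := by
  simp [sl2_mul, sl2_inv, cS_val]

theorem conj_tri (e : F) (g : SL2) (h : g.1 1 0 = 0) :
    ((triS 1 e)⁻¹ * g * triS 1 e).1 0 1 = g.1 0 1 + e * (g.1 0 0 - g.1 1 1) := by
  simp [sl2_mul, sl2_inv, h]; ring

theorem sq_one {z : SL2} (h : z.1.trace = 0) : πS z * πS z = 1 := by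
  rw [← map_mul, sq_eq_neg_one_of_trace h, πS_neg, map_one]

theorem trace_zero {z : SL2} (h : πS z ^ 2 = 1) (s : ¬ IsSc z.1) : z.1.trace = 0 :=
  (πS_sq_iff.1 h).resolve_left fun e => s (πS_eq_one.1 e)

theorem isSc_mul {a b : SL2} (h : IsSc (a⁻¹ * b).1) : πS a = πS b := by
  have := πS_eq_one.2 h
  rwa [map_mul, map_inv, inv_mul_eq_one] at this

section act
variable {Ω : Type*} [MulAction (Matrix.ProjectiveSpecialLinearGroup (Fin 2) F) Ω] {α : Ω}

/-- the point stabiliser upstairs -/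
def St (F : Type*) [Field F] {Ω : Type*} [MulAction PSL2 Ω] (ω : Ω) : Subgroup SL2 :=
  (stabilizer PSL2 ω).comap πS

theorem mem_St {g : SL2} : g ∈ St F α ↔ πS g • α = α := Iff.rfl

theorem mem_St_smul {g k : SL2} : g ∈ St F (πS k • α) ↔ k⁻¹ * g * k ∈ St F α := by
  rw [mem_St, mem_St, map_mul, map_mul, map_inv, mul_smul, mul_smul, inv_smul_eq_iff]

theorem neg_St {g : SL2} : -g ∈ St F α ↔ g ∈ St F α := by rw [mem_St, mem_St, πS_neg]

theorem conj_St {x y : SL2} (hx : x ∈ St F α) (hc : IsConj (πS x) (πS y)) :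
    ∃ k : SL2, y ∈ St F (πS k • α) := by
  obtain ⟨g, hg⟩ := isConj_iff.1 hc
  obtain ⟨k, rfl⟩ := πS_surj g
  exact ⟨k, by rw [mem_St, ← hg, mul_smul, mul_smul, inv_smul_smul, mem_St.1 hx]⟩

theorem PP.up (hP : PP PSL2 Ω) (g h : SL2) : ∃ f : SL2, (∀ ω : Ω, g ∈ St F ω → f ∈ St F ω) ∧
    (∀ ω : Ω, h ∈ St F ω → f ∈ St F ω) ∧ ∀ ω : Ω, g⁻¹ * h ∈ St F ω → g⁻¹ * f ∈ St F ω := by
  obtain ⟨f, f1, f2, f3⟩ := hP (πS g) (πS h)
  obtain ⟨f, rfl⟩ := πS_surj f
  refine ⟨f, f1, f2, fun ω hω => ?_⟩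
  rw [mem_St, map_mul, map_inv, mul_smul, inv_smul_eq_iff] at hω ⊢
  exact f3 ω hω.symm

theorem no_triple (hP : PP PSL2 Ω) (hc : ∀ a : SL2, a ∈ St F α → ∀ b : SL2, b ∈ St F α → a * b = b * a)
    {X W a b c : SL2}
    (ha : a ∈ St F α) (hb : b ∈ St F α) (hc' : c ∈ St F α) (c1 : IsConj (πS a) (πS X))
    (c2 : IsConj (πS b) (πS W)) (c3 : IsConj (πS c) (πS (X⁻¹ * W))) : W * X = X * W := by
  have cc : ∀ k a b : SL2, a ∈ St F (πS k • α) → b ∈ St F (πS k • α) → a * b = b * a :=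
    fun k a b ha hb => by
      have := hc _ (mem_St_smul.1 ha) _ (mem_St_smul.1 hb)
      calc a * b = k * (k⁻¹ * a * k * (k⁻¹ * b * k)) * k⁻¹ := by group
        _ = _ := by rw [this]; group
  obtain ⟨k1, h1⟩ := conj_St ha c1
  obtain ⟨k2, h2⟩ := conj_St hb c2
  obtain ⟨k3, h3⟩ := conj_St hc' c3
  obtain ⟨f, f1, f2, f3⟩ := hP.up X W
  by_cases hf : IsSc f.1
  · have h4 : X ∈ St F (πS k3 • α) := by
      have := f3 _ h3
      rw [mem_St, map_mul, πS_eq_one.2 hf, mul_one] at this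
      exact (Subgroup.inv_mem_iff _).1 this
    exact cc k3 _ _ (by simpa using mul_mem h4 h3) h4
  · exact Subtype.ext (comm_of_comm hf (congrArg Subtype.val (cc k2 _ _ h2 (f2 _ h2)))
      (congrArg Subtype.val (cc k1 _ _ h1 (f1 _ h1))))

theorem frob0 (hP : PP PSL2 Ω) (hB : St F α ≤ BS F) {a : Fˣ} {c : F} (ht : triS a 0 ∈ St F α)
    (hy : triS 1 c ∈ St F α) (hc : c ≠ 0) (h1 : (a : F) ^ 2 ≠ 1) (h2 : (a : F) ^ 2 + 1 ≠ 0) : False := by
  have a0 := a.ne_zero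
  obtain ⟨e, he⟩ : ∃ e, e = c * ((a : F) ^ 2 + 1) / a ^ 2 := ⟨_, rfl⟩
  have e0 : e ≠ 0 := he ▸ div_ne_zero (mul_ne_zero hc h2) (pow_ne_zero 2 a0)
  have hz : triS 1 e ∈ St F α := by
    have : triS 1 e = triS 1 c * ((triS a 0)⁻¹ * triS 1 c * triS a 0) := by
      apply sl_ext <;> simp [sl2_mul, sl2_inv, he]
      field_simp; ring
    rw [this]; exact mul_mem hy (mul_mem (mul_mem (inv_mem ht) hy) ht)
  have low : ∀ (b : F) (g : SL2), g.1 1 0 = 0 → g ∈ St F (πS (triS 1 b * cS 0) • α) →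
      g.1 0 1 + b * (g.1 0 0 - g.1 1 1) = 0 := fun b g h0 hg => by
    have := mem_BS.1 (hB (mem_St_smul.1 hg))
    rw [show (triS 1 b * cS 0)⁻¹ * g * (triS 1 b * cS 0) =
      (cS 0)⁻¹ * ((triS 1 b)⁻¹ * g * triS 1 b) * cS 0 by group, conj_cS, conj_tri _ _ h0] at this
    exact neg_eq_zero.1 this
  have tw : (cS 0)⁻¹ * triS a 0 * cS 0 = (triS a 0)⁻¹ := by
    apply sl_ext <;> simp [sl2_mul, sl2_inv, cS_val]
  have id : triS a 0 * (triS 1 e * triS a 0 * (triS 1 e)⁻¹) =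
      triS 1 c * (triS a 0 * triS a 0) * (triS 1 c)⁻¹ := by
    apply sl_ext <;> simp [sl2_mul, sl2_inv, he] <;> field_simp <;> ring
  have m : ∀ (b : F) (n : ℕ), triS 1 b * triS a 0 ^ n * (triS 1 b)⁻¹ ∈ St F (πS (triS 1 b * cS 0) • α) :=
    fun b n => by
      rw [← conj_pow]
      refine pow_mem (mem_St_smul.2 ?_) n
      rw [show (triS 1 b * cS 0)⁻¹ * (triS 1 b * triS a 0 * (triS 1 b)⁻¹) * (triS 1 b * cS 0) =
        (cS 0)⁻¹ * triS a 0 * cS 0 by group, tw]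
      exact inv_mem ht
  obtain ⟨f, f1, f2, f3⟩ := hP.up (triS a 0)⁻¹ (triS 1 e * triS a 0 * (triS 1 e)⁻¹)
  have a1 := mem_BS.1 (hB (f1 α (inv_mem ht)))
  have a2 := low 0 f a1 (f1 _ (inv_mem (by simpa [triS_one] using m 0 1)))
  have a3 := low e f a1 (f2 _ (by simpa using m e 1))
  rw [zero_mul, add_zero] at a2
  rw [a2, zero_add, mul_eq_zero, sub_eq_zero] at a3
  have a4 := f3 _ (by rw [inv_inv, id, ← sq]; exact m c 2)
  rw [mem_St, map_mul, πS_eq_one.2 ⟨a2, a1, a3.resolve_left e0⟩, mul_one, inv_inv] at a4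
  have a5 := low c (triS a 0) (by simp) a4
  simp [hc, sub_eq_zero] at a5
  exact h1 (by field_simp at a5; exact a5)

theorem frob (hP : PP PSL2 Ω) (hB : St F α ≤ BS F) {t : SL2} {c : F} (ht : t ∈ St F α)
    (hy : triS 1 c ∈ St F α) (hc : c ≠ 0) : t ∈ US F ∨ -t ∈ US F ∨ t.1.trace = 0 := by
  obtain ⟨a, ha⟩ := exists_eq_triS (mem_BS.1 (hB ht))
  generalize t.1 0 1 = b at ha
  subst ha
  have a0 := a.ne_zero
  by_cases h1 : (a : F) ^ 2 = 1
  · rcases sq_eq_one_iff.1 h1 with h | h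
    · exact Or.inl (mem_US'.2 ⟨hB ht, by simp [h, one_add_one_eq_two]⟩)
    · exact Or.inr (Or.inl (mem_US'.2 ⟨mem_BS.2 (by simp), by
        rw [trace_neg_SL]; simp [h, one_add_one_eq_two]⟩))
  by_cases h2 : (a : F) ^ 2 + 1 = 0
  · refine Or.inr (Or.inr ?_)
    simp; field_simp; simpa using h2
  exfalso
  have h3 : (a : F) ^ 2 - 1 ≠ 0 := sub_ne_zero.2 h1
  obtain ⟨v, hv⟩ : ∃ v, v = a * b / ((a : F) ^ 2 - 1) := ⟨_, rfl⟩
  refine frob0 (α := πS (triS 1 v) • α) hP (fun g hg => ?_) (a := a) (c := c) (mem_St_smul.2 ?_)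
    (mem_St_smul.2 ?_) hc h1 h2
  · have := mul_mem (mul_mem (US_le_BS (triS_mem_US v)) (hB (mem_St_smul.1 hg)))
      (inv_mem (US_le_BS (triS_mem_US v)))
    simpa [mul_assoc] using this
  · convert ht using 1
    apply sl_ext <;> simp [sl2_mul, sl2_inv, hv]
    field_simp; ring
  · convert hy using 1
    apply sl_ext <;> simp [sl2_mul, sl2_inv]

variable [Fintype F] [Finite Ω]

local notation "q" => Fintype.card F

theorem clos (hP : PP PSL2 Ω) {z x : SL2} (tz : z.1.trace = 0) (tx : x.1.trace = 0) (sz : ¬ IsSc z.1)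
    (sx : ¬ IsSc x.1) (hc : Commute (πS x) (πS z)) (hz : z ∈ St F α) : x ∈ St F α := by
  by_cases s : IsSc (x * z).1
  · have := πS_eq_one.2 s
    rw [map_mul] at this
    rw [mem_St, eq_inv_of_mul_eq_one_left this]
    exact inv_mem (mem_stabilizer_iff.2 hz)
  have t : (x * z).1.trace = 0 := trace_zero (by
    rw [map_mul, hc.mul_pow, sq, sq, sq_one tx, sq_one tz, one_mul]) s
  have cj := fun (a b : SL2) ta tb sa sb =>
    (ncard_fix (Ω := Ω) (Cfsg.Agent.S3266.conj0 (x := a) (y := b) ta tb sa sb)).le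
  refine hP.fix Nat.prime_two (by rw [sq, sq_one tx]) (h := πS (x * z))
    (by rw [map_mul]; exact (Commute.refl _).mul_right hc) (fun f hf => ?_) (cj _ _ tx t sx s) ?_ ?_
  · obtain ⟨f, rfl⟩ := πS_surj f
    exact cj _ _ (trace_of_orderOf_πS_two hf) tx (fun s => by simp [πS_eq_one.2 s] at hf) sx
  · rw [map_mul, inv_mul_cancel_left]; exact cj _ _ tz tx sz sx
  · rw [map_mul, mul_smul, mem_St.1 hz]

end act

section odd
variable [Fintype F]

local notation "q" => Fintype.card F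

theorem cl_tor (hq : q % 2 = 1) (h7 : 7 ≤ q) {K : Subgroup SL2} (hK : ∀ z x, Q8P z x → z ∈ K → x ∈ K)
    {z : SL2} (hz : z ∈ K) (tz : z.1.trace = 0) : ∃ C N c, TorN C N ∧ z ∈ C ∧ N ≤ K ∧ c ∈ C ∧
      orderOf c = Nat.card C ∧ orderOf (πS c) * 2 = Nat.card C ∧ 4 ∣ Nat.card C ∧ 8 ≤ Nat.card C := by
  obtain ⟨C, N, h, hC, -⟩ := exists_torN_of_reg (reg_of_trace_zero hq tz)
  obtain ⟨c, hc, c1, c2⟩ := h.tor.exists_gen
  have t0 : ∀ x ∈ N, x ∉ C → x.1.trace = 0 := fun x hx n =>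
    trace_eq_zero_of_isSc_sq (isSc_SL2.2 (.inr (h.sq x hx n))) fun e => n (h.tor.mem_of_isSc e)
  have k : ∀ x ∈ N, x ∉ C → x ∈ K := fun x hx n => hK z x ⟨tz, t0 x hx n, t0 _ (mul_mem (h.le hC) hx)
    fun e => n ((C.mul_mem_cancel_left hC).1 e)⟩ hz
  have d4 : 4 ∣ Nat.card C := orderOf_of_trace_zero hq tz ▸ C.orderOf_dvd_natCard hC
  have := h.tor.card
  refine ⟨C, N, c, h, hC, fun x hx => ?_, hc, c1, ?_, d4, by omega⟩
  · by_cases n : x ∈ C
    · obtain ⟨w, hw, hw'⟩ := h.ex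
      exact (K.mul_mem_cancel_right (k w hw hw')).1
        (k _ (mul_mem hx hw) fun e => hw' ((C.mul_mem_cancel_left n).1 e))
    · exact k x hx n
  · rw [c2, gcd_two_odd hq]; omega

theorem even_odd (hq : q % 2 = 1) (h7 : 7 ≤ q) {H : Subgroup PSL2} (hH : H ≠ ⊤)
    (hK : ∀ z x, Q8P z x → z ∈ H.comap πS → x ∈ H.comap πS) {z : SL2} (hz : z ∈ H.comap πS)
    (tz : z.1.trace = 0) : False := by
  obtain ⟨p, hp⟩ := CharP.exists F
  haveI := Fact.mk (CharP.char_is_prime F p)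
  have h2 := two_ne_zero_of_odd hq
  obtain ⟨C, N, c, h, hC, hN, hc, c1, c2, d4, d8⟩ := cl_tor hq h7 hK hz tz
  have hcH : πS c ∈ H := hN (h.le hc)
  have ns : ∀ c : SL2, 8 ≤ orderOf (πS c) * 2 → πS c ^ 2 ≠ 1 := fun c h e => by
    have := Nat.le_of_dvd two_pos (orderOf_dvd_of_pow_eq_one e); omega
  have inC : ∀ {C N : Subgroup SL2} {c : SL2}, TorN C N → c ∈ N → πS c ^ 2 ≠ 1 → c ∈ C :=
    fun h hc e => by
      by_contra n
      exact e (by rw [sq, ← map_mul, h.sq _ hc n, πS_neg, map_one])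
  have nsc : ∀ c : SL2, πS c ^ 2 ≠ 1 → ¬ IsSc c.1 := fun c e s => e (by rw [πS_eq_one.2 s, one_pow])
  have od : ∀ n : ℕ, n = 2 ∨ n = 3 ∨ n = 5 → πS c ^ n ≠ 1 := fun n hn e => by
    have h1 := orderOf_dvd_of_pow_eq_one e
    have h3 := Nat.le_of_dvd (by omega) h1
    have : orderOf (πS c) = 4 := by omega
    rw [this] at h1; omega
  rcases dickson' p hH with ⟨C', N', h', hle⟩ | ⟨s, hs⟩ | ⟨-, e⟩ | ⟨-, ⟨e⟩⟩ | ⟨-, e⟩ | ⟨x, L, hL, l1, l2⟩
  · have n1 := ns c (c2 ▸ d8)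
    have e1 := h.tor.eq_of_mem h'.tor hc (inC h' (hle hcH) n1) (nsc c n1)
    obtain ⟨w, hw, hw'⟩ := h.ex
    obtain ⟨C2, N2, c2, k, hC2, hN2, hc2, -, k2, -, k8⟩ := cl_tor hq h7 hK (hN hw)
      (trace_eq_zero_of_isSc_sq (isSc_SL2.2 (.inr (h.sq w hw hw'))) fun e => hw' (h.tor.mem_of_isSc e))
    have n2 := ns c2 (k2 ▸ k8)
    rw [k.tor.eq_of_mem h'.tor hc2 (inC h' (hle (hN2 (k.le hc2))) n2) (nsc _ n2), ← e1] at hC2
    exact hw' hC2
  · have := Nat.le_of_dvd two_pos (h.not_BS p fun g hg => hs g (hN hg)); omega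
  · obtain ⟨n, hn, e⟩ := pow_of_equiv e (P := fun n => n = 2 ∨ n = 3 ∨ n = 5)
      (fun a => (orders_A4 a).elim (fun h => ⟨2, by simp, h⟩) fun h => ⟨3, by simp, h⟩) hcH
    exact od n hn e
  · obtain ⟨w, hw⟩ := πS_surj (e.symm (Equiv.swap 0 1)).1
    have w1 : w ∈ H.comap πS := by rw [mem_comap, hw]; exact (e.symm _).2
    have w2 : e ⟨πS w, w1⟩ = Equiv.swap 0 1 := by
      rw [← e.apply_symm_apply (Equiv.swap 0 1)]; congr 1; exact Subtype.ext hw
    have w3 : orderOf (πS w) = 2 := by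
      rw [← orderOf_mk (πS w) (show πS w ∈ H from w1), ← e.orderOf_eq, w2]
      exact orderOf_eq_prime (by decide) (by decide)
    obtain ⟨C2, N2, c2, k, hC2, hN2, hc2, -, k2, -, k8⟩ := cl_tor hq h7 hK w1 (trace_of_orderOf_πS_two w3)
    have := tr_S4 (e ⟨πS c2, hN2 (k.le hc2)⟩) (by
      rw [← w2, ← map_mul, ← map_mul]; congr 1
      exact Subtype.ext (by simpa using congrArg πS (k.tor.comm hc2 hC2)))
    rw [← map_pow, EmbeddingLike.map_eq_one_iff] at this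
    exact ns c2 (k2 ▸ k8) (congrArg Subtype.val this)
  · obtain ⟨n, hn, e⟩ := pow_of_equiv e (P := fun n => n = 2 ∨ n = 3 ∨ n = 5)
      (fun a => (orders_A5 a).elim (fun h => ⟨2, by simp, h⟩) fun h =>
        h.elim (fun h => ⟨3, by simp, h⟩) fun h => ⟨5, by simp, h⟩) hcH
    exact od n hn e
  · have hK' : ∀ z y, Q8P z y → z ∈ (H.comap πS).map (cjE x).toMonoidHom →
        y ∈ (H.comap πS).map (cjE x).toMonoidHom := by
      rintro _ y h ⟨z, hz, rfl⟩
      obtain ⟨y, rfl⟩ := (cjE x).surjective y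
      refine ⟨y, hK z y ?_ hz, rfl⟩
      have := h.cj x⁻¹
      simpa [cjE_apply, cjS_cjS, cjS_one] using this
    rcases (eq_SLs_or_GLs l1 l2).elim Or.inl fun e => (GLs_eq_SLs_or L).imp (e.trans ·) (And.intro e)
      with e | ⟨e, hs⟩
    · have h3 := orderOf_le_of_SLs (L := L) (g := cjS x c) (e.le ⟨c, hcH, rfl⟩) (by
        have := h.tor.reg hc (nsc c (ns c (c2 ▸ d8)))
        rwa [reg_SL2_iff, ← trace_cjS x, ← reg_SL2_iff] at this)
      rw [orderOf_cjS, c1] at h3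
      have h4 := sq_card_le hL
      have h5 := one_lt_card_sub L
      have h6 := h.tor.card
      have h8 : Nat.card C ≤ Nat.card L + 1 :=
        h3.elim (Nat.le_of_dvd (by omega)) fun h => (Nat.le_of_dvd (by omega) h).trans (by omega)
      have h9 : q ≤ Nat.card L + 2 := by omega
      nlinarith
    · obtain ⟨i, hi⟩ := hs (-1) (neg_mem (one_mem L))
      have i0 : i ≠ 0 := by rintro rfl; simp at hi
      have ii : i⁻¹ = -i := inv_eq_of_mul_eq_one_right (by linear_combination hi)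
      refine hL (eq_top_iff.2 (mem_of_sq_mem fun a _ => ?_))
      by_cases a0 : a = 0
      · simp [a0]
      have := hK' (triS (Units.mk0 i i0) 0) (mS 0 a (-a⁻¹) 0 (by field_simp; ring)) ⟨by simp [ii],
        by simp [mS_val], by simp [Matrix.trace_fin_two, sl2_mul, mS_val]⟩
        (e ▸ mem_GLs.2 ⟨i, i0, forall_m2.2 (by simp [ii, ← hi])⟩)
      obtain ⟨c, c0, hc⟩ := mem_GLs.1 (e ▸ this)
      have := neg_mem (div_mem (hc 0 1) (hc 1 0))
      simp only [mS_val, Matrix.of_apply, Matrix.cons_val', Matrix.cons_val_zero,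
        Matrix.cons_val_one, Matrix.cons_val_fin_one] at this
      convert this using 1
      field_simp

end odd

section main
variable [Fintype F] {Ω : Type*} [MulAction (Matrix.ProjectiveSpecialLinearGroup (Fin 2) F) Ω] {α : Ω}

local notation "q" => Fintype.card F

omit [Fintype F] in
theorem St_smul (k : SL2) : St F (πS k • α) = (St F α).map (MulAut.conj k).toMonoidHom := by
  ext g
  rw [mem_St_smul]
  exact ⟨fun h => ⟨_, h, by simp [mul_assoc]⟩, by rintro ⟨g, h, rfl⟩; simpa [mul_assoc] using h⟩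

omit [Fintype F] in
theorem US_comm {a b : SL2} (ha : a ∈ US F ∨ -a ∈ US F) (hb : b ∈ US F ∨ -b ∈ US F) : a * b = b * a := by
  have k : ∀ a b : SL2, a ∈ US F → b ∈ US F → a * b = b * a := fun a b ha hb => by
    obtain ⟨s, rfl⟩ := mem_US.1 ha
    obtain ⟨t, rfl⟩ := mem_US.1 hb
    simp [triS_mul, add_comm]
  rcases ha with ha | ha <;> rcases hb with hb | hb <;> simpa using k _ _ ha hb

theorem odd_comm' (hP : PP PSL2 Ω) (h0 : stabilizer PSL2 α ≠ ⊤)
    (ho : ∀ g : SL2, g ∈ St F α → g.1.trace = 0 → IsSc g.1) {a b : SL2} (ha : a ∈ St F α) (hb : b ∈ St F α) :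
    a * b = b * a := by
  obtain ⟨p, hp⟩ := CharP.exists F
  haveI := Fact.mk (CharP.char_is_prime F p)
  have ev : ¬ 2 ∣ Nat.card (stabilizer PSL2 α) := fun h => by
    obtain ⟨⟨g, hg⟩, h2⟩ := exists_prime_orderOf_dvd_card' 2 h
    obtain ⟨g, rfl⟩ := πS_surj g
    rw [orderOf_mk] at h2
    simp [πS_eq_one.2 (ho g hg (trace_of_orderOf_πS_two h2))] at h2
  rcases dickson' p h0 with ⟨C, N, h, hle⟩ | ⟨s, hs⟩ | ⟨-, e⟩ | ⟨-, e⟩ | ⟨-, e⟩ | ⟨x, L, -, l1, -⟩
  · have : ∀ x ∈ St F α, x ∈ C := fun x hx => by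
      by_contra n
      exact n (h.tor.mem_of_isSc (ho x hx (trace_eq_zero_of_isSc_sq
        (isSc_SL2.2 (.inr (h.sq x (hle hx) n))) fun e => n (h.tor.mem_of_isSc e))))
    exact h.tor.comm (this a ha) (this b hb)
  · have hB : St F (πS s • α) ≤ BS F := fun g hg => by
      simpa [mul_assoc] using hs _ (mem_St_smul.1 hg)
    have m : ∀ a ∈ St F α, s * a * s⁻¹ ∈ St F (πS s • α) := fun a ha =>
      mem_St_smul.2 (by simpa [mul_assoc] using ha)
    suffices s * a * s⁻¹ * (s * b * s⁻¹) = s * b * s⁻¹ * (s * a * s⁻¹) by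
      rwa [conj_mul, conj_mul, mul_left_inj, mul_right_inj] at this
    obtain ⟨c, hc⟩ := mem_US.1 (comm_mem_US (hB (m a ha)) (hB (m b hb)))
    by_cases c0 : c = 0
    · rwa [c0, triS_one, commutatorElement_eq_one_iff_mul_comm] at hc
    have hy : triS 1 c ∈ St F (πS s • α) := hc ▸ mul_mem (mul_mem (mul_mem (m a ha) (m b hb))
      (inv_mem (m a ha))) (inv_mem (m b hb))
    have k : ∀ a ∈ St F α, s * a * s⁻¹ ∈ US F ∨ -(s * a * s⁻¹) ∈ US F := fun a ha => by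
      rcases frob hP hB (m a ha) hy c0 with h | h | h
      exacts [.inl h, .inr h, (isSc_SL2.1 (isSc_conj.2 (ho a ha (trace_conj_SL s a ▸ h)))).imp
        (fun e => by rw [e]; exact one_mem _) fun e => by rw [e, neg_neg]; exact one_mem _]
    exact US_comm (k a ha) (k b hb)
  · exact absurd (by rw [card_of_equiv e, card_A4]; norm_num) ev
  · exact absurd (by rw [card_of_equiv e, card_S4]; norm_num) ev
  · exact absurd (by rw [card_of_equiv e, card_A5]; norm_num) ev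
  · obtain ⟨g, hg, e⟩ := l1 (mem_SLs.2 (forall_m2.2 (by simp [cS_val])) : cS (0 : F) ∈ SLs L)
    have e' : cjS x g = cS 0 := e
    have := πS_eq_one.2 (ho g hg (by rw [← trace_cjS x, e', trace_cS]))
    refine absurd (πS_eq_one.1 ?_) (not_isSc_cS (0 : F))
    rw [← e', ← cjP_πS, this, map_one]

theorem trace_one (hP : PP PSL2 Ω) (h0 : stabilizer PSL2 α ≠ ⊤)
    (ho : ∀ g : SL2, g ∈ St F α → g.1.trace = 0 → IsSc g.1) {x : SL2} (hx : x ∈ St F α) (sx : ¬ IsSc x.1) :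
    (2 : F) = 0 ∧ x.1.trace = 1 := by
  have hc := fun a ha b hb => odd_comm' hP h0 ho (a := a) (b := b) ha hb
  have un : ∀ x : SL2, x ∈ St F α → ¬ IsSc x.1 → x.1.trace ≠ 2 := fun x hx sx t => by
    have h2 : (2 : F) ≠ 0 := fun e => sx (ho x hx (t.trans e))
    obtain ⟨s, hs⟩ := exists_conj_mem_US t
    obtain ⟨a, ha⟩ := mem_US.1 hs
    have a0 : a ≠ 0 := by
      rintro rfl
      exact sx (isSc_conj.1 (by rw [ha, triS_one]; exact isSc_SL2.2 (.inl rfl)))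
    have c1 : IsConj x (triS 1 a) := isConj_iff.2 ⟨s, ha⟩
    have c2 : IsConj x⁻¹ (triS 1 a)⁻¹ := isConj_iff.2 ⟨s, by rw [← ha]; group⟩
    have := no_triple hP hc (X := (triS 1 a)⁻¹) (W := loS (-4 / a)) (inv_mem hx) hx (inv_mem hx)
      (πS.map_isConj c2) (πS.map_isConj (c1.trans (isConj_iff.2
        ⟨mS 0 (-a / 2) (2 / a) 0 (by field_simp; ring), by
          rw [conj_triS_eq_loS (by simp [mS_val])]; congr 1; simp [mS_val]; field_simp; ring⟩)))
      (by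
        rw [← πS_neg (_ * _)]
        refine πS.map_isConj (c2.trans (isConj_iff.2 ⟨loS (2 / a), ?_⟩))
        apply sl_ext <;> simp [sl2_mul, sl2_inv] <;> field_simp <;> ring)
    have h3 := congrArg (fun g : SL2 => g.1 0 0) this
    simp [sl2_mul, sl2_inv, a0] at h3
    exact h2 (pow_eq_zero_iff two_ne_zero |>.1 (by linear_combination h3))
  have t1 := un x hx sx
  have t2 : x.1.trace ≠ -2 := fun e => un (-x) (neg_St.2 hx)
    (fun s => sx (πS_eq_one.1 (πS_neg x ▸ πS_eq_one.2 s))) (by rw [trace_neg_SL, e, neg_neg])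
  have r : Reg x.1 := reg_SL2_iff.2 ⟨t1, t2⟩
  obtain ⟨y, y1, y2⟩ := trace_pair_reg r x.1.trace x.1.trace
  obtain ⟨z, z1, z2⟩ := trace_pair_reg r x.1.trace (-x.1.trace)
  have e1 := fricke (no_triple hP hc hx hx hx (πS.map_isConj (r.isConj_SL y1.symm)) (IsConj.refl _)
    (πS.map_isConj (r.isConj_SL y2.symm)))
  have e2 := fricke (no_triple hP hc hx hx hx (πS.map_isConj (r.isConj_SL z1.symm)) (IsConj.refl _)
    (πS_neg (z⁻¹ * x) ▸ πS.map_isConj (r.isConj_SL (by rw [trace_neg_SL, z2, neg_neg]))))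
  rw [y1, y2] at e1
  rw [z1, z2] at e2
  have e3 : x.1.trace + 1 = 0 := (mul_eq_zero.1 (show (x.1.trace - 2) ^ 2 * (x.1.trace + 1) = 0 by
    linear_combination -e1)).resolve_left (pow_ne_zero 2 (sub_ne_zero.2 t1))
  have e4 : x.1.trace - 1 = 0 := (mul_eq_zero.1 (show (x.1.trace - -2) ^ 2 * (x.1.trace - 1) = 0 by
    linear_combination e2)).resolve_left (pow_ne_zero 2 (sub_ne_zero.2 t2))
  exact ⟨by linear_combination e3 - e4, by linear_combination e4⟩

theorem root_iff : (∃ a : Fˣ, a ≠ 1 ∧ a ^ 3 = 1) ↔ 3 ∣ q - 1 := by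
  classical
  haveI := Fact.mk Nat.prime_three
  rw [← Fintype.card_units]
  refine ⟨fun ⟨a, h1, h2⟩ => orderOf_eq_prime h2 h1 ▸ orderOf_dvd_card, fun h => ?_⟩
  obtain ⟨a, ha⟩ := exists_prime_orderOf_dvd_card 3 h
  exact ⟨a, by rintro rfl; simp at ha, ha ▸ pow_orderOf_eq_one a⟩

theorem three_iff (a : ℕ) : 3 ∣ 2 ^ a - 1 ↔ Even a := by
  rcases Nat.even_or_odd' a with ⟨k, rfl | rfl⟩
  · simpa [pow_mul] using Nat.sub_dvd_pow_sub_pow 4 1 k
  · have : 2 ^ (2 * k + 1) % 3 = 2 := by rw [pow_succ, pow_mul, Nat.mul_mod, Nat.pow_mod]; simp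
    refine iff_of_false ?_ (by simp)
    generalize 2 ^ (2 * k + 1) = n at this
    omega

theorem even_q (h2 : (2 : F) = 0) : q % 2 = 0 := by
  by_contra h
  exact two_ne_zero_of_odd (by omega) h2

theorem pow_q (hq : q % 2 = 0) : ∃ a, q = 2 ^ a := by
  haveI : CharP F 2 := ringChar.of_eq (FiniteField.even_card_iff_char_two.2 hq)
  obtain ⟨n, -, hn⟩ := FiniteField.card F 2
  exact ⟨n, hn⟩

theorem odd_main (hP : PP PSL2 Ω) (h0 : stabilizer PSL2 α ≠ ⊤) (h1 : stabilizer PSL2 α ≠ ⊥)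
    (ho : ∀ g : SL2, g ∈ St F α → g.1.trace = 0 → IsSc g.1) :
    (∃ a : ℕ, Odd a ∧ q = 2 ^ a) ∧ Nat.card (stabilizer PSL2 α) = 3 := by
  haveI := Fact.mk Nat.prime_three
  have hc := fun a ha b hb => odd_comm' hP h0 ho (a := a) (b := b) ha hb
  obtain ⟨⟨x, hx⟩, x1⟩ := ne_bot_iff_exists_ne_one.1 h1
  obtain ⟨x, rfl⟩ := πS_surj x
  have sx : ¬ IsSc x.1 := fun s => x1 (Subtype.ext (πS_eq_one.2 s))
  obtain ⟨h2, tx⟩ := trace_one hP h0 ho hx sx
  have r : Reg x.1 := reg_SL2_iff.2 (by rw [tx, h2]; simp)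
  obtain ⟨a, ha⟩ := pow_q (even_q h2)
  refine ⟨⟨a, ?_, ha⟩, ?_⟩
  · by_contra h3
    obtain ⟨w, w1, w3⟩ := root_iff.2 (ha ▸ (three_iff a).2 (Nat.not_odd_iff_even.1 h3))
    have w0 := w.ne_zero
    have w4 : (w : F) ^ 3 = 1 := by rw [← Units.val_pow_eq_pow_val, w3, Units.val_one]
    have w7 : (w : F) ≠ 1 := fun e => w1 (Units.ext e)
    have w5 : (w : F) ^ 2 + w + 1 = 0 := mul_left_cancel₀ (sub_ne_zero.2 w7)
      (by linear_combination w4)
    have w6 : (w : F)⁻¹ = w ^ 2 := inv_eq_of_mul_eq_one_right (by linear_combination w4)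
    have := no_triple hP hc (X := (triS w 0)⁻¹) (W := triS w 1) hx hx hx
      (πS.map_isConj (r.isConj_SL (by rw [trace_inv_SL, tx]; simp [w6]; linear_combination h2 - w5)))
      (πS.map_isConj (r.isConj_SL (by rw [tx]; simp [w6]; linear_combination h2 - w5)))
      (πS.map_isConj (r.isConj_SL (by
        rw [tx, inv_inv, triS_mul]; simp [w6]; linear_combination h2 - w5 - w * w4)))
    have h3 := congrArg (fun g : SL2 => g.1 0 1) this
    simp [sl2_mul, sl2_inv, w6] at h3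
    exact w7 (mul_left_cancel₀ w0 (by linear_combination -h3))
  · haveI : IsCyclic (St F α) := (isTor_centralizer r).isCyclic_of_le fun g hg =>
      mem_centralizer_singleton_iff.2 (hc g hg x hx)
    haveI : IsCyclic (stabilizer PSL2 α) :=
      map_comap_πS (stabilizer PSL2 α) ▸ isCyclic_of_surjective _ (πS.subgroupMap_surjective (St F α))
    haveI : Nontrivial (stabilizer PSL2 α) := ⟨_, _, x1⟩
    rw [← IsCyclic.exponent_eq_card]
    refine (Monoid.exponent_eq_prime_iff Nat.prime_three).2 ?_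
    rintro ⟨g, hg⟩ g1
    obtain ⟨g, rfl⟩ := πS_surj g
    refine orderOf_eq_prime (Subtype.ext (πS_cube_iff.2 (.inr ?_))) g1
    rw [(trace_one hP h0 ho hg fun s => g1 (Subtype.ext (πS_eq_one.2 s))).2]; simp

theorem even_main [Finite Ω] (hP : PP PSL2 Ω) (h0 : stabilizer PSL2 α ≠ ⊤) (hq : q % 2 = 0) {z : SL2}
    (hz : z ∈ St F α) (tz : z.1.trace = 0) (sz : ¬ IsSc z.1) :
    ∃ k : SL2, St F α = (US F).map (MulAut.conj k).toMonoidHom := by
  haveI : CharP F 2 := ringChar.of_eq (FiniteField.even_card_iff_char_two.2 hq)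
  have t0 : ∀ t : F, (triS 1 t).1.trace = 0 := fun t => by simp [CharTwo.add_self_eq_zero]
  have s0 : ∀ t : F, t ≠ 0 → ¬ IsSc (triS 1 t).1 := fun t h => by simp [IsSc, h]
  obtain ⟨k, hk⟩ := conj_St hz (Cfsg.Agent.S3266.conj0 tz (t0 1) sz (s0 1 one_ne_zero))
  have hU : US F ≤ St F (πS k • α) := fun u hu => by
    obtain ⟨t, rfl⟩ := mem_US.1 hu
    by_cases h : t = 0
    · rw [h, triS_one]; exact one_mem _
    exact clos hP (t0 1) (t0 t) (s0 1 one_ne_zero) (s0 t h)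
      ((show Commute _ _ from US_comm (.inl hu) (.inl (triS_mem_US 1))).map πS) hk
  have hB : St F (πS k • α) ≤ BS F := fun g hg => by
    by_contra n
    have : ⊤ ≤ St F (πS k • α) := US_sup_eq_top n ▸ sup_le hU (by
      rintro _ ⟨u, hu, rfl⟩
      exact mul_mem (mul_mem hg (hU hu)) (inv_mem hg))
    refine h0 (eq_top_iff.2 fun x _ => ?_)
    obtain ⟨x, rfl⟩ := πS_surj x
    exact (show x ∈ St F α by simpa [mul_assoc] using mem_St_smul.1 (this (mem_top (k * x * k⁻¹))))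
  have e : St F (πS k • α) = US F := le_antisymm (fun t ht => by
    rcases frob hP hB ht hk one_ne_zero with h | h | h
    exacts [h, neg_eq_self_of_even hq t ▸ h, mem_US'.2 ⟨hB ht, h.trans CharTwo.two_eq_zero.symm⟩]) hU
  exact ⟨k⁻¹, by rw [← e, ← St_smul, smul_smul, ← map_mul, inv_mul_cancel, map_one, one_smul]⟩

theorem qq_even [IsPretransitive PSL2 Ω] (hq : q % 2 = 0) {k : SL2}
    (h0 : St F α = (US F).map (MulAut.conj k).toMonoidHom) : QQ PSL2 Ω := by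
  haveI : CharP F 2 := ringChar.of_eq (FiniteField.even_card_iff_char_two.2 hq)
  have st : ∀ β : Ω, ∃ g : SL2, ∀ f : SL2, f ∈ St F β ↔ g⁻¹ * f * g ∈ US F := fun β => by
    obtain ⟨g, rfl⟩ := exists_smul_eq PSL2 α β
    obtain ⟨g, rfl⟩ := πS_surj g
    refine ⟨g * k, fun f => ?_⟩
    rw [mem_St_smul, h0]
    refine ⟨?_, fun h => ⟨_, h, by simp [mul_assoc]⟩⟩
    rintro ⟨u, hu, e⟩
    have e' : k * u * k⁻¹ = g⁻¹ * f * g := e
    rwa [show (g * k)⁻¹ * f * (g * k) = k⁻¹ * (g⁻¹ * f * g) * k by group, ← e',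
      show k⁻¹ * (k * u * k⁻¹) * k = u by group]
  have sq1 : ∀ (β : Ω) (f : SL2), f ∈ St F β → f * f = 1 := fun β f hf => by
    obtain ⟨g, hg⟩ := st β
    have := pow_char_of_trace 2 (mem_US'.1 ((hg f).1 hf)).2
    rw [sq] at this
    calc f * f = g * (g⁻¹ * f * g * (g⁻¹ * f * g)) * g⁻¹ := by group
      _ = 1 := by rw [this]; group
  intro β γ δ a b ha hb hab a1 b1 f
  obtain ⟨a, rfl⟩ := πS_surj a
  obtain ⟨b, rfl⟩ := πS_surj b
  obtain ⟨f, rfl⟩ := πS_surj f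
  have c1 := sq1 δ (a⁻¹ * b) (by rw [mem_St, map_mul, map_inv, mul_smul, ← hab, inv_smul_smul])
  have c2 : b * a = a * b := by
    rw [inv_eq_of_mul_eq_one_right (sq1 _ _ ha)] at c1
    rw [← inv_eq_of_mul_eq_one_right c1, mul_inv_rev, inv_eq_of_mul_eq_one_right (sq1 _ _ ha),
      inv_eq_of_mul_eq_one_right (sq1 _ _ hb)]
  obtain ⟨g, hg⟩ := st β
  obtain ⟨l, hl⟩ := st γ
  have n : ∀ g x : SL2, πS x ≠ 1 → g⁻¹ * x * g ≠ 1 := fun g x hx e => hx (by
    rw [mul_assoc, inv_mul_eq_one, eq_comm, mul_eq_right] at e; rw [e, map_one])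
  obtain ⟨t, ht⟩ := mem_US.1 ((hg a).1 ha)
  have c3 : g⁻¹ * b * g ∈ US F := by
    have := (mem_centralizer_unipS (t := t) (x := g⁻¹ * b * g)
      (by rintro rfl; exact n g a a1 (ht.trans triS_one))).1 (mem_centralizer_singleton_iff.2 (by
        rw [← ht]
        calc _ = g⁻¹ * (b * a) * g := by group
          _ = _ := by rw [c2]; group))
    rwa [neg_eq_self_of_even hq, or_self] at this
  have c4 : g⁻¹ * l ∈ BS F := mem_BS_of_conj ((hl b).1 hb) (n _ _ b1)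
    (US_le_BS (by convert c3 using 1; group))
  change f ∈ St F β ↔ f ∈ St F γ
  rw [hg, hl]
  refine ⟨fun h1 => ?_, fun h1 => ?_⟩
  · convert conj_mem_US (inv_mem c4) h1 using 1; group
  · convert conj_mem_US c4 h1 using 1; group

theorem qq_three (hq : q % 2 = 0) (h3 : ¬ 3 ∣ q - 1) (h0 : ∀ β : Ω, Nat.card (stabilizer PSL2 β) = 3) :
    QQ PSL2 Ω := by
  haveI : CharP F 2 := ringChar.of_eq (FiniteField.even_card_iff_char_two.2 hq)
  haveI := Fact.mk Nat.prime_three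
  have cu : ∀ (β : Ω) (g : PSL2), g • β = β → g ^ 3 = 1 := fun β g hg =>
    congrArg Subtype.val (h0 β ▸ pow_card_eq_one' (x := (⟨g, hg⟩ : stabilizer PSL2 β)))
  have st : ∀ (β : Ω) (g : PSL2), g • β = β → g ≠ 1 → stabilizer PSL2 β = zpowers g := fun β g hg g1 =>
    (eq_of_le_of_card_ge (zpowers_le.2 hg)
      (by rw [h0, Nat.card_zpowers, orderOf_eq_prime (cu β g hg) g1])).symm
  have tr1 : ∀ g : SL2, πS g ^ 3 = 1 → πS g ≠ 1 → g.1.trace = 1 := fun g h g1 => by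
    have := (πS_cube_iff.1 h).resolve_left g1
    exact sub_eq_zero.1 (pow_eq_zero_iff two_ne_zero |>.1 (by
      linear_combination this + (1 - g.1.trace) * (CharTwo.two_eq_zero (R := F))))
  intro β γ δ a b ha hb hab a1 b1 f
  suffices zpowers a = zpowers b by
    rw [← mem_stabilizer_iff, ← mem_stabilizer_iff, st β a ha a1, st γ b hb b1, this]
  obtain ⟨a, rfl⟩ := πS_surj a
  obtain ⟨b, rfl⟩ := πS_surj b
  by_cases e1 : πS (a⁻¹ * b) = 1
  · rw [isSc_mul (πS_eq_one.1 e1)]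
  by_cases e2 : πS (a * b) = 1
  · rw [map_mul] at e2
    rw [eq_inv_of_mul_eq_one_left e2, zpowers_inv]
  exfalso
  have t := trace_add a b
  rw [tr1 a (cu _ _ ha) a1, tr1 b (cu _ _ hb) b1, tr1 _ (cu δ _ (by
    rw [map_mul, map_inv, mul_smul, ← hab, inv_smul_smul])) e1, mul_one, add_eq_right] at t
  obtain ⟨s, hs⟩ := exists_conj_mem_US (t.trans CharTwo.two_eq_zero.symm)
  obtain ⟨c, hc⟩ := mem_US.1 hs
  have c0 : c ≠ 0 := by
    rintro rfl
    exact e2 (πS_eq_one.2 (isSc_conj.1 (by rw [hc, triS_one]; exact isSc_SL2.2 (.inl rfl))))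
  have t1 := trace_triS_mul c (s * b * s⁻¹)⁻¹
  rw [← hc, show s * (a * b) * s⁻¹ * (s * b * s⁻¹)⁻¹ = s * a * s⁻¹ by group, trace_inv_SL,
    trace_conj_SL, trace_conj_SL, tr1 a (cu _ _ ha) a1, tr1 b (cu _ _ hb) b1, left_eq_add,
    mul_eq_zero] at t1
  obtain ⟨w, hw⟩ := exists_eq_triS (t1.resolve_left c0)
  have t2 := congrArg (fun g : SL2 => g.1.trace) hw
  simp only [trace_inv_SL, trace_conj_SL, tr1 b (cu _ _ hb) b1] at t2
  simp at t2
  have w0 := w.ne_zero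
  field_simp at t2
  refine h3 (root_iff.1 ⟨w, ?_, Units.ext ?_⟩)
  · rintro rfl
    simp at t2
  · simp
    linear_combination (-(w : F) - 1) * t2 - (CharTwo.two_eq_zero (R := F))

theorem final2 (h4 : 4 ≤ q) (h5 : q ≠ 5) (H : Subgroup PSL2) (hH : H ≠ ⊤) :
    Bin PSL2 (PSL2 ⧸ H) ↔ (H = ⊥ ∨ ((∃ a : ℕ, q = 2 ^ a) ∧ ∃ P : Sylow 2 PSL2, H = P) ∨
      ((∃ a : ℕ, Odd a ∧ q = 2 ^ a) ∧ Nat.card H = 3)) := by
  have st := MulAction.stabilizer_quotient H
  have h0 : stabilizer PSL2 ((1 : PSL2) : PSL2 ⧸ H) ≠ ⊤ := by rwa [st]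
  constructor
  · intro hB
    have hP := hB.pp
    by_cases h1 : H = ⊥
    · exact Or.inl h1
    right
    by_cases ho : ∀ g : SL2, g ∈ St F ((1 : PSL2) : PSL2 ⧸ H) → g.1.trace = 0 → IsSc g.1
    · have := odd_main hP h0 (by rwa [st]) ho
      rw [st] at this
      exact Or.inr this
    push Not at ho
    obtain ⟨z, hz, tz, sz⟩ := ho
    rcases Nat.mod_two_eq_zero_or_one q with hq | hq
    · haveI : CharP F 2 := ringChar.of_eq (FiniteField.even_card_iff_char_two.2 hq)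
      obtain ⟨k, hk⟩ := even_main hP h0 hq hz tz sz
      obtain ⟨Q⟩ := (inferInstance : Nonempty (Sylow 2 SL2))
      obtain ⟨s, hs⟩ := sylow_eq_US 2 Q
      refine Or.inl ⟨pow_q hq, ((k * s⁻¹) • Q).mapSurjective πS_surj, ?_⟩
      rw [← map_comap_πS H, ← st, Sylow.coe_mapSurjective, Sylow.coe_subgroup_smul]
      congr 1
      refine hk.trans ?_
      rw [hs, pointwise_smul_def]
      exact ((map_conj_mul _ _ _).trans (by rw [inv_mul_cancel_right])).symm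
    · refine (even_odd hq (by omega) h0 (fun z x h hz => ?_) hz tz).elim
      have h2 := two_ne_zero_of_odd hq
      refine clos hP h.ti h.tj (h.not_isSc h2) (h.symm.not_isSc h2) ?_ hz
      change _ * _ = _ * _
      rw [← map_mul, h.ji, πS_neg, map_mul]
  · rintro (rfl | ⟨⟨a, ha⟩, P, hP⟩ | ⟨⟨a, ha, hq⟩, h3⟩)
    · refine QQ.bin fun a b c g h h1 _ _ h2 _ => absurd ?_ h2
      obtain ⟨a, rfl⟩ := QuotientGroup.mk_surjective a
      have := mem_bot.1 (QuotientGroup.eq.1 h1)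
      rw [inv_mul_eq_one] at this
      simpa using this
    · have hq : q % 2 = 0 := by
        cases a with
        | zero => omega
        | succ a => rw [ha, pow_succ]; omega
      haveI : CharP F 2 := ringChar.of_eq (FiniteField.even_card_iff_char_two.2 hq)
      obtain ⟨Q, rfl⟩ := Sylow.mapSurjective_surjective πS_surj 2 P
      obtain ⟨s, hs⟩ := sylow_eq_US 2 Q
      refine (qq_even (α := ((1 : PSL2) : PSL2 ⧸ H)) hq (k := s) ?_).bin
      rw [St, st, hP, Sylow.coe_mapSurjective, comap_map_πS, hs]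
      rw [neg_eq_self_of_even hq]; exact one_mem _
    · refine (qq_three ?_ (by rw [hq, three_iff]; exact Nat.not_even_iff_odd.2 ha) fun β => ?_).bin
      · obtain ⟨k, rfl⟩ := ha
        rw [hq, pow_succ]; omega
      · obtain ⟨g, rfl⟩ := exists_smul_eq PSL2 ((1 : PSL2) : PSL2 ⧸ H) β
        rw [stabilizer_smul_eq_stabilizer_map_conj, card_map_of_injective (MulAut.conj g).injective,
          st, h3]

end main

end CfsgH6.Bn
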