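import Mathlib
import Cfsg.Agent.H6.Lang

/-! Cyclic maximal tori. -/

set_option autoImplicit false

namespace CfsgH6

open Cfsg.Lie

variable {D : ChevalleyDatum}

section mat
variable {l : ℕ}

/-- integer matrices from lists -/
def lm (l : ℕ) (L : List (List ℤ)) : Matrix (Fin l) (Fin l) ℤ := Matrix.of fun i j => (L.getD i []).getD j 0

/-- the matrix of a simple reflection -/
def Sm (A : Matrix (Fin l) (Fin l) ℤ) (j : Fin l) : Matrix (Fin l) (Fin l) ℤ :=
  Matrix.of fun i k => (if i = k then 1 else 0) - if k = j then A i j else 0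

/-- the matrix of a word -/
def wM (A : Matrix (Fin l) (Fin l) ℤ) : List (Fin l) → Matrix (Fin l) (Fin l) ℤ
  | [] => 1
  | j :: w => wM A w * Sm A j

/-- evaluation of the matrix of a word -/
def wX (A : Matrix (Fin l) (Fin l) ℤ) : List (Fin l) → Matrix (Fin l) (Fin l) ℤ → Matrix (Fin l) (Fin l) ℤ
  | [], X => X
  | j :: w, X => wX A w (Matrix.of fun i k => X i k - A i j * X j k)

theorem wM_mul (A : Matrix (Fin l) (Fin l) ℤ) (w : List (Fin l)) (X : Matrix (Fin l) (Fin l) ℤ) :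
    wM A w * X = wX A w X := by
  induction w generalizing X with
  | nil => exact Matrix.one_mul X
  | cons j w ih =>
    rw [wM, wX, ← ih, Matrix.mul_assoc]
    congr 1
    ext i k
    simp [Sm, Matrix.mul_apply, sub_mul, Finset.sum_sub_distrib]

/-- companion matrix -/
def Cp (a : Fin l → ℤ) : Matrix (Fin l) (Fin l) ℤ :=
  Matrix.of fun i k => if (k : ℕ) + 1 < l then (if (i : ℕ) = k + 1 then 1 else 0) else - a i

variable {A : Type*} [CommGroup A]

theorem prod_zpow_sum {ι : Type*} (s : Finset ι) (z : A) (f : ι → ℤ) : ∏ i ∈ s, z ^ f i = z ^ ∑ i ∈ s, f i := by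
  classical
  induction s using Finset.induction_on with
  | empty => simp
  | insert a s h ih => rw [Finset.prod_insert h, Finset.sum_insert h, ih, zpow_add]

theorem pw_Cp (a : Fin l → ℤ) (d : Fin l → A) (k : Fin l) :
    pw A (Cp a) d k = if h : (k : ℕ) + 1 < l then d ⟨k + 1, h⟩ else (∏ i, d i ^ a i)⁻¹ := by
  rw [pw_apply]
  split_ifs with h
  · rw [Finset.prod_eq_single ⟨k + 1, h⟩ (fun i _ hi => by
      simp [Cp, h, show (i : ℕ) ≠ k + 1 from fun e => hi (Fin.ext e)]) (by simp)]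
    simp [Cp, h]
  · simp [Cp, h]

theorem Cp_iff (hl : 0 < l) (a : Fin l → ℤ) (q : ℕ) (d : Fin l → A) :
    pw A (Cp a) d = d ^ q ↔ ∃ z : A, z ^ ((q : ℤ) ^ l + ∑ i, a i * q ^ (i : ℕ)) = 1 ∧
      d = fun k : Fin l => z ^ q ^ (k : ℕ) := by
  have key : ∀ z : A, (∏ i : Fin l, (z ^ q ^ (i : ℕ)) ^ a i)⁻¹ = (z ^ q ^ (l - 1)) ^ q ↔
      z ^ ((q : ℤ) ^ l + ∑ i, a i * q ^ (i : ℕ)) = 1 := fun z => by
    rw [← pow_mul, ← pow_succ, Nat.sub_add_cancel hl, inv_eq_iff_mul_eq_one, mul_comm, zpow_add,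
      ← prod_zpow_sum]
    simp only [← zpow_natCast, ← zpow_mul, mul_comm]
    push_cast
    rfl
  constructor
  · intro h
    have h1 : ∀ (k : ℕ) (hk : k < l), d ⟨k, hk⟩ = d ⟨0, hl⟩ ^ q ^ k := fun k => by
      induction k with
      | zero => simp
      | succ k ih =>
        intro hk
        have := congrFun h ⟨k, by omega⟩
        rw [pw_Cp, dif_pos hk, Pi.pow_apply, ih, ← pow_mul] at this
        rw [this, pow_succ]
    refine ⟨d ⟨0, hl⟩, (key _).1 ?_, funext fun k => h1 k k.2⟩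
    have := congrFun h ⟨l - 1, by omega⟩
    rw [pw_Cp, dif_neg (by simp; omega), Pi.pow_apply, h1] at this
    rw [← this]
    congr 2
    funext i
    rw [← h1 i i.2]
  · rintro ⟨z, hz, rfl⟩
    funext k
    rw [pw_Cp, Pi.pow_apply]
    split_ifs with h
    · rw [← pow_mul, ← pow_succ]
    · rw [(key z).2 hz, show l - 1 = k by omega]

theorem tor_iff (hl : 0 < l) {M V E : Matrix (Fin l) (Fin l) ℤ} {a : Fin l → ℤ} (h1 : M * (V * Cp a) = V)
    (h2 : V * E = 1) (q : ℕ) (c : Fin l → A) :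
    pw A M (c ^ q) = c ↔ ∃ z : A, z ^ ((q : ℤ) ^ l + ∑ i, a i * q ^ (i : ℕ)) = 1 ∧
      c = pw A E fun k : Fin l => z ^ q ^ (k : ℕ) := by
  have h3 : E * V = 1 := mul_eq_one_comm.1 h2
  have h4 : V * Cp a * (E * M) = 1 := by
    rw [← Matrix.mul_assoc]
    exact mul_eq_one_comm.1 (by rw [← Matrix.mul_assoc, h1, h2])
  have h5 : pw A M (c ^ q) = c ↔ pw A (Cp a) (pw A V c) = pw A V c ^ q := by
    rw [← (pw_injective h4).eq_iff, ← pw_mul, h1, pw_mul, map_pow, eq_comm]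
  rw [h5, Cp_iff hl]
  refine exists_congr fun z => and_congr_right fun _ => ⟨fun h => ?_, fun h => ?_⟩
  · rw [← h, ← pw_mul, h2, pw_one]
  · rw [h, ← pw_mul, h3, pw_one]

end mat

namespace Cover

variable {G : Good D} {F : Type*} [Field F] {Γ : Type*} [Group Γ] (C : Cover G F Γ)

theorem ν_conj_τ (h3 : C.R3) (j : Fin D.rank) (c : Fin D.rank → Fˣ) :
    C.ν j * h3.τ c * (C.ν j)⁻¹ = h3.τ (pw Fˣ (Sm (cartanM D) j) c) := by
  induction c using Pi.mulSingle_induction with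
  | one => simp
  | mul a b ha hb => rw [map_mul, map_mul, map_mul, ← ha, ← hb]; group
  | mulSingle i t =>
    have : pw Fˣ (Sm (cartanM D) j) (Pi.mulSingle i t) =
        (Pi.mulSingle j (t ^ G.A (G.sm i) (G.sm j)))⁻¹ * Pi.mulSingle i t := by
      funext k
      rw [pw_apply, Finset.prod_eq_single i (fun b _ hb => by simp [hb]) (by simp)]
      simp only [Sm, Matrix.of_apply, G.cartanM_apply, Pi.mul_apply, Pi.inv_apply, Pi.mulSingle_apply, zpow_sub]
      by_cases h1 : i = k <;> by_cases h2 : k = j <;> simp [h1, h2, eq_comm, mul_comm]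
    rw [this, map_mul, map_inv, h3.τ_single, h3.τ_single, ν, C.n_conj_h _ _ t.ne_zero]
    simp

theorem wp_conj_τ (h3 : C.R3) (w : List (Fin D.rank)) (c : Fin D.rank → Fˣ) :
    wp C.ν w * h3.τ c * (wp C.ν w)⁻¹ = h3.τ (pw Fˣ (wM (cartanM D) w) c) := by
  induction w with
  | nil => simp [wM, pw_one]
  | cons j w ih => rw [wM, pw_mul, ← C.ν_conj_τ, ← ih, wp_cons]; group

theorem x_inj {r : Fin D.nroots} {t u : F} (h : C.x r t = C.x r u) : t = u := by
  rw [← mul_inv_eq_one, ← C.x_neg, ← C.add] at h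
  by_contra e
  exact C.x_ne_one (by rwa [← sub_eq_add_neg, sub_ne_zero]) h

theorem Mon.chr_eq {C : Cover G F Γ} {t : Γ} (ht : t ∈ C.HH) {c : Fin D.rank → Fˣ}
    (hc : (C.π t : Matrix D.Idx D.Idx F) = G.hd c) {m : Γ} {w : Equiv.Perm (Fin D.nroots)} (h : C.Mon m w)
    (e : t * m * t⁻¹ = m) (r : Fin D.nroots) : Good.chr c (G.vec (w r)) = Good.chr c (G.vec r) := by
  obtain ⟨d, hd, -⟩ := h.conj_n r
  have h1 := C.conj_x ht hc (w r) (d * 1)
  rw [← hd, show t * (m * C.x r 1 * m⁻¹) * t⁻¹ = (t * m * t⁻¹) * (t * C.x r 1 * t⁻¹) * (t * m * t⁻¹)⁻¹ by group,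
    e, C.conj_x ht hc, hd] at h1
  have := C.x_inj h1
  rw [mul_one, mul_one, mul_comm] at this
  exact Units.ext (mul_right_cancel₀ d.ne_zero this).symm

/-- the centralizer of a regular diagonal element -/
theorem mem_HH_of_reg {t : Γ} (ht : t ∈ C.HH) {c : Fin D.rank → Fˣ} (hc : (C.π t : Matrix D.Idx D.Idx F) = G.hd c)
    (h1 : ∀ r, Good.chr c (G.vec r) ≠ 1)
    (h2 : ∀ w ∈ G.W, (∀ r, Good.chr c (G.vec (w r)) = Good.chr c (G.vec r)) → w = 1)
    {g : Γ} (hg : g ∈ C.Gr) (e : t * g * t⁻¹ = g) : g ∈ C.HH := by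
  obtain ⟨u, hu, m, hm, w, hw, h, e', v, hv, rfl⟩ := C.cent_diag ht hc hg e
  obtain rfl := h2 w hw (h.chr_eq ht hc e')
  have h0 : ∀ {S : Set (Fin D.nroots)} {y}, y ∈ C.US {r | r ∈ S ∧ Good.chr c (G.vec r) = 1} → y = 1 := fun hy =>
    Subgroup.mem_bot.1 (C.US_empty ▸ C.US_mono (fun r hr => h1 r hr.2) hy)
  rw [h0 (S := {r | G.Pos r}) hu, h0 hv, one_mul, mul_one]
  exact C.mem_HH_of_mon hm h

end Cover

namespace Good

variable (G : Good D)

/-- the positive roots -/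
def posF : Finset (Fin D.nroots) := Finset.univ.filter G.Pos

theorem lang_st {k K : Type*} [Field k] [Field K] [IsAlgClosed K] [Algebra k K]
    (hτ : Function.Injective (G.st_R3 K).τ) {x : (G.posF ⊕ Fin D.rank) ⊕ G.posF → K} (hx : IsTranscendenceBasis k x)
    (σ : Monoid.End (D.SteinbergGroup K))
    (hσ : ∀ (τ : K ≃ₐ[k] K) g, G.stMap (τ : K →+* K) (σ g) = σ (G.stMap (τ : K →+* K) g))
    (hf : ∀ n, 0 < n → {g | (σ ^ n) g = g}.Finite) {a : D.SteinbergGroup K}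
    (haτ : ∀ τ : K ≃ₐ[k] K, G.stMap (τ : K →+* K) a = a) {M : ℕ} (hM : 0 < M) (ha : (σ ^ M) a = a) :
    ∃ g, a = g * (σ g)⁻¹ := by
  obtain ⟨w, hw, h⟩ := G.exists_longest Set.univ
  obtain ⟨l, rfl⟩ := G.exists_wp (G.WJ_le _ hw)
  have hP : ∀ r, r ∈ G.posF ↔ G.Pos r := fun r => by simp [posF]
  have h0 : ∀ g : D.SteinbergGroup K, g ∈ (G.st K).Gr ⊓ Subgroup.centralizer {1} := fun g =>
    ⟨G.mem_st g, by simp [Subgroup.mem_centralizer_singleton_iff]⟩
  obtain ⟨g, -, e⟩ := (G.st K).lang (G.st_R3 K) hτ hx (fun τ => G.stMap (τ : K →+* K)) (fun τ => G.stMap_x _)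
    (t := 1) (c := 1) (one_mem _) (by rw [map_one, G.hd_one]; rfl) (fun r => by simp [hP, chr_one]) l (by simp)
    (fun r hr => h r ((hP r).1 hr) fun _ hi => absurd trivial hi)
    (fun m _ w' hw' _ _ h' => G.longest_unique (G.WJ_univ ▸ hw') hw (fun i _ => h' _ ((hP _).2 (G.pos_sm i)))
      fun i _ => h _ (G.pos_sm i) fun _ hi => absurd trivial hi)
    σ (fun _ _ => h0 _) (fun τ g _ => hσ τ g) (h0 a) haτ (finite_fix_twist σ hf hM ha) (by have := hf 1 one_pos; rwa [pow_one] at this)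
  exact ⟨g, e⟩

/-- regularity of the exponent vector `y` modulo `N` -/
def Reg (S : List (Fin D.nroots)) (y : Fin D.rank → ℤ) (N : ℤ) : Prop :=
  (∀ r, (∑ j, G.vec r j * y j) % N ≠ 0) ∧
    ∀ s ∈ S, ∀ r, r = s ∨ G.len r ≠ G.len s ∨ (∑ j, (G.vec r j - G.vec s j) * y j) % N ≠ 0

instance decReg (S : List (Fin D.nroots)) (y : Fin D.rank → ℤ) (N : ℤ) : Decidable (G.Reg S y N) :=
  inferInstanceAs (Decidable (_ ∧ _))

/-- the roots in `S` span the root lattice -/
def Spans (S : List (Fin D.nroots)) (R : List (List ℤ)) : Prop :=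
  ∀ i j : Fin D.rank, ((S.zip (R.getD i [])).map fun p => p.2 * G.vec p.1 j).sum = if j = i then 1 else 0

instance decSpans (S : List (Fin D.nroots)) (R : List (List ℤ)) : Decidable (G.Spans S R) :=
  inferInstanceAs (Decidable (∀ _, _))

theorem Spans.eq_one {G : Good D} {S : List (Fin D.nroots)} {R : List (List ℤ)} (h : G.Spans S R)
    {w : Equiv.Perm (Fin D.nroots)} (hw : w ∈ G.W) (e : ∀ s ∈ S, w s = s) : w = 1 := by
  refine eq_one_of_pos hw fun i => ?_
  suffices w (G.sm i) = G.sm i by rw [this]; exact G.pos_sm i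
  refine G.vec_inj fun j => ?_
  have h1 : ∀ L : List (Fin D.nroots × ℤ), (∀ p ∈ L, w p.1 = p.1) →
      ∑ k, (L.map fun p => p.2 * G.vec p.1 k).sum * G.vec (w (G.sm k)) j = (L.map fun p => p.2 * G.vec p.1 j).sum := by
    intro L hL
    induction L with
    | nil => simp
    | cons p L ih =>
      simp only [List.map_cons, List.sum_cons, add_mul, Finset.sum_add_distrib,
        ih fun p hp => hL p (List.mem_cons_of_mem _ hp), mul_assoc, ← Finset.mul_sum, ← lin_W hw p.1 j,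
        hL p List.mem_cons_self]
  have := h1 (S.zip (R.getD i [])) fun p hp => e _ (List.of_mem_zip hp).1
  simp only [h i] at this
  simpa [G.vec_sm] using this

theorem chr_zpow {K : Type*} [Field K] (z : Kˣ) (y v : Fin D.rank → ℤ) :
    chr (fun j => z ^ y j) v = z ^ ∑ j, v j * y j := chr_pow z y v

/-- cyclic self-centralizing tori -/
theorem exists_torus {F K : Type*} [Field F] [Field K] [IsAlgClosed K] (ι : F →+* K)
    (hτ : Function.Injective (G.st_R3 K).τ) (σ : D.SteinbergGroup K →* D.SteinbergGroup K) {q : ℕ}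
    {Pm : Matrix (Fin D.rank) (Fin D.rank) ℤ}
    (hστ : ∀ c, σ ((G.st_R3 K).τ c) = (G.st_R3 K).τ (pw Kˣ Pm (c ^ q))) (X : Subgroup (GL D.Idx F))
    (hX : ∀ x, x ∈ X ↔ ∃ y, σ y = y ∧ (G.st K).π y = Matrix.GeneralLinearGroup.map ι x)
    (hX' : ∀ y, σ y = y → ∃ x, (G.st K).π y = Matrix.GeneralLinearGroup.map ι x)
    {w : List (Fin D.rank)} {g : D.SteinbergGroup K} (hg : wp (G.st K).ν w = g * (σ g)⁻¹)
    {V E : Matrix (Fin D.rank) (Fin D.rank) ℤ} {a : Fin D.rank → ℤ}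
    (h1 : Pm * wM (cartanM D) w * (V * Cp a) = V) (h2 : V * E = 1) {N : ℕ}
    (hN : (N : ℤ) = (q : ℤ) ^ D.rank + ∑ i, a i * q ^ (i : ℕ)) (hN0 : (N : K) ≠ 0)
    {S : List (Fin D.nroots)} {R : List (List ℤ)} (hS : G.Spans S R)
    (hr : G.Reg S (fun j => ∑ k : Fin D.rank, (q : ℤ) ^ (k : ℕ) * (E * cartanM D) k j) N) :
    ∃ H : Subgroup X, IsCyclic H ∧
      Nat.card H * Nat.card {c : Fin D.rank → Kˣ // pw Kˣ (cartanM D) c = 1 ∧ pw Kˣ Pm (c ^ q) = c} = N ∧
      Subgroup.centralizer (H : Set X) = H := by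
  set C := G.st K
  set h3 := G.st_R3 K
  have : NeZero (N : K) := ⟨hN0⟩
  have : NeZero N := ⟨fun h => hN0 (by simp [h])⟩
  obtain ⟨ζ, hζ⟩ := HasEnoughRootsOfUnity.exists_primitiveRoot K N
  lift ζ to Kˣ using hζ.isUnit (NeZero.ne N)
  rw [IsPrimitiveRoot.coe_units_iff] at hζ
  have hl : 0 < D.rank := by have := G.two_le_rank; omega
  set c0 : Fin D.rank → Kˣ := pw Kˣ E fun k => ζ ^ q ^ (k : ℕ) with hc0
  have hinj : Function.Injective (Matrix.GeneralLinearGroup.map (n := D.Idx) ι) := fun a b h => by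
    ext i j
    exact ι.injective (congrArg (fun M : GL D.Idx K => (M : Matrix D.Idx D.Idx K) i j) h)
  have hfix : ∀ c, σ (g⁻¹ * h3.τ c * g) = g⁻¹ * h3.τ c * g ↔ c ∈ Subgroup.zpowers c0 := fun c => by
    have e1 : σ g = (wp C.ν w)⁻¹ * g := by rw [hg]; group
    have e2 : σ (g⁻¹ * h3.τ c * g) = g⁻¹ * h3.τ (pw Kˣ (Pm * wM (cartanM D) w) (c ^ q)) * g := by
      rw [map_mul, map_mul, map_inv, e1, hστ, pw_mul, ← C.wp_conj_τ]; group
    rw [e2, mul_left_inj, mul_right_inj, hτ.eq_iff, tor_iff hl h1 h2, ← hN]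
    constructor
    · rintro ⟨z, hz, rfl⟩
      obtain ⟨i, -, rfl⟩ := hζ.eq_pow_of_mem_rootsOfUnity (ξ := z) (by simpa using hz)
      refine ⟨i, ?_⟩
      simp only [zpow_natCast, hc0, ← map_pow]
      congr 1
      funext k
      simp only [Pi.pow_apply, ← pow_mul, mul_comm]
    · rintro ⟨i, rfl⟩
      refine ⟨ζ ^ i, by rw [← zpow_mul, mul_comm, zpow_mul, zpow_natCast, hζ.pow_eq_one, one_zpow], ?_⟩
      simp only [hc0, ← map_zpow]
      congr 1
      funext k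
      simp only [Pi.pow_apply, ← zpow_natCast, ← zpow_mul, mul_comm]
  have hord : orderOf c0 = N := by
    rw [hc0, orderOf_injective _ (pw_injective (mul_eq_one_comm.1 h2)), hζ.eq_orderOf, orderOf_eq_orderOf_iff]
    refine fun n => ⟨fun h => by simpa using congrFun h ⟨0, hl⟩, fun h => funext fun k => ?_⟩
    rw [Pi.pow_apply, ← pow_mul, mul_comm, pow_mul, h, one_pow, Pi.one_apply]
  have hy := (hfix c0).2 (Subgroup.mem_zpowers c0)
  obtain ⟨x0, hx0⟩ := hX' _ hy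
  have hx : x0 ∈ X := (hX x0).2 ⟨_, hy, hx0⟩
  have hcen : ∀ c, pw Kˣ (cartanM D) c = 1 → g⁻¹ * h3.τ c * g = h3.τ c := fun c hc => by
    rw [mul_assoc, ← C.comm_of_π_eq_one (G.mem_st _) (h3.π_τ_eq_one.2 hc) (G.mem_st g), inv_mul_cancel_left]
  refine ⟨Subgroup.zpowers ⟨x0, hx⟩, inferInstance, ?_, le_antisymm (fun x hxc => ?_) ?_⟩
  · let φ := (pw Kˣ (cartanM D)).comp (Subgroup.zpowers c0).subtype
    have e1 : Nat.card φ.range = Nat.card (Subgroup.zpowers (⟨x0, hx⟩ : X)) := by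
      rw [Nat.card_zpowers, ← orderOf_injective X.subtype X.subtype_injective, ← orderOf_injective _ hinj,
        X.subtype_apply, ← hx0, map_mul, map_mul, map_inv, MonoidHom.range_comp, Subgroup.range_subtype,
        MonoidHom.map_zpowers, Nat.card_zpowers, ← orderOf_injective _ G.hdU_injective]
      exact (SemiconjBy.orderOf_eq (C.π g) (by
        rw [show G.hdU (pw Kˣ (cartanM D) c0) = C.π (h3.τ c0) from Units.ext (h3.π_τ c0).symm]
        unfold SemiconjBy; group)).symm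
    have e2 : Nat.card φ.ker = Nat.card {c : Fin D.rank → Kˣ // pw Kˣ (cartanM D) c = 1 ∧ pw Kˣ Pm (c ^ q) = c} := by
      have : ∀ c, pw Kˣ (cartanM D) c = 1 → (c ∈ Subgroup.zpowers c0 ↔ pw Kˣ Pm (c ^ q) = c) := fun c hc => by
        rw [← hfix, hcen c hc, hστ, hτ.eq_iff]
      exact Nat.card_congr ⟨fun c => ⟨c.1.1, c.2, (this _ c.2).1 c.1.2⟩, fun c => ⟨⟨c.1, (this _ c.2.1).2 c.2.2⟩, c.2.1⟩,
        fun _ => rfl, fun _ => rfl⟩
    rw [← e1, ← e2, ← hord, ← Nat.card_zpowers, Subgroup.card_eq_card_quotient_mul_card_subgroup φ.ker,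
      Nat.card_congr (QuotientGroup.quotientKerEquivRange φ).toEquiv]
  · obtain ⟨y, hy1, hy2⟩ := (hX x).1 x.2
    have e1 : x0 * x = x * x0 := congrArg Subtype.val (hxc _ (Subgroup.mem_zpowers _))
    have e2 := congrArg (Matrix.GeneralLinearGroup.map ι) e1
    rw [map_mul, map_mul, ← hx0, ← hy2] at e2
    have hc : pw Kˣ (cartanM D) c0 = fun j => ζ ^ ∑ k : Fin D.rank, (q : ℤ) ^ (k : ℕ) * (E * cartanM D) k j := by
      funext j
      rw [hc0, ← pw_mul, pw_apply, ← prod_zpow_sum]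
      simp only [← zpow_natCast, ← zpow_mul]
      push_cast
      rfl
    have h4 : C.π (g * y * g⁻¹) ∈ (G.gl K).HH := by
      refine (G.gl K).mem_HH_of_reg (t := C.π (h3.τ c0))
        (C.map_HH (G.gl K) C.π C.π_x' ▸ Subgroup.mem_map_of_mem _ (h3.τ_mem c0)) (h3.π_τ c0) (fun r hr' => ?_)
        (fun v hv h => hS.eq_one hv fun s hs => ?_) (C.π_mem_Gr (G.mem_st _)) ?_
      · rw [hc, chr_pow, hζ.zpow_eq_one_iff_dvd] at hr'
        exact hr.1 r (Int.emod_eq_zero_of_dvd hr')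
      · refine (hr.2 s hs (v s)).resolve_right fun h' => h'.elim (fun h' => h' (len_W hv s)) fun h' => h' ?_
        have := h s
        rw [hc, chr_pow, chr_pow, ← mul_inv_eq_one, ← zpow_sub, hζ.zpow_eq_one_iff_dvd, ← Finset.sum_sub_distrib] at this
        simpa only [sub_mul] using Int.emod_eq_zero_of_dvd this
      · simp only [map_mul, map_inv] at e2 ⊢
        calc _ = C.π g * ((C.π g)⁻¹ * C.π (h3.τ c0) * C.π g * C.π y) * (C.π g)⁻¹ * (C.π (h3.τ c0))⁻¹ := by group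
          _ = _ := by rw [e2]; group
    rw [← C.map_HH (G.gl K) C.π C.π_x'] at h4
    obtain ⟨k, hk, e3⟩ := h4
    have h5 : g * y * g⁻¹ * k⁻¹ ∈ C.HH := C.mem_HH_of_π_eq_one (G.mem_st _) (by rw [map_mul, ← e3, map_inv, mul_inv_cancel])
    obtain ⟨c, e4⟩ := h3.exists_τ (mul_mem h5 hk)
    have e5 : y = g⁻¹ * h3.τ c * g := by rw [e4]; group
    obtain ⟨i, rfl⟩ := (hfix c).1 (e5 ▸ hy1)
    refine ⟨i, Subtype.ext (hinj ?_)⟩
    simp only [SubgroupClass.coe_zpow, map_zpow]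
    rw [← hx0, ← hy2, e5, map_zpow, ← map_zpow]
    congr 1
    simpa using conj_zpow (i := i) (a := g⁻¹) (b := h3.τ c0)
  · exact Subgroup.le_centralizer _

end Good

end CfsgH6
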