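import Mathlib
import Cfsg.Agent.H6.MaxTor
import Cfsg.Agent.H6.TwD4
import Cfsg.Agent.H6.Smith
import Cfsg.Agent.H6.GoodAll

/-! Cyclic self-centralizing tori in exceptional groups. -/

set_option autoImplicit false
set_option maxRecDepth 100000

namespace CfsgH6

open Cfsg.Lie

variable {D : ChevalleyDatum}

theorem poly_ne_zero {l : ℕ} (d : Fin l → ℤ) {q : ℤ} (h : ∀ k, |d k| < q) (h0 : ∑ k : Fin l, q ^ (k : ℕ) * d k = 0) :
    d = 0 := by
  induction l with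
  | zero => exact Subsingleton.elim _ _
  | succ l ih =>
    simp only [Fin.sum_univ_succ, Fin.val_zero, pow_zero, one_mul, Fin.val_succ, pow_succ', mul_assoc,
      ← Finset.mul_sum] at h0
    have h1 : d 0 = 0 := Int.eq_zero_of_abs_lt_dvd ⟨_, by rw [← neg_mul_eq_mul_neg]; exact eq_neg_of_add_eq_zero_left h0⟩ (h 0)
    have hq : q ≠ 0 := fun e => by have := h 0; rw [h1, e] at this; simp at this
    rw [h1, zero_add, mul_eq_zero, or_iff_right hq] at h0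
    have := ih (fun k => d k.succ) (fun k => h _) h0
    funext k
    exact Fin.cases h1 (fun k => congrFun this k) k

theorem poly_emod_ne {l : ℕ} (d : Fin l → ℤ) {q : ℕ} {N : ℤ} (h : ∀ k, |d k| ≤ 4) (h0 : ∃ k, d k ≠ 0) (hq : 4 < q)
    (hN : 4 * ∑ k : Fin l, (q : ℤ) ^ (k : ℕ) < N) : (∑ k : Fin l, (q : ℤ) ^ (k : ℕ) * d k) % N ≠ 0 := fun e => by
  have h1 : |∑ k : Fin l, (q : ℤ) ^ (k : ℕ) * d k| < N := by
    refine ((Finset.abs_sum_le_sum_abs _ _).trans ?_).trans_lt hN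
    rw [Finset.mul_sum]
    refine Finset.sum_le_sum fun k _ => ?_
    rw [abs_mul, abs_of_nonneg (by positivity), mul_comm]
    exact mul_le_mul_of_nonneg_right (h k) (by positivity)
  obtain ⟨k, hk⟩ := h0
  exact hk (congrFun (poly_ne_zero d (fun k => (h k).trans_lt (by exact_mod_cast hq))
    (Int.eq_zero_of_abs_lt_dvd (Int.dvd_of_emod_eq_zero e) h1)) k)

theorem pow_card_iff {F K : Type*} [Field F] [Fintype F] [Field K] (ι : F →+* K) (t : K) :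
    t ^ Fintype.card F = t ↔ ∃ s, ι s = t := by
  classical
  refine ⟨fun h => ?_, by rintro ⟨s, rfl⟩; rw [← map_pow, FiniteField.pow_card]⟩
  have h1 := FiniteField.X_pow_card_sub_X_ne_zero K (Fintype.one_lt_card (α := F))
  have h2 : Finset.univ.image ι = (Polynomial.X ^ Fintype.card F - Polynomial.X : Polynomial K).roots.toFinset := by
    refine Finset.eq_of_subset_of_card_le (fun y hy => ?_) ?_
    · obtain ⟨s, -, rfl⟩ := Finset.mem_image.1 hy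
      simp [h1, ← map_pow, FiniteField.pow_card]
    · rw [Finset.card_image_of_injective _ ι.injective, Finset.card_univ]
      exact (Multiset.toFinset_card_le _).trans ((Polynomial.card_roots' _).trans_eq
        (FiniteField.X_pow_card_sub_X_natDegree_eq K Fintype.one_lt_card))
  have : t ∈ Finset.univ.image ι := by rw [h2]; simp [h1, h]
  simpa using this

/-- data for a cyclic torus -/
structure TorD where
  A : List (List ℤ)
  P : List (List ℤ)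
  w : List ℕ
  V : List (List ℤ)
  V' : List (List ℤ)
  E : List (List ℤ)
  B : List (List ℤ)
  a : List ℤ
  S : List ℕ
  R : List (List ℤ)

/-- restriction of a list of numbers -/
def finL (n : ℕ) (L : List ℕ) : List (Fin n) := L.filterMap fun i => if h : i < n then some ⟨i, h⟩ else none

/-- equality of matrices -/
def MEq {l : ℕ} (M N : Matrix (Fin l) (Fin l) ℤ) : Prop := ∀ i j, M i j = N i j

instance decMEq {l : ℕ} (M N : Matrix (Fin l) (Fin l) ℤ) : Decidable (MEq M N) :=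
  @Nat.decidableForallFin _ _ fun _ => @Nat.decidableForallFin _ _ fun _ => Int.decEq _ _

namespace TorD

variable (T : TorD) (G : Good D)

/-- the order of the torus -/
def N (l : ℕ) (q : ℤ) : ℤ := q ^ l + ∑ i : Fin l, T.a.getD i 0 * q ^ (i : ℕ)

/-- small nonzero vector -/
def Small {l : ℕ} (d : Fin l → ℤ) : Prop := (∀ k, |d k| ≤ 4) ∧ ∃ k, d k ≠ 0

instance decSmall {l : ℕ} (d : Fin l → ℤ) : Decidable (Small d) := inferInstanceAs (Decidable (_ ∧ _))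

/-- the checks -/
def OK : Prop := MEq (cartanM D) (lm D.rank T.A) ∧
  MEq (lm D.rank T.V * Cp fun i : Fin D.rank => T.a.getD i 0) (lm D.rank T.V') ∧
  MEq (lm D.rank T.P * wX (lm D.rank T.A) (finL _ T.w) (lm D.rank T.V')) (lm D.rank T.V) ∧
  MEq (lm D.rank T.V * lm D.rank T.E) 1 ∧
  MEq (lm D.rank T.E * lm D.rank T.A) (lm D.rank T.B) ∧ (T.a.getD 0 0 = 1 ∨ T.a.getD 0 0 = -1) ∧
  G.Spans (finL _ T.S) T.R ∧ (∀ r, Small fun k => ∑ j, G.vec r j * lm D.rank T.B k j) ∧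
  ∀ s ∈ finL _ T.S, ∀ r, r = s ∨ Small fun k => ∑ j, (G.vec r j - G.vec s j) * lm D.rank T.B k j

instance decOK : Decidable (T.OK G) := by
  unfold OK
  refine @instDecidableAnd _ _ inferInstance (@instDecidableAnd _ _ inferInstance (@instDecidableAnd _ _ inferInstance
    (@instDecidableAnd _ _ inferInstance (@instDecidableAnd _ _ inferInstance (@instDecidableAnd _ _ inferInstance
    (@instDecidableAnd _ _ inferInstance (@instDecidableAnd _ _ inferInstance inferInstance)))))))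

/-- regularity -/
def Reg (q : ℕ) : Prop :=
  G.Reg (finL _ T.S) (fun j => ∑ k : Fin D.rank, (q : ℤ) ^ (k : ℕ) * lm D.rank T.B k j) (T.N D.rank q)

instance decReg (q : ℕ) : Decidable (T.Reg G q) := G.decReg _ _ _

theorem reg_of_large (h : T.OK G) {q : ℕ} (hq : 4 < q)
    (hN : 4 * ∑ k : Fin D.rank, (q : ℤ) ^ (k : ℕ) < T.N D.rank q) : T.Reg G q := by
  have key : ∀ v : Fin D.rank → ℤ, (Small fun k => ∑ j, v j * lm D.rank T.B k j) →
      (∑ j, v j * ∑ k : Fin D.rank, (q : ℤ) ^ (k : ℕ) * lm D.rank T.B k j) % T.N D.rank q ≠ 0 := fun v hv => by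
    have := poly_emod_ne _ hv.1 hv.2 hq hN
    simp only [Finset.mul_sum] at this ⊢
    rw [Finset.sum_comm]
    simpa only [mul_left_comm] using this
  exact ⟨fun r => key _ (h.2.2.2.2.2.2.2.1 r), fun s hs r => (h.2.2.2.2.2.2.2.2 s hs r).imp_right
    fun h => Or.inr (key _ h)⟩

theorem exists_torus (h : T.OK G) {F K : Type*} [Field F] [Field K] [IsAlgClosed K] (ι : F →+* K)
    (hτ : Function.Injective (G.st_R3 K).τ) (σ : D.SteinbergGroup K →* D.SteinbergGroup K) {q : ℕ} (hq : (q : K) = 0)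
    (hστ : ∀ c, σ ((G.st_R3 K).τ c) = (G.st_R3 K).τ (pw Kˣ (lm D.rank T.P) (c ^ q))) (X : Subgroup (GL D.Idx F))
    (hX : ∀ x, x ∈ X ↔ ∃ y, σ y = y ∧ (G.st K).π y = Matrix.GeneralLinearGroup.map ι x)
    (hX' : ∀ y, σ y = y → ∃ x, (G.st K).π y = Matrix.GeneralLinearGroup.map ι x)
    (hg : ∀ w, ∃ g, wp (G.st K).ν w = g * (σ g)⁻¹) {N : ℕ} (hN : (N : ℤ) = T.N D.rank q) (hr : T.Reg G q) :
    ∃ H : Subgroup X, IsCyclic H ∧
      Nat.card H * Nat.card {c : Fin D.rank → Kˣ // pw Kˣ (cartanM D) c = 1 ∧ pw Kˣ (lm D.rank T.P) (c ^ q) = c} = N ∧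
      Subgroup.centralizer (H : Set X) = H := by
  obtain ⟨g, hg⟩ := hg (finL _ T.w)
  obtain ⟨h1, h2, h3, h4, h5, h6, h7, -⟩ := h
  have e1 : cartanM D = lm D.rank T.A := Matrix.ext h1
  refine G.exists_torus ι hτ σ hστ X hX hX' hg (V := lm D.rank T.V) (E := lm D.rank T.E) ?_ (Matrix.ext h4) hN ?_ h7 ?_
  · rw [Matrix.ext h2, Matrix.mul_assoc, wM_mul, e1]
    exact Matrix.ext h3
  · have := congrArg (Int.cast : ℤ → K) hN
    have hl := G.two_le_rank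
    rw [Int.cast_natCast] at this
    rw [this, TorD.N]
    push_cast
    rw [hq, zero_pow (by omega), zero_add, Finset.sum_eq_single ⟨0, by omega⟩
      (fun b _ hb => by rw [zero_pow fun e => hb (Fin.ext e), mul_zero]) (by simp)]
    rcases h6 with h6 | h6 <;> simp [-List.getD_eq_getElem?_getD, h6]
  · rw [e1, Matrix.ext h5, hN]
    exact hr

end TorD

theorem Good.stMap_comp (G : Good D) {F K L : Type*} [Field F] [Field K] [Field L] (ι : F →+* K) (κ : K →+* L)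
    (g : D.SteinbergGroup F) : G.stMap κ (G.stMap ι g) = G.stMap (κ.comp ι) g :=
  DFunLike.congr_fun (G.st_ext (φ := (G.stMap κ).comp (G.stMap ι)) (ψ := G.stMap (κ.comp ι)) fun r t => by
    simp [G.stMap_x]) g

theorem Good.stMap_pow (G : Good D) {K : Type*} [Field K] (φ : K →+* K) (n : ℕ) (g : D.SteinbergGroup K) :
    ((show Monoid.End _ from G.stMap φ) ^ n) g = G.stMap (φ ^ n) g := by
  induction n with
  | zero => exact (DFunLike.congr_fun (G.st_ext (φ := G.stMap 1) (ψ := MonoidHom.id _) fun r t => G.stMap_x _ r t) g).symm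
  | succ n ih => rw [pow_succ', pow_succ', Monoid.End.coe_mul, Function.comp_apply, ih]; exact G.stMap_comp _ _ g

theorem ringHom_pow_apply {K : Type*} [Field K] {φ : K →+* K} {q : ℕ} (h : ∀ t, φ t = t ^ q) (n : ℕ) (t : K) :
    (φ ^ n) t = t ^ q ^ n := by
  induction n with
  | zero => simp
  | succ n ih => rw [pow_succ', RingHom.coe_mul, Function.comp_apply, ih, h, ← pow_mul, pow_succ]

theorem Good.finite_fix_pow (G : Good D) {K : Type*} [Field K] (hτ : Function.Injective (G.st_R3 K).τ)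
    {σ : Monoid.End (D.SteinbergGroup K)} {e : ℕ} {φ : K →+* K} {q : ℕ} (hq : 1 < q) (hφ : ∀ t, φ t = t ^ q)
    (h : σ ^ e = G.stMap φ) (n : ℕ) (hn : 0 < n) : {g | (σ ^ n) g = g}.Finite := by
  refine (G.finite_fix hτ (Nat.one_lt_pow hn.ne' hq) (ringHom_pow_apply hφ n)).subset fun g hg => ?_
  rw [Set.mem_setOf_eq, ← G.stMap_pow, ← h, ← pow_mul, mul_comm, pow_mul, Monoid.End.coe_pow]
  exact Function.iterate_fixed hg e

/-- the generic algebraically closed field -/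
abbrev Good.Kg (G : Good D) (F : Type*) [Field F] :=
  AlgebraicClosure (FractionRing (MvPolynomial ((G.posF ⊕ Fin D.rank) ⊕ G.posF) F))

theorem TorD.exists_torus_un (T : TorD) {G : Good D} (h : T.OK G)
    (hD : D ∈ [chevG2, chevB2, chevD4, chevF4, chevE6, chevE7, chevE8]) (hP : lm D.rank T.P = 1)
    {F : Type*} [Field F] [Fintype F] {q N : ℕ} (hq : Fintype.card F = q) (hN : (N : ℤ) = T.N D.rank q)
    (hr : T.Reg G q) : ∃ H : Subgroup (D.group F), IsCyclic H ∧ Nat.card H * Nat.card (pw Fˣ (cartanM D)).ker = N ∧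
      Subgroup.centralizer (H : Set (D.group F)) = H := by
  subst hq
  obtain ⟨x, hx⟩ := exists_generic F ((G.posF ⊕ Fin D.rank) ⊕ G.posF)
  let K := G.Kg F
  let φ : K →+* K := FiniteField.frobeniusAlgHom F K
  have hφ : ∀ t, φ t = t ^ Fintype.card F := fun _ => rfl
  have hτ := τ_injective_of_mem K hD G
  have h1 := G.stMap_range hτ (algebraMap F K) φ (pow_card_iff _)
  have h2 := fun g => (G.st F).fmap_π (G.st K) (G.stMap_x (algebraMap F K)) (G.mem_st g)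
  refine Exists.imp (fun H ⟨e1, e2, e3⟩ => ?_) (T.exists_torus G h (algebraMap F K) hτ (G.stMap φ) (q := Fintype.card F)
    (by rw [← map_natCast (algebraMap F K), FiniteField.cast_card_eq_zero, map_zero])
    (fun c => by
      rw [hP, pw_one, (G.st K).fmap_τ (G.st K) (G.stMap_x φ) _ (G.st_R3 K)]
      exact congrArg _ (funext fun i => Units.ext (by simp [hφ])))
    (D.group F) (fun y => ⟨fun hy => ?_, ?_⟩) (fun y hy => ?_) (fun w => ?_) hN hr)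
  · obtain ⟨a, -, rfl⟩ := (G.st F).exists_π (G.group_eq F ▸ hy)
    exact ⟨_, (h1 _).2 ⟨a, rfl⟩, h2 a⟩
  · rintro ⟨z, hz, e⟩
    obtain ⟨a, rfl⟩ := (h1 _).1 hz
    have : (G.st F).π a = y := by
      rw [h2] at e
      ext i j
      exact (algebraMap F K).injective (congrArg (fun M : GL D.Idx K => (M : Matrix D.Idx D.Idx K) i j) e)
    rw [← this, G.group_eq]
    exact (G.st F).π_mem_Gr (G.mem_st a)
  · obtain ⟨a, rfl⟩ := (h1 _).1 hy
    exact ⟨_, h2 a⟩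
  · refine G.lang_st hτ hx (G.stMap φ) (fun τ g => ?_)
      (G.finite_fix_pow hτ Fintype.one_lt_card hφ (pow_one _))
      (fun τ => (G.st K).fmap_wp _ (G.stMap_x _) w) one_pos ((G.st K).fmap_wp _ (G.stMap_x _) w)
    change G.stMap _ (G.stMap φ g) = G.stMap φ (G.stMap _ g)
    rw [G.stMap_comp, G.stMap_comp]
    congr 2
    ext t
    simp [hφ]
  · refine ⟨e1, e2 ▸ congrArg _ (Nat.card_congr (Equiv.ofBijective
      (fun c => ⟨fun i => Units.map (algebraMap F K : F →* K) (c.1 i), ?_, ?_⟩) ⟨fun c d e => ?_, fun c => ?_⟩)), e3⟩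
    · funext j
      have := congrArg (Units.map (algebraMap F K : F →* K)) (congrFun c.2 j)
      simpa [pw_apply] using this
    · rw [hP, pw_one]
      exact funext fun i => Units.ext (by simp [← map_pow, FiniteField.pow_card])
    · exact Subtype.ext (funext fun i => Units.map_injective (algebraMap F K).injective
        (congrFun (congrArg Subtype.val e) i))
    · have h3 : c.1 ^ Fintype.card F = c.1 := by rw [← pw_one (c.1 ^ _), ← hP]; exact c.2.2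
      have h4 : ∀ i, ∃ s : Fˣ, Units.map (algebraMap F K : F →* K) s = c.1 i := fun i => by
        obtain ⟨s, hs⟩ := (pow_card_iff (algebraMap F K) (c.1 i : K)).1
          (by simpa using congrArg Units.val (congrFun h3 i))
        exact ⟨Units.mk0 s fun e => (c.1 i).ne_zero (by rw [← hs, e, map_zero]), Units.ext hs⟩
      choose d hd using h4
      refine ⟨⟨d, funext fun j => Units.map_injective (f := (algebraMap F K : F →* K)) (algebraMap F K).injective ?_⟩,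
        Subtype.ext (funext hd)⟩
      simpa [pw_apply, hd] using congrFun c.2.1 j

/-- torus data -/
def torG2 : TorD where
  A := [[2, -3], [-1, 2]]
  P := [[1, 0], [0, 1]]
  w := [0, 1, 0, 1]
  V := [[-1, 2], [0, -1]]
  V' := [[2, -1], [-1, 1]]
  E := [[-1, -2], [0, -1]]
  B := [[0, -1], [1, -2]]
  a := [1, 1]
  S := [4, 5]
  R := [[-1, 0], [0, -1]]

theorem torG2_ok : torG2.OK goodG2 := by decide +kernel

theorem torG2_N (q : ℤ) : torG2.N chevG2.rank q = q ^ 2 + q + 1 := by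
  change torG2.N 2 q = _
  simp [TorD.N, torG2, Fin.sum_univ_succ]; ring

theorem torG2_reg {q : ℕ} (hq : 3 ≤ q) : torG2.Reg goodG2 q := by
  by_cases h : q < 5
  · have : ∀ q < 5, 3 ≤ q → torG2.Reg goodG2 q := by decide +kernel
    exact this q h hq
  · refine torG2.reg_of_large goodG2 torG2_ok (by omega) ?_
    obtain ⟨s, rfl⟩ := Nat.exists_eq_add_of_le (not_lt.1 h)
    rw [torG2_N, ← sub_pos]
    change 0 < _ - 4 * ∑ k : Fin 2, _
    simp only [Fin.sum_univ_succ, Fin.sum_univ_zero, Fin.val_succ, Fin.val_zero]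
    push_cast
    ring_nf
    positivity

/-- torus data -/
def torF4 : TorD where
  A := [[2, -1, 0, 0], [-1, 2, -2, 0], [0, -1, 2, -1], [0, 0, -1, 2]]
  P := [[1, 0, 0, 0], [0, 1, 0, 0], [0, 0, 1, 0], [0, 0, 0, 1]]
  w := [0, 1, 2, 1, 2, 3]
  V := [[-1, 1, 1, 1], [0, -1, 0, -1], [0, 0, 0, 1], [0, 0, -1, -1]]
  V' := [[1, 1, 1, 1], [-1, 0, -1, 0], [0, 0, 1, 0], [0, -1, -1, 0]]
  E := [[-1, -1, -1, -1], [0, -1, -1, 0], [0, 0, -1, -1], [0, 0, 1, 0]]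
  B := [[-1, 0, 1, -1], [1, -1, 0, 1], [0, 1, -1, -1], [0, -1, 2, -1]]
  a := [1, 0, 0, 0]
  S := [20, 22, 34, 21]
  R := [[1, 0, 1, 0], [-1, 0, 0, 0], [0, -1, 0, 0], [0, 1, 0, -1]]

theorem torF4_ok : torF4.OK goodF4 := by decide +kernel

theorem torF4_N (q : ℤ) : torF4.N chevF4.rank q = q ^ 4 + 1 := by
  change torF4.N 4 q = _
  simp [TorD.N, torF4, Fin.sum_univ_succ]

theorem torF4_reg {q : ℕ} (hq : 2 ≤ q) : torF4.Reg goodF4 q := by
  by_cases h : q < 5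
  · have : ∀ q < 5, 2 ≤ q → torF4.Reg goodF4 q := by decide +kernel
    exact this q h hq
  · refine torF4.reg_of_large goodF4 torF4_ok (by omega) ?_
    obtain ⟨s, rfl⟩ := Nat.exists_eq_add_of_le (not_lt.1 h)
    rw [torF4_N, ← sub_pos]
    change 0 < _ - 4 * ∑ k : Fin 4, _
    simp only [Fin.sum_univ_succ, Fin.sum_univ_zero, Fin.val_succ, Fin.val_zero]
    push_cast
    ring_nf
    positivity

/-- torus data -/
def torE6 : TorD where
  A := [[2, 0, -1, 0, 0, 0], [0, 2, 0, -1, 0, 0], [-1, 0, 2, -1, 0, 0], [0, -1, -1, 2, -1, 0], [0, 0, 0, -1, 2, -1], [0, 0, 0, 0, -1, 2]]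
  P := [[1, 0, 0, 0, 0, 0], [0, 1, 0, 0, 0, 0], [0, 0, 1, 0, 0, 0], [0, 0, 0, 1, 0, 0], [0, 0, 0, 0, 1, 0], [0, 0, 0, 0, 0, 1]]
  w := [0, 1, 2, 3, 4, 5]
  V := [[-1, 1, 0, 0, 1, 0], [0, 0, 0, 1, 0, 1], [0, -1, 1, 0, 0, 1], [0, 0, -1, 0, 0, -1], [0, 0, 0, -1, 0, 0], [0, 0, 0, 0, -1, 0]]
  V' := [[1, 0, 0, 1, 0, 0], [0, 0, 1, 0, 1, 0], [-1, 1, 0, 0, 1, 0], [0, -1, 0, 0, -1, 1], [0, 0, -1, 0, 0, -1], [0, 0, 0, -1, 0, 0]]
  E := [[-1, 0, -1, -1, 0, -1], [0, 0, -1, -1, 0, 0], [0, -1, 0, -1, -1, 0], [0, 0, 0, 0, -1, 0], [0, 0, 0, 0, 0, -1], [0, 1, 0, 0, 1, 0]]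
  B := [[-1, 1, 0, -1, 2, -2], [1, 1, -1, -1, 1, 0], [0, -1, 1, 0, -1, 1], [0, 0, 0, 1, -2, 1], [0, 0, 0, 0, 1, -2], [0, 2, 0, -2, 2, -1]]
  a := [1, 1, 0, -1, 0, 1]
  S := [15, 29, 32, 34, 35, 24]
  R := [[-1, 0, 0, 0, 0, 0], [0, 0, 1, 0, 0, -1], [0, -1, 0, 0, 0, 0], [0, 0, -1, 0, 0, 0], [0, 0, 0, -1, 0, 0], [0, 0, 0, 0, -1, 0]]

theorem torE6_ok : torE6.OK goodE6 := by decide +kernel

theorem torE6_N (q : ℤ) : torE6.N chevE6.rank q = q ^ 6 + q ^ 5 - q ^ 3 + q + 1 := by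
  change torE6.N 6 q = _
  simp [TorD.N, torE6, Fin.sum_univ_succ]; ring

theorem torE6_reg {q : ℕ} (hq : 2 ≤ q) : torE6.Reg goodE6 q := by
  by_cases h : q < 5
  · have : ∀ q < 5, 2 ≤ q → torE6.Reg goodE6 q := by decide +kernel
    exact this q h hq
  · refine torE6.reg_of_large goodE6 torE6_ok (by omega) ?_
    obtain ⟨s, rfl⟩ := Nat.exists_eq_add_of_le (not_lt.1 h)
    rw [torE6_N, ← sub_pos]
    change 0 < _ - 4 * ∑ k : Fin 6, _
    simp only [Fin.sum_univ_succ, Fin.sum_univ_zero, Fin.val_succ, Fin.val_zero]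
    push_cast
    ring_nf
    positivity

/-- torus data -/
def torE7 : TorD where
  A := [[2, 0, -1, 0, 0, 0, 0], [0, 2, 0, -1, 0, 0, 0], [-1, 0, 2, -1, 0, 0, 0], [0, -1, -1, 2, -1, 0, 0], [0, 0, 0, -1, 2, -1, 0], [0, 0, 0, 0, -1, 2, -1], [0, 0, 0, 0, 0, -1, 2]]
  P := [[1, 0, 0, 0, 0, 0, 0], [0, 1, 0, 0, 0, 0, 0], [0, 0, 1, 0, 0, 0, 0], [0, 0, 0, 1, 0, 0, 0], [0, 0, 0, 0, 1, 0, 0], [0, 0, 0, 0, 0, 1, 0], [0, 0, 0, 0, 0, 0, 1]]
  w := [0, 1, 2, 3, 1, 4, 3, 5, 4, 3, 6]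
  V := [[0, 1, 0, 1, 0, 0, 0], [0, 1, 0, 0, -1, 0, 0], [0, 0, 1, 0, 1, 0, 0], [0, -1, -1, 0, 0, 1, 0], [0, 0, 0, -1, 0, -1, 1], [0, 0, 1, 1, 0, 0, -1], [-1, 0, -1, 0, 0, 0, 0]]
  V' := [[1, 0, 1, 0, 0, 0, -1], [1, 0, 0, -1, 0, 0, 1], [0, 1, 0, 1, 0, 0, 0], [-1, -1, 0, 0, 1, 0, 0], [0, 0, -1, 0, -1, 1, 0], [0, 1, 1, 0, 0, -1, 0], [0, -1, 0, 0, 0, 0, 0]]
  E := [[0, -1, -1, -1, -1, -1, -1], [0, 0, 0, -1, -1, -1, 0], [0, 1, 1, 1, 1, 1, 0], [1, 0, 0, 1, 1, 1, 0], [0, -1, 0, -1, -1, -1, 0], [0, 1, 1, 1, 0, 0, 0], [1, 1, 1, 2, 2, 1, 0]]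
  B := [[1, -1, -1, 1, 0, 0, -1], [0, 1, 1, -1, 0, -1, 1], [-1, 1, 1, -1, 0, 1, -1], [2, -1, -2, 1, 0, 1, -1], [0, -1, 1, 0, 0, -1, 1], [-1, 1, 1, 0, -1, 0, 0], [1, 0, -1, 0, 1, 0, -1]]
  a := [1, 0, -1, 1, 1, -1, 0]
  S := [47, 59, 62, 46, 58, 42, 26]
  R := [[0, 0, 0, 0, 0, 1, -1], [-1, 0, 0, 0, 0, 0, 0], [0, 0, 0, 1, 0, -1, 0], [1, 0, 0, -1, 0, 0, 0], [0, -1, 0, 0, 0, 0, 0], [0, 1, 0, 0, -1, 0, 0], [0, 0, -1, 0, 0, 0, 0]]

theorem torE7_ok : torE7.OK goodE7 := by decide +kernel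

theorem torE7_N (q : ℤ) : torE7.N chevE7.rank q = q ^ 7 - q ^ 5 + q ^ 4 + q ^ 3 - q ^ 2 + 1 := by
  change torE7.N 7 q = _
  simp [TorD.N, torE7, Fin.sum_univ_succ]; ring

theorem torE7_reg {q : ℕ} (hq : 2 ≤ q) : torE7.Reg goodE7 q := by
  by_cases h : q < 6
  · have : ∀ q < 6, 2 ≤ q → torE7.Reg goodE7 q := by decide +kernel
    exact this q h hq
  · refine torE7.reg_of_large goodE7 torE7_ok (by omega) ?_
    obtain ⟨s, rfl⟩ := Nat.exists_eq_add_of_le (not_lt.1 h)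
    rw [torE7_N, ← sub_pos]
    change 0 < _ - 4 * ∑ k : Fin 7, _
    simp only [Fin.sum_univ_succ, Fin.sum_univ_zero, Fin.val_succ, Fin.val_zero]
    push_cast
    ring_nf
    positivity

/-- torus data -/
def torE8 : TorD where
  A := [[2, 0, -1, 0, 0, 0, 0, 0], [0, 2, 0, -1, 0, 0, 0, 0], [-1, 0, 2, -1, 0, 0, 0, 0], [0, -1, -1, 2, -1, 0, 0, 0], [0, 0, 0, -1, 2, -1, 0, 0], [0, 0, 0, 0, -1, 2, -1, 0], [0, 0, 0, 0, 0, -1, 2, -1], [0, 0, 0, 0, 0, 0, -1, 2]]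
  P := [[1, 0, 0, 0, 0, 0, 0, 0], [0, 1, 0, 0, 0, 0, 0, 0], [0, 0, 1, 0, 0, 0, 0, 0], [0, 0, 0, 1, 0, 0, 0, 0], [0, 0, 0, 0, 1, 0, 0, 0], [0, 0, 0, 0, 0, 1, 0, 0], [0, 0, 0, 0, 0, 0, 1, 0], [0, 0, 0, 0, 0, 0, 0, 1]]
  w := [0, 1, 2, 3, 4, 5, 6, 7]
  V := [[0, 1, 0, 0, 1, 0, 1, 0], [0, 1, 0, 1, 0, 1, 1, 0], [0, 0, 1, 0, 0, 1, 0, 1], [0, -1, 0, 0, 0, -1, 0, 0], [0, 0, -1, 0, 0, 0, -1, 0], [0, 0, 0, -1, 0, 0, 0, -1], [0, 0, 0, 0, -1, 0, 0, 0], [-1, 0, 0, 0, 0, -1, 0, 0]]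
  V' := [[1, 0, 0, 1, 0, 1, 0, 0], [1, 0, 1, 0, 1, 1, 0, 1], [0, 1, 0, 0, 1, 0, 1, 0], [-1, 0, 0, 0, -1, 0, 0, 0], [0, -1, 0, 0, 0, -1, 0, 0], [0, 0, -1, 0, 0, 0, -1, 0], [0, 0, 0, -1, 0, 0, 0, -1], [0, 0, 0, 0, -1, 0, 0, 0]]
  E := [[0, -1, -1, -1, -1, -1, 0, -1], [0, -1, -1, -2, -1, -1, 0, 0], [-1, -1, -1, -2, -2, -1, -1, 0], [-1, 0, -1, -1, -1, -1, -1, 0], [0, 0, 0, 0, 0, 0, -1, 0], [0, 1, 1, 1, 1, 1, 0, 0], [1, 1, 1, 2, 1, 1, 1, 0], [1, 0, 1, 1, 1, 0, 1, 0]]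
  B := [[1, -1, -1, 1, 0, -1, 2, -2], [1, 0, 0, -1, 1, -1, 1, 0], [-1, 0, 1, 0, -1, 1, -1, 1], [-1, 1, 0, 0, 0, 0, -1, 1], [0, 0, 0, 0, 0, 1, -2, 1], [-1, 1, 1, -1, 0, 1, -1, 0], [1, 0, -1, 1, -1, 0, 1, -1], [1, -1, 0, 0, 1, -2, 2, -1]]
  a := [1, 1, 0, -1, -1, -1, 0, 1]
  S := [77, 98, 104, 97, 108, 112, 115, 117]
  R := [[-1, 0, 0, 0, 0, 0, 0, 0], [0, -1, 0, 0, 0, 0, 0, 0], [0, 0, -1, 0, 0, 0, 0, 0], [0, 1, 0, -1, 0, 0, 0, 0], [0, -1, 0, 1, -1, 0, 0, 0], [0, 1, 0, -1, 1, -1, 0, 0], [0, -1, 0, 1, -1, 1, -1, 0], [0, 1, 0, -1, 1, -1, 1, -1]]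

theorem torE8_ok : torE8.OK goodE8 := by decide +kernel

theorem torE8_N (q : ℤ) : torE8.N chevE8.rank q = q ^ 8 + q ^ 7 - q ^ 5 - q ^ 4 - q ^ 3 + q + 1 := by
  change torE8.N 8 q = _
  simp [TorD.N, torE8, Fin.sum_univ_succ]; ring

theorem torE8_reg {q : ℕ} (hq : 2 ≤ q) : torE8.Reg goodE8 q := by
  by_cases h : q < 5
  · have : ∀ q < 5, 2 ≤ q → torE8.Reg goodE8 q := by decide +kernel
    exact this q h hq
  · refine torE8.reg_of_large goodE8 torE8_ok (by omega) ?_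
    obtain ⟨s, rfl⟩ := Nat.exists_eq_add_of_le (not_lt.1 h)
    rw [torE8_N, ← sub_pos]
    change 0 < _ - 4 * ∑ k : Fin 8, _
    simp only [Fin.sum_univ_succ, Fin.sum_univ_zero, Fin.val_succ, Fin.val_zero]
    push_cast
    ring_nf
    positivity

/-- torus data -/
def torD4 : TorD where
  A := [[2, -1, 0, 0], [-1, 2, -1, -1], [0, -1, 2, 0], [0, -1, 0, 2]]
  P := [[0, 0, 1, 0], [0, 1, 0, 0], [0, 0, 0, 1], [1, 0, 0, 0]]
  w := [1]
  V := [[-1, 1, 0, 0], [1, -1, 1, -1], [0, 0, 0, 1], [0, 1, -1, 1]]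
  V' := [[1, 0, 0, 0], [-1, 1, -1, 1], [0, 0, 1, -1], [1, -1, 1, 0]]
  E := [[0, 1, 0, 1], [1, 1, 0, 1], [1, 1, 1, 0], [0, 0, 1, 0]]
  B := [[-1, 1, -1, 1], [1, 0, -1, 1], [1, 0, 1, -1], [0, -1, 2, 0]]
  a := [-1, -1, 0, 1]
  S := [5, 10, 11, 4]
  R := [[-1, 0, 0, 0], [1, 0, 0, -1], [0, -1, 0, 0], [0, 0, -1, 0]]

theorem torD4_ok : torD4.OK goodD4 := by decide +kernel

theorem torD4_N (q : ℤ) : torD4.N chevD4.rank q = q ^ 4 + q ^ 3 - q - 1 := by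
  change torD4.N 4 q = _
  simp [TorD.N, torD4, Fin.sum_univ_succ]; ring

theorem torD4_reg {q : ℕ} (hq : 2 ≤ q) : torD4.Reg goodD4 q := by
  by_cases h : q < 5
  · have : ∀ q < 5, 2 ≤ q → torD4.Reg goodD4 q := by decide +kernel
    exact this q h hq
  · refine torD4.reg_of_large goodD4 torD4_ok (by omega) ?_
    obtain ⟨s, rfl⟩ := Nat.exists_eq_add_of_le (not_lt.1 h)
    rw [torD4_N, ← sub_pos]
    change 0 < _ - 4 * ∑ k : Fin 4, _
    simp only [Fin.sum_univ_succ, Fin.sum_univ_zero, Fin.val_succ, Fin.val_zero]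
    push_cast
    ring_nf
    positivity

variable {F : Type*} [Field F] [Fintype F] {q : ℕ} (hq : Fintype.card F = q)
include hq

theorem two_le_q : 2 ≤ q := hq ▸ Fintype.one_lt_card

theorem card_units_eq : Nat.card Fˣ = q - 1 := by rw [Nat.card_units, Nat.card_eq_fintype_card, hq]

theorem torusG2 (h : 3 ≤ q) : ∃ H : Subgroup (chevG2.group F), IsCyclic H ∧ Nat.card H = q ^ 2 + q + 1 ∧
    Subgroup.centralizer (H : Set (chevG2.group F)) = H := by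
  have := torG2.exists_torus_un torG2_ok (by simp) (by decide +kernel) hq (N := q ^ 2 + q + 1)
    (by rw [torG2_N]; push_cast; rfl) (torG2_reg h)
  simpa only [card_ker_G2, mul_one] using this

theorem torusF4 : ∃ H : Subgroup (chevF4.group F), IsCyclic H ∧ Nat.card H = q ^ 4 + 1 ∧
    Subgroup.centralizer (H : Set (chevF4.group F)) = H := by
  have := torF4.exists_torus_un torF4_ok (by simp) (by decide +kernel) hq (N := q ^ 4 + 1)
    (by rw [torF4_N]; push_cast; rfl) (torF4_reg (two_le_q hq))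
  simpa only [card_ker_F4, mul_one] using this

theorem torusE6 : ∃ H : Subgroup (chevE6.group F), IsCyclic H ∧
    Nat.card H = (q ^ 4 - q ^ 2 + 1) * (q ^ 2 + q + 1) / Nat.gcd 3 (q - 1) ∧
    Subgroup.centralizer (H : Set (chevE6.group F)) = H := by
  have h2 := two_le_q hq
  obtain ⟨H, h1, h, h3⟩ := torE6.exists_torus_un torE6_ok (by simp) (by decide +kernel) hq
    (N := (q ^ 4 - q ^ 2 + 1) * (q ^ 2 + q + 1))
    (by rw [torE6_N]; push_cast [Nat.pow_le_pow_right (show 0 < q by omega) (show 2 ≤ 4 by omega)]; ring) (torE6_reg h2)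
  rw [card_ker_E6, card_units_eq hq] at h
  exact ⟨H, h1, by rw [← h, Nat.mul_div_cancel _ (Nat.gcd_pos_of_pos_left _ (by omega))], h3⟩

theorem torusE7 : ∃ H : Subgroup (chevE7.group F), IsCyclic H ∧
    Nat.card H = (q ^ 4 - q ^ 2 + 1) * (q ^ 3 + 1) / Nat.gcd 2 (q - 1) ∧
    Subgroup.centralizer (H : Set (chevE7.group F)) = H := by
  have h2 := two_le_q hq
  obtain ⟨H, h1, h, h3⟩ := torE7.exists_torus_un torE7_ok (by simp) (by decide +kernel) hq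
    (N := (q ^ 4 - q ^ 2 + 1) * (q ^ 3 + 1))
    (by rw [torE7_N]; push_cast [Nat.pow_le_pow_right (show 0 < q by omega) (show 2 ≤ 4 by omega)]; ring) (torE7_reg h2)
  rw [card_ker_E7, card_units_eq hq] at h
  exact ⟨H, h1, by rw [← h, Nat.mul_div_cancel _ (Nat.gcd_pos_of_pos_left _ (by omega))], h3⟩

theorem torusE8 : ∃ H : Subgroup (chevE8.group F), IsCyclic H ∧
    Nat.card H = q ^ 8 + q ^ 7 - q ^ 5 - q ^ 4 - q ^ 3 + q + 1 ∧
    Subgroup.centralizer (H : Set (chevE8.group F)) = H := by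
  have h2 := two_le_q hq
  have a1 : q ^ 5 ≤ q ^ 7 := Nat.pow_le_pow_right (by omega) (by omega)
  have a2 : q ^ 4 + q ^ 3 ≤ q ^ 8 := by
    have : q ^ 3 ≤ q ^ 4 := Nat.pow_le_pow_right (by omega) (by omega)
    have : q ^ 5 ≤ q ^ 8 := Nat.pow_le_pow_right (by omega) (by omega)
    have : q ^ 4 * 2 ≤ q ^ 5 := Nat.mul_le_mul_left _ h2
    omega
  have := torE8.exists_torus_un torE8_ok (by simp) (by decide +kernel) hq
    (N := q ^ 8 + q ^ 7 - q ^ 5 - q ^ 4 - q ^ 3 + q + 1)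
    (by
      rw [torE8_N, Nat.cast_add, Nat.cast_add, Nat.cast_sub (by omega), Nat.cast_sub (by omega),
        Nat.cast_sub (by omega)]
      push_cast; rfl) (torE8_reg h2)
  simpa only [card_ker_E8, mul_one] using this

end CfsgH6
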