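import Mathlib
import Cfsg.Agent.H6.TorAll

/-! Over an algebraically closed field every element is conjugate into the Borel subgroup. -/

set_option autoImplicit false

namespace CfsgH6

open Cfsg.Lie Cardinal

variable {D : ChevalleyDatum}

theorem generic_abs {k K : Type*} [Field k] [Field K] [IsAlgClosed K] [Algebra k K] {κ : Type*} [Finite κ] {x : κ → K}
    (hx : IsTranscendenceBasis k x) {Γ : Type*} [Group Γ] (act : (K ≃ₐ[k] K) → Γ →* Γ) (φ : (κ → K) → Γ)
    (hφ : ∀ τ c, act τ (φ c) = φ (τ ∘ c))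
    (hcov : ∀ g, (∃ c, g = φ c) ∨ ∃ s : Finset K, s.card < Nat.card κ ∧
      ∀ τ : K ≃ₐ[k] K, (∀ a ∈ s, τ a = a) → act τ g = g) {δ δ' : Γ}
    (h : {y | ∃ τ : K ≃ₐ[k] K, act τ δ = δ ∧ τ ∘ x = y}.Finite)
    (h' : {y | ∃ τ : K ≃ₐ[k] K, act τ δ' = δ' ∧ τ ∘ x = y}.Finite) : ∃ τ, act τ δ = δ' := by
  have key : ∀ b, {y | ∃ τ : K ≃ₐ[k] K, act τ b = b ∧ τ ∘ x = y}.Finite → ∃ c, IsTranscendenceBasis k c ∧ b = φ c := by
    intro b hb
    have alg : ∀ s : Set K, (∀ τ : K ≃ₐ[k] K, (∀ a ∈ s, τ a = a) → act τ b = b) →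
        Algebra.IsAlgebraic (Algebra.adjoin k s) K := fun s hs =>
      alg_of_finite_orbit hx s fun i => (hb.image fun c => c i).subset (by
        rintro _ ⟨τ, hτ, rfl⟩
        exact ⟨τ ∘ x, ⟨τ, hs τ hτ, rfl⟩, rfl⟩)
    rcases hcov b with ⟨c, hc⟩ | ⟨s, hs, h⟩
    · have := alg (Set.range c) fun τ hτ => by
        rw [hc, hφ]; congr 1; funext i; exact hτ _ ⟨i, rfl⟩
      exact ⟨c, Algebra.IsAlgebraic.isTranscendenceBasis_of_lift_le_trdeg_of_finite k c
        hx.lift_cardinalMk_eq_trdeg.le, hc⟩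
    · have := alg s h
      have h2 := Algebra.IsAlgebraic.trdeg_le_cardinalMk k (s : Set K)
      have h4 := hx.lift_cardinalMk_eq_trdeg.trans_le (lift_le.2 h2)
      have : Fintype κ := Fintype.ofFinite κ
      simp only [mk_fintype, lift_natCast, Finset.coe_sort_coe, Fintype.card_coe, Nat.cast_le] at h4
      rw [Nat.card_eq_fintype_card] at hs
      omega
  obtain ⟨c, hc, rfl⟩ := key δ h
  obtain ⟨c', hc', rfl⟩ := key δ' h'
  obtain ⟨τ, hτ⟩ := exists_aut_of_basis hc hc'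
  exact ⟨τ, by rw [hφ, show τ ∘ c = c' from funext hτ]⟩

theorem prod_zpow_ne_one {k K : Type*} [Field k] [Field K] [Algebra k K] {ι : Type*} [Fintype ι] {c : ι → Kˣ}
    (h : AlgebraicIndependent k fun i => (c i : K)) {a : ι → ℤ} (ha : a ≠ 0) : ∏ i, c i ^ a i ≠ 1 := fun e => by
  classical
  have h1 : ∏ i, c i ^ (a i).toNat = ∏ i, c i ^ (-a i).toNat := by
    rw [← div_eq_one, ← Finset.prod_div_distrib, ← e]
    refine Finset.prod_congr rfl fun i _ => ?_
    rw [← zpow_natCast, ← zpow_natCast, div_eq_mul_inv, ← zpow_sub, Int.toNat_sub_toNat_neg]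
  have h2 : ∀ f : ι → ℕ, MvPolynomial.aeval (fun i => (c i : K))
      (MvPolynomial.monomial (Finsupp.equivFunOnFinite.symm f) (1 : k)) = ((∏ i, c i ^ f i : Kˣ) : K) := fun f => by
    simp [MvPolynomial.aeval_monomial, Finsupp.prod_fintype]
  have h3 := (MvPolynomial.monomial_left_injective one_ne_zero) (h ((h2 _).trans ((congrArg _ h1).trans (h2 _).symm)))
  refine ha (funext fun i => ?_)
  have := congrFun (Finsupp.equivFunOnFinite.symm.injective h3) i
  simp only [Pi.zero_apply]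
  omega

theorem exists_special {k K : Type*} [Field k] [IsAlgClosed k] [Field K] [Algebra k K] (O : ValuationSubring K)
    (hO : ∀ a, algebraMap k K a ∈ O) {T : Set K} (hT : T.Finite) (h : T ⊆ O) :
    ∃ ρ : Algebra.adjoin k T →ₐ[k] k, ∀ t : Algebra.adjoin k T, (t : K) ∈ O.nonunits → ρ t = 0 := by
  let O' : Subalgebra k K := { O.toSubring with algebraMap_mem' := hO }
  have hle : Algebra.adjoin k T ≤ O' := Algebra.adjoin_le h
  let j : Algebra.adjoin k T →+* O := (Algebra.adjoin k T).val.toRingHom.codRestrict O fun t => hle t.2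
  obtain ⟨M, hM, hJ⟩ := ((IsLocalRing.maximalIdeal O).comap j).exists_le_maximal
    (Ideal.comap_ne_top _ (IsLocalRing.maximalIdeal.isMaximal O).ne_top)
  have : Algebra.FiniteType k (Algebra.adjoin k T) := by
    rw [← Subalgebra.fg_iff_finiteType]
    exact ⟨hT.toFinset, by simp⟩
  letI := Ideal.Quotient.field M
  have := finite_of_finite_type_of_isJacobsonRing k (Algebra.adjoin k T ⧸ M)
  refine ⟨(IsAlgClosed.lift (R := k) (S := Algebra.adjoin k T ⧸ M) (M := k)).comp (Ideal.Quotient.mkₐ k M),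
    fun t ht => ?_⟩
  have : t ∈ M := hJ ((O.coe_mem_nonunits_iff (a := j t)).1 ht)
  simp [Ideal.Quotient.eq_zero_iff_mem.2 this]

namespace Cover

variable {G : Good D} {F : Type*} [Field F] {Γ : Type*} [Group Γ] (C : Cover G F Γ)

theorem eq_one_of_V_fil {v : Γ} (hv : v ∈ C.V) (h2 : G.Fil 1 0 (C.π v : Matrix D.Idx D.Idx F)) : v = 1 := by
  refine C.eq_one_of_π G.nil_neg hv (Units.ext ?_)
  have h1 := C.fil_US G.nil_neg hv
  ext a b
  have h3 : ∀ v, G.fv (-1) v = - G.fv 1 v := fun v => by simp [Good.fv]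
  by_cases e : G.fv 1 (G.wv a) < G.fv 1 (G.wv b)
  · rw [h2 a b (by omega), Units.val_one, Matrix.one_apply_ne]
    rintro rfl; omega
  · exact sub_eq_zero.1 (h1 a b (by rw [h3, h3]; omega))

theorem mem_B_of_fil {g : Γ} (hg : g ∈ C.Gr) (h : G.Fil 1 0 (C.π g : Matrix D.Idx D.Idx F))
    (h' : G.Fil 1 0 (C.π g⁻¹ : Matrix D.Idx D.Idx F)) : g ∈ C.B := by
  obtain ⟨b, hb, m, hm, w, hw, hw', u, hu, rfl⟩ := C.canonical hg
  have hu' := C.U_le_B (C.invSet_le_U w hu)
  obtain rfl : w = 1 := Good.eq_one_of_pos hw fun i => by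
    by_contra h1
    obtain ⟨c, hc, -⟩ := hw'.conj_n (G.sm i)
    refine C.x_ne_one (mul_ne_zero c.ne_zero one_ne_zero) (C.eq_one_of_V_fil (C.x_mem_V h1 (c * 1)) ?_)
    have := ((((C.fil_B (inv_mem hb)).mul h).mul (C.fil_B (mul_mem (mul_mem (inv_mem hu')
      (C.U_le_B (C.x_mem_U (G.pos_sm i) 1))) hu'))).mul h').mul (C.fil_B hb)
    simp only [← Units.val_mul, ← map_mul, add_zero] at this
    rw [← hc]
    convert this using 3
    group
  exact mul_mem (mul_mem hb (C.HH_le_B (C.mem_HH_of_mon hm hw'))) hu'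

theorem VHU_unique {v v' k k' u u' : Γ} (hv : v ∈ C.V) (hv' : v' ∈ C.V) (hk : k ∈ C.HH) (hk' : k' ∈ C.HH)
    (hu : u ∈ C.U) (hu' : u' ∈ C.U) (e : v * k * u = v' * k' * u') : v = v' ∧ k = k' ∧ u = u' := by
  have h1 : v'⁻¹ * v = 1 := C.eq_one_of_V_B (mul_mem (inv_mem hv') hv)
    (mul_mem (mul_mem (C.HH_le_B hk') (C.U_le_B hu')) (inv_mem (mul_mem (C.HH_le_B hk) (C.U_le_B hu))))
    (congrArg _ (by rw [inv_mul_eq_iff_eq_mul, ← mul_assoc, ← mul_assoc, ← e]; group))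
  obtain rfl : v' = v := inv_mul_eq_one.1 h1
  rw [mul_assoc, mul_assoc, mul_right_inj] at e
  obtain ⟨h2, rfl⟩ := C.mul_HH_unique G.nil_pos (C.HH_conj hk hu) (C.HH_conj hk' hu') hk hk' (by simpa using e)
  exact ⟨rfl, rfl, by simpa using h2⟩

/-- Iwasawa decomposition -/
theorem iwasawa {O : Set F} (h1 : (1 : F) ∈ O) (hn : ∀ t ∈ O, -t ∈ O) (hO : ∀ t, t ∈ O ∨ t⁻¹ ∈ O) {g : Γ}
    (hg : g ∈ C.Gr) : ∃ a ∈ Subgroup.closure {y | ∃ r, ∃ t ∈ O, y = C.x r t}, ∃ b ∈ C.B, g = a * b := by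
  set A := Subgroup.closure {y | ∃ r, ∃ t ∈ O, y = C.x r t}
  have hx : ∀ r, ∀ t ∈ O, C.x r t ∈ A := fun r t ht => Subgroup.subset_closure ⟨r, t, ht, rfl⟩
  have key : ∀ (l : List (Fin D.rank)), ∀ a ∈ A, ∀ b ∈ C.B, ∃ a' ∈ A, ∃ b' ∈ C.B, a * b * wp C.ν l = a' * b' := by
    intro l
    induction l with
    | nil => exact fun a ha b hb => ⟨a, ha, b, hb, mul_one _⟩
    | cons i l ih =>
      intro a ha b hb
      suffices ∃ a' ∈ A, ∃ b' ∈ C.B, b * C.ν i = a' * b' by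
        obtain ⟨a', ha', b', hb', e⟩ := this
        obtain ⟨a'', ha'', b'', hb'', e'⟩ := ih _ (mul_mem ha ha') _ hb'
        exact ⟨a'', ha'', b'', hb'', by rw [← e', wp_cons, mul_assoc a a', ← e]; group⟩
      obtain ⟨u, hu, k, hk, rfl⟩ := C.mem_B.1 hb
      obtain ⟨y, hy, v, hv, rfl⟩ := C.U_split' (w := G.σ i) hu
      rw [invSet_σ, C.mem_US_single] at hy
      obtain ⟨t, rfl⟩ := hy
      have h2 : (C.ν i)⁻¹ * (v * k) * C.ν i ∈ C.B := by
        have := mul_mem (C.U_le_B ((C.mon_ν i).conj_mem' (T := {r | G.Pos r})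
          (fun s hs => by rw [G.σ_inv]; exact hs.2) hv)) (C.HH_le_B (C.conj_HH' (C.ν_mem i) hk))
        convert this using 1; group
      by_cases ht : t ∈ O
      · exact ⟨C.x (G.sm i) t * C.ν i, mul_mem (hx _ _ ht) (mul_mem (mul_mem (hx _ _ h1)
          (hx _ _ (by simpa using hn _ h1))) (hx _ _ h1)), _, h2, by group⟩
      · have h0 : t ≠ 0 := fun e => ht (by have := hO 0; rw [inv_zero, or_self] at this; exact e ▸ this)
        refine ⟨_, hx (G.sm i).rev _ ((hO t).resolve_left ht), _, mul_mem (mul_mem (inv_mem (C.U_le_B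
          (C.x_mem_U (G.pos_sm i) t))) (C.HH_le_B (C.inv_mul_mem_HH (C.n_mem_NN _ (neg_ne_zero.2 h0)) (C.ν_mem i)
          (C.mon_n_sm i (neg_ne_zero.2 h0)) (C.mon_ν i)))) h2, ?_⟩
        rw [C.x_rev_eq _ (inv_ne_zero h0), inv_inv]; group
  obtain ⟨b, hb, m, hm, w, -, -, u, hu, rfl⟩ := C.canonical hg
  obtain ⟨k, hk, l, rfl⟩ := C.exists_HH_mul hm
  obtain ⟨a, ha, b', hb', e⟩ := key l 1 (one_mem _) _ (mul_mem hb (C.HH_le_B hk))
  exact ⟨a, ha, _, mul_mem hb' (C.U_le_B (C.invSet_le_U w hu)), by rw [← mul_assoc a, ← e]; group⟩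

/-- elements of `B` of order prime to the characteristic -/
theorem conj_HH_of_pow {n : ℕ} (hn : (n : F) ≠ 0) {k : Γ} (hk : k ∈ C.HH) {u : Γ} (hu : u ∈ C.U)
    (e : (u * k) ^ n = 1) : ∃ v ∈ C.U, v * (u * k) * v⁻¹ = k := by
  obtain ⟨-, c, hc⟩ := C.exists_hd hk
  revert u
  refine C.Um_induction G.nil_fl (p := fun K => ∀ {u}, u ∈ K → (u * k) ^ n = 1 → ∃ v ∈ C.U, v * (u * k) * v⁻¹ = k)
    (fun hg _ => ⟨1, one_mem _, by simpa using hg⟩) fun m hm ih g hg e => ?_
  rcases C.Um_step G.nil_fl hg with h1 | ⟨r, hr, rfl, t, v, hv, rfl⟩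
  · exact ih h1 e
  by_cases h : (Good.chr c (G.vec r) : F) = 1
  · have h2 : ∀ j : ℕ, ∃ v' ∈ C.Um G.fl {r | G.Pos r} (G.fn G.fl r + 1),
        (C.x r t * v * k) ^ j = C.x r (j * t) * v' * k ^ j := fun j => by
      induction j with
      | zero => exact ⟨1, one_mem _, by simp [C.x_zero]⟩
      | succ j ih =>
        obtain ⟨v', hv', e'⟩ := ih
        refine ⟨_, mul_mem (C.Um_conj' G.nil_fl _ (C.x_mem hr (j * t)) hv) (C.HH_conj hk hv'), ?_⟩
        have h3 := C.conj_x hk hc r (j * t)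
        rw [h, one_mul] at h3
        rw [pow_succ', e', pow_succ', Nat.cast_succ, add_mul, one_mul, add_comm, C.add]
        conv_lhs => rw [show C.x r t * v * k * (C.x r (j * t) * v' * k ^ j) =
          C.x r t * v * (k * C.x r (j * t) * k⁻¹) * (k * v' * k ^ j) by group, h3]
        group
    obtain ⟨v', hv', e'⟩ := h2 n
    have h3 := (C.mul_HH_unique G.nil_pos (mul_mem (C.x_mem_U hr _) (C.Um_le _ hv')) (one_mem _) (pow_mem hk n)
      (one_mem _) (by rw [← e', e, one_mul])).1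
    have h4 : (n : F) * t = 0 := C.eq_zero_of_mem_Um G.nil_fl (r := r) (by
      rw [eq_inv_of_mul_eq_one_left h3]; exact inv_mem hv')
    rw [(mul_eq_zero.1 h4).resolve_left hn, C.x_zero, one_mul] at e ⊢
    exact ih hv e
  · set s := t / (Good.chr c (G.vec r) - 1)
    have h3 := C.conj_x hk hc r s
    have h4 : (Good.chr c (G.vec r) : F) * s = s + t := by
      simp only [s]; field_simp [sub_ne_zero.2 h]; ring
    have h5 : C.x r s * (C.x r t * v * k) * (C.x r s)⁻¹ = C.x r (s + t) * v * (C.x r (s + t))⁻¹ * k := by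
      rw [h4] at h3
      calc _ = C.x r s * C.x r t * v * (k * C.x r s * k⁻¹)⁻¹ * k := by group
        _ = _ := by rw [h3, ← C.add]
    obtain ⟨a, ha, e'⟩ := ih (C.Um_conj G.nil_fl _ (C.x_mem hr (s + t)) hv) (by rw [← h5, conj_pow, e]; group)
    exact ⟨a * C.x r s, mul_mem ha (C.x_mem_U hr _), by rw [← h5] at e'; exact Eq.trans (by group) e'⟩

end Cover

namespace Good

variable (G : Good D)

section
variable {K : Type*} [Field K] {Γ : Type*} [Group Γ] (C : Cover G K Γ)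

/-- positive part of the chart -/
noncomputable def uP (a : G.posF → K) : Γ := C.prodL G.posF.toList (extP a)

/-- negative part of the chart -/
noncomputable def vP (a : G.posF → K) : Γ := C.prodL (G.posF.toList.map Fin.rev) fun r => extP a r.rev

theorem mem_posF {r : Fin D.nroots} : r ∈ G.posF ↔ G.Pos r := by simp [posF]

theorem mem_posL (r : Fin D.nroots) : r ∈ G.posF.toList ↔ r ∈ {r | G.Pos r} := by simp [mem_posF]

theorem mem_negL (r : Fin D.nroots) : r ∈ G.posF.toList.map Fin.rev ↔ r ∈ {r | ¬ G.Pos r} := by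
  simp only [List.mem_map, Finset.mem_toList, mem_posF, Set.mem_setOf_eq]
  exact ⟨by rintro ⟨s, hs, rfl⟩; simpa [G.pos_rev] using hs, fun h => ⟨r.rev, G.pos_rev.2 h, r.rev_rev⟩⟩

theorem uP_mem (a : G.posF → K) : G.uP C a ∈ C.U := C.prodL_mem (fun r hr => (G.mem_posL r).1 hr) _

theorem vP_mem (a : G.posF → K) : G.vP C a ∈ C.V := C.prodL_mem (fun r hr => (G.mem_negL r).1 hr) _

theorem uP_inj {a b : G.posF → K} (h : G.uP C a = G.uP C b) : a = b := funext fun r => by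
  simpa [extP] using C.prodL_inj G.nil_pos (fun r hr => (G.mem_posL r).1 hr) G.posF.nodup_toList (congrArg C.π h) r
    (Finset.mem_toList.2 r.2)

theorem vP_inj {a b : G.posF → K} (h : G.vP C a = G.vP C b) : a = b := funext fun r => by
  simpa [extP] using C.prodL_inj G.nil_neg (fun r hr => (G.mem_negL r).1 hr)
    (G.posF.nodup_toList.map Fin.rev_injective) (congrArg C.π h) r.1.rev
    (List.mem_map_of_mem (Finset.mem_toList.2 r.2))

variable {K' : Type*} [Field K'] {Γ' : Type*} [Group Γ'] (C' : Cover G K' Γ') {ι : K →+* K'} {φ : Γ →* Γ'}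
  (h : ∀ r t, φ (C.x r t) = C'.x r (ι t))

omit G in
theorem map_extP {P : Finset (Fin D.nroots)} (a : P → K) (r : Fin D.nroots) :
    ι (extP a r) = extP (fun r => ι (a r)) r := by
  by_cases h : r ∈ P <;> simp [extP, h]

include h

theorem map_uP (a : G.posF → K) : φ (G.uP C a) = G.uP C' fun r => ι (a r) := by
  simp only [uP, C.fmap_prodL C' h, map_extP]

theorem map_vP (a : G.posF → K) : φ (G.vP C a) = G.vP C' fun r => ι (a r) := by
  simp only [vP, C.fmap_prodL C' h, map_extP]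

end

theorem generic_st {k K : Type*} [Field k] [Field K] [IsAlgClosed K] [Algebra k K]
    {x : (G.posF ⊕ Fin D.rank) ⊕ G.posF → K} (hx : IsTranscendenceBasis k x) {δ δ' : D.SteinbergGroup K}
    (h : {y | ∃ τ : K ≃ₐ[k] K, G.stMap (τ : K →+* K) δ = δ ∧ τ ∘ x = y}.Finite)
    (h' : {y | ∃ τ : K ≃ₐ[k] K, G.stMap (τ : K →+* K) δ' = δ' ∧ τ ∘ x = y}.Finite) :
    ∃ τ : K ≃ₐ[k] K, G.stMap (τ : K →+* K) δ = δ' := by
  classical
  set C := G.st K
  set h3 := G.st_R3 K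
  obtain ⟨w0, hw0, h0⟩ := G.exists_longest Set.univ
  obtain ⟨l, rfl⟩ := G.exists_wp (G.WJ_le _ hw0)
  refine generic_abs hx (fun τ => G.stMap (τ : K →+* K)) (fun y => G.uP C (fun r => y (.inl (.inl r))) *
    (h3.τ (fun i => unitOf (y (.inl (.inr i)))) * wp C.ν l) * G.uP C fun r => y (.inr r)) (fun τ y => ?_)
    (fun g => ?_) h h'
  · simp only [map_mul, G.map_uP C C (G.stMap_x _), C.fmap_τ C (G.stMap_x _) h3 h3, C.fmap_wp C (G.stMap_x _),
      map_unitOf]
    rfl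
  obtain ⟨u, hu, m, hm, w, hw, h, v, hv, rfl⟩ := C.canonical' (G.mem_st g)
  obtain ⟨a, rfl⟩ := C.exists_prodL G.nil_pos G.mem_posL G.posF.nodup_toList hu
  have h1 : ∀ z : Fin D.nroots → K, C.prodL G.posF.toList z = G.uP C fun r => z r := fun z =>
    C.prodL_congr fun r hr => by simp [extP, Finset.mem_toList.1 hr]
  by_cases h2 : ∀ r ∈ G.posF, ¬ G.Pos (w r)
  · left
    obtain rfl := G.longest_unique (G.WJ_univ ▸ hw) hw0 (fun i _ => h2 _ (G.mem_posF.2 (G.pos_sm i)))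
      fun i _ => h0 _ (G.pos_sm i) fun _ hi => absurd trivial hi
    obtain ⟨d, hd⟩ := h3.exists_τ (C.mul_inv_mem_HH hm (C.wp_ν_mem l) h (C.mon_wp l))
    obtain ⟨b, rfl⟩ := C.exists_prodL G.nil_pos G.mem_posL G.posF.nodup_toList (C.invSet_le_U _ hv)
    refine ⟨Sum.elim (Sum.elim (fun r => a r) fun i => d i) fun r => b r, ?_⟩
    simp only [Sum.elim_inl, Sum.elim_inr, unitOf_coe]
    rw [← h1, ← h1, hd, inv_mul_cancel_right]
  · right
    push Not at h2
    obtain ⟨r0, hr0, h2⟩ := h2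
    obtain ⟨k, hk, l', rfl⟩ := C.exists_HH_mul hm
    obtain ⟨d, rfl⟩ := h3.exists_τ hk
    obtain ⟨b, rfl⟩ := C.exists_prodL (Good.nil_invSet h.1) (L := (G.invSet w).toList) (by simp)
      (Finset.nodup_toList _) hv
    refine ⟨(G.posF.image a ∪ Finset.univ.image fun i => (d i : K)) ∪ (G.posF.erase r0).image b, ?_, fun τ hτ => ?_⟩
    · have h2 := Finset.card_union_le (G.posF.image a ∪ Finset.univ.image fun i => (d i : K))
        ((G.posF.erase r0).image b)
      have h4 := Finset.card_union_le (G.posF.image a) (Finset.univ.image fun i => (d i : K))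
      have h5 := Finset.card_image_le (s := G.posF) (f := a)
      have h6 := Finset.card_image_le (s := Finset.univ) (f := fun i => (d i : K))
      have h7 := Finset.card_image_le (s := G.posF.erase r0) (f := b)
      have h8 := Finset.card_erase_lt_of_mem hr0
      simp only [Nat.card_eq_fintype_card, Fintype.card_sum, Fintype.card_coe, Finset.card_univ] at *
      omega
    · simp only [map_mul, C.fmap_prodL C (G.stMap_x _), C.fmap_τ C (G.stMap_x _) h3 h3, C.fmap_wp C (G.stMap_x _)]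
      refine congrArg₂ _ (congrArg₂ _ ?_ ?_) ?_
      · exact C.prodL_congr fun r hr => hτ _ (by simp; exact Or.inl ⟨r, Finset.mem_toList.1 hr, rfl⟩)
      · congr 2
        funext i
        exact Units.ext (hτ _ (by simp))
      · refine C.prodL_congr fun r hr => hτ _ ?_
        rw [Finset.mem_toList, G.mem_invSet] at hr
        exact Finset.mem_union_right _ (Finset.mem_image_of_mem _
          (Finset.mem_erase.2 ⟨fun e => hr.2 (e ▸ h2), G.mem_posF.2 hr.1⟩))

/-- a generic element is conjugate into the torus -/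
theorem generic_conj {k K : Type*} [Field k] [Field K] [IsAlgClosed K] [Algebra k K]
    (hτ : Function.Injective (G.st_R3 K).τ)
    {x : (G.posF ⊕ Fin D.rank) ⊕ G.posF → K} (hx : IsTranscendenceBasis k x) {δ : D.SteinbergGroup K}
    (h : {y | ∃ τ : K ≃ₐ[k] K, G.stMap (τ : K →+* K) δ = δ ∧ τ ∘ x = y}.Finite) :
    ∃ g, g⁻¹ * δ * g ∈ (G.st K).HH := by
  set C := G.st K
  set h3 := G.st_R3 K
  have hx0 : ∀ i, x i ≠ 0 := fun i h => hx.1.transcendental i (h ▸ isAlgebraic_zero)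
  let g : ((G.posF ⊕ Fin D.rank) ⊕ G.posF → K) → D.SteinbergGroup K := fun y =>
    G.vP C (fun r => y (.inl (.inl r))) * G.uP C fun r => y (.inr r)
  let t : ((G.posF ⊕ Fin D.rank) ⊕ G.posF → K) → D.SteinbergGroup K := fun y =>
    h3.τ fun i => unitOf (y (.inl (.inr i)))
  have hg : ∀ (τ : K ≃ₐ[k] K) y, G.stMap (τ : K →+* K) (g y) = g (τ ∘ y) := fun τ y => by
    simp only [g, map_mul, G.map_uP C C (G.stMap_x _), G.map_vP C C (G.stMap_x _)]; rfl
  have ht : ∀ (τ : K ≃ₐ[k] K) y, G.stMap (τ : K →+* K) (t y) = t (τ ∘ y) := fun τ y => by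
    simp only [t, C.fmap_τ C (G.stMap_x _) h3 h3, map_unitOf]; rfl
  have hreg : ∀ r, chr (pw Kˣ (cartanM D) fun i => unitOf (x (.inl (.inr i)))) (G.vec r) ≠ 1 := fun r => by
    have : chr (pw Kˣ (cartanM D) fun i => unitOf (x (.inl (.inr i)))) (G.vec r) =
        ∏ i, unitOf (x (.inl (.inr i))) ^ G.A (G.sm i) r := by
      simp only [chr, pw_apply, ← Finset.prod_zpow, ← zpow_mul, G.cartanM_apply]
      rw [Finset.prod_comm]
      exact Finset.prod_congr rfl fun i _ => by rw [prod_zpow_sum, G.A_lin]; simp only [mul_comm]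
    rw [this]
    refine prod_zpow_ne_one (k := k) ?_ fun e => ?_
    · simp only [unitOf_val (hx0 _)]
      exact hx.1.comp (fun i => .inl (.inr i)) fun i j e => by simpa using e
    · have := G.len_A r r
      have h4 : ∀ i, G.A r (G.sm i) = 0 := fun i => (G.A_eq_zero_iff _ _).2 (congrFun e i)
      have := G.A_lin r r
      simp [h4, G.A_self] at this
  suffices hfin : {y | ∃ τ : K ≃ₐ[k] K, G.stMap (τ : K →+* K) (g x * t x * (g x)⁻¹) = g x * t x * (g x)⁻¹ ∧
      τ ∘ x = y}.Finite by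
    obtain ⟨τ, e⟩ := G.generic_st hx hfin h
    exact ⟨g (τ ∘ x), by rw [← e, map_mul, map_mul, map_inv, hg, ht]; simpa [mul_assoc] using h3.τ_mem _⟩
  refine (Set.finite_iUnion (f := fun w : Equiv.Perm (Fin D.nroots) => {y | (∀ i, y i ≠ 0) ∧ ∃ a ∈ C.NN, C.Mon a w ∧
    (g y)⁻¹ * g x = a ∧ a * t x * a⁻¹ = t y}) fun w => Set.Subsingleton.finite ?_).subset ?_
  · rintro y ⟨hy, a, ha, h1, h2, h4⟩ z ⟨hz, b, hb, h5, h6, h7⟩
    have h8 := C.mul_inv_mem_HH ha hb h1 h5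
    obtain ⟨e1, e2, e3⟩ := C.VHU_unique (G.vP_mem C _) (G.vP_mem C _) h8 (one_mem _)
      (C.HH_conj' h8 (G.uP_mem C _)) (G.uP_mem C _) (show G.vP C (fun r => y (.inl (.inl r))) * (a * b⁻¹) *
        ((a * b⁻¹)⁻¹ * G.uP C (fun r => y (.inr r)) * (a * b⁻¹)) = G.vP C (fun r => z (.inl (.inl r))) * 1 *
          G.uP C fun r => z (.inr r) from by
        calc _ = g y * (a * b⁻¹) := by simp only [g]; group
          _ = g z := by rw [← h2, ← h6]; group
          _ = _ := by simp only [g]; group)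
    rw [e2, inv_one, one_mul, mul_one] at e3
    obtain rfl : a = b := mul_inv_eq_one.1 e2
    funext i
    rcases i with (r | i) | r
    · exact congrFun (G.vP_inj C e1) r
    · have := congrArg Units.val (congrFun (hτ (h4.symm.trans h7)) i)
      rwa [unitOf_val (hy _), unitOf_val (hz _)] at this
    · exact congrFun (G.uP_inj C e3) r
  · rintro _ ⟨τ, e, rfl⟩
    rw [map_mul, map_mul, map_inv, hg, ht] at e
    have e1 : (g (τ ∘ x))⁻¹ * g x * t x * ((g (τ ∘ x))⁻¹ * g x)⁻¹ = t (τ ∘ x) := by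
      calc _ = (g (τ ∘ x))⁻¹ * (g x * t x * (g x)⁻¹) * g (τ ∘ x) := by group
        _ = _ := by rw [← e]; group
    obtain ⟨m, hm, e2⟩ := C.HH_fusion (h3.τ_mem _) (h3.τ_mem _) (G.mem_st _) e1
    obtain ⟨u, hu, m', hm', w, -, -, -, v, hv, e3⟩ := C.cent_diag (h3.τ_mem _) (h3.π_τ _)
      (G.mem_st (m⁻¹ * ((g (τ ∘ x))⁻¹ * g x))) (show t x * _ * (t x)⁻¹ = _ from by
        calc _ = m⁻¹ * (m * t x * m⁻¹) * ((g (τ ∘ x))⁻¹ * g x) * (t x)⁻¹ := by group
          _ = _ := by rw [show m * t x * m⁻¹ = _ from e2.trans e1.symm]; group)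
    have h0 : ∀ {S : Set (Fin D.nroots)} {y}, y ∈ C.US {r | r ∈ S ∧ chr (pw Kˣ (cartanM D) fun i =>
        unitOf (x (.inl (.inr i)))) (G.vec r) = 1} → y = 1 := fun hy =>
      Subgroup.mem_bot.1 (C.US_empty ▸ C.US_mono (fun r hr => hreg r hr.2) hy)
    rw [h0 (S := {r | G.Pos r}) hu, h0 hv, one_mul, mul_one, inv_mul_eq_iff_eq_mul] at e3
    obtain ⟨w, -, hw⟩ := C.exists_mon (mul_mem hm hm')
    exact Set.mem_iUnion.2 ⟨w, fun i => (map_ne_zero τ).2 (hx0 i), _, mul_mem hm hm', hw, e3, e3 ▸ e1⟩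

theorem exists_conj_B (hD : D ∈ [chevG2, chevB2, chevD4, chevF4, chevE6, chevE7, chevE8]) {k : Type*} [Field k]
    [IsAlgClosed k] (s : D.SteinbergGroup k) : ∃ g, g⁻¹ * s * g ∈ (G.st k).B := by
  classical
  obtain ⟨x, hx⟩ := exists_generic k ((G.posF ⊕ Fin D.rank) ⊕ G.posF)
  let K := G.Kg k
  have hτ := τ_injective_of_mem K hD G
  set C := G.st K
  set h3 := G.st_R3 K
  have hx1 : ∀ i, 1 + x i ≠ 0 := fun i h => hx.1.transcendental i (by
    rw [eq_neg_of_add_eq_zero_right h]; exact isAlgebraic_one.neg)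
  let γ : ((G.posF ⊕ Fin D.rank) ⊕ G.posF → K) → D.SteinbergGroup K := fun y =>
    G.vP C (fun r => y (.inl (.inl r))) * h3.τ (fun i => unitOf (1 + y (.inl (.inr i)))) * G.uP C fun r => y (.inr r)
  obtain ⟨g, hg⟩ := G.generic_conj hτ hx (δ := G.stMap (algebraMap k K) s * γ x)
    ((Set.finite_singleton x).subset (by
      rintro _ ⟨τ, e, rfl⟩
      rw [map_mul, G.stMap_comp, show (τ : K →+* K).comp (algebraMap k K) = algebraMap k K from
        RingHom.ext τ.commutes, mul_right_inj] at e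
      simp only [γ, map_mul, G.map_uP C C (G.stMap_x _), G.map_vP C C (G.stMap_x _), C.fmap_τ C (G.stMap_x _) h3 h3,
        map_unitOf] at e
      obtain ⟨e1, e2, e3⟩ := C.VHU_unique (G.vP_mem C _) (G.vP_mem C _) (h3.τ_mem _) (h3.τ_mem _) (G.uP_mem C _)
        (G.uP_mem C _) e
      funext i
      rcases i with (r | i) | r
      · exact congrFun (G.vP_inj C e1) r
      · have := congrArg Units.val (congrFun (hτ e2) i)
        rw [unitOf_val (hx1 _), unitOf_val ((map_ne_zero _).2 (hx1 _))] at this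
        simpa using this
      · exact congrFun (G.uP_inj C e3) r))
  let ev : Algebra.adjoin k (Set.range x) →ₐ[k] k :=
    (MvPolynomial.aeval fun _ => 0).comp hx.1.aevalEquiv.symm.toAlgHom
  obtain ⟨O, hO1, hO2⟩ := Ideal.image_subset_nonunits_valuationSubring
    (A := (Algebra.adjoin k (Set.range x)).toSubring) (RingHom.ker ev) (RingHom.ker_ne_top ev)
  have hxO : ∀ i, x i ∈ O.nonunits := fun i => hO2 ⟨⟨x i, Algebra.subset_adjoin ⟨i, rfl⟩⟩, by
    have : (⟨x i, Algebra.subset_adjoin ⟨i, rfl⟩⟩ : Algebra.adjoin k (Set.range x)) =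
      hx.1.aevalEquiv (MvPolynomial.X i) := Subtype.ext (by simp)
    change ev _ = 0
    rw [this]; simp [ev], rfl⟩
  have hxO' : ∀ i, (1 + x i)⁻¹ ∈ O := fun i => by
    rw [← O.valuation_le_one_iff, map_inv₀, O.valuation.map_one_add_of_lt (O.mem_nonunits_iff.1 (hxO i)), inv_one]
  obtain ⟨a, ha, b, hb, rfl⟩ := C.iwasawa (O := O) (one_mem O) (fun t ht => neg_mem ht) O.mem_or_inv_mem (G.mem_st g)
  obtain ⟨T, hT, hTO, ha⟩ : ∃ T : Set K, T.Finite ∧ T ⊆ O ∧
      a ∈ Subgroup.closure {y | ∃ r, ∃ t ∈ T, y = C.x r t} := by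
    refine Subgroup.closure_induction (p := fun a _ => ∃ T : Set K, T.Finite ∧ T ⊆ O ∧
      a ∈ Subgroup.closure {y | ∃ r, ∃ t ∈ T, y = C.x r t}) ?_ ⟨∅, by simp, by simp, one_mem _⟩ ?_ ?_ ha
    · rintro _ ⟨r, t, ht, rfl⟩
      exact ⟨{t}, by simp, by simpa using ht, Subgroup.subset_closure ⟨r, t, rfl, rfl⟩⟩
    · rintro a b - - ⟨T, h1, h2, h4⟩ ⟨T', h1', h2', h4'⟩
      exact ⟨T ∪ T', h1.union h1', Set.union_subset h2 h2',
        mul_mem (Subgroup.closure_mono (by rintro _ ⟨r, t, ht, e⟩; exact ⟨r, t, Or.inl ht, e⟩) h4)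
          (Subgroup.closure_mono (by rintro _ ⟨r, t, ht, e⟩; exact ⟨r, t, Or.inr ht, e⟩) h4')⟩
    · rintro a - ⟨T, h1, h2, h4⟩
      exact ⟨T, h1, h2, inv_mem h4⟩
  let R := Algebra.adjoin k (T ∪ Set.range x ∪ Set.range fun i => (1 + x i)⁻¹)
  obtain ⟨ρ, hρ⟩ : ∃ ρ : R →ₐ[k] k, ∀ t : R, (t : K) ∈ O.nonunits → ρ t = 0 := exists_special (k := k) O
    (fun c => hO1 ((Algebra.adjoin k (Set.range x)).algebraMap_mem c))
    (T := T ∪ Set.range x ∪ Set.range fun i => (1 + x i)⁻¹)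
    ((hT.union (Set.finite_range _)).union (Set.finite_range _))
    (Set.union_subset (Set.union_subset hTO (by rintro _ ⟨i, rfl⟩; exact O.nonunits_subset (hxO i)))
      (by rintro _ ⟨i, rfl⟩; exact hxO' i))
  let Θ : Subgroup (D.SteinbergGroup K × D.SteinbergGroup k) :=
    (((Matrix.GeneralLinearGroup.map (n := D.Idx) (R.val : R →+* K)).prod
      (Matrix.GeneralLinearGroup.map (ρ : R →+* k))).range).comap (C.π.prodMap (G.st k).π)
  have hΘ : ∀ r (t : R), (C.x r t, (G.st k).x r (ρ t)) ∈ Θ := fun r t =>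
    ⟨⟨xR D R r t, xR D R r (-t), G.xR_mul_neg r t, G.xR_neg_mul r t⟩, Prod.ext
      (Units.ext ((xR_map D _ r t).trans (C.π_x r t).symm))
      (Units.ext ((xR_map D _ r t).trans ((G.st k).π_x r _).symm))⟩
  have hΘ' : ∀ p ∈ Θ, p.1 ∈ C.B → G.Fil 1 0 ((G.st k).π p.2 : Matrix D.Idx D.Idx k) := by
    rintro p ⟨M, hM⟩ hp i j hij
    have e1 := congrArg (fun q => (q.1 : Matrix D.Idx D.Idx K) i j) hM
    have e2 := congrArg (fun q => (q.2 : Matrix D.Idx D.Idx k) i j) hM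
    have e3 : (M : Matrix D.Idx D.Idx R) i j = 0 := Subtype.ext (e1.trans (C.fil_B hp i j hij))
    exact e2.symm.trans (by change ρ ((M : Matrix D.Idx D.Idx R) i j) = 0; rw [e3, map_zero])
  obtain ⟨a', ha'⟩ : ∃ a', (a, a') ∈ Θ := by
    have := (Subgroup.closure_le (Θ.map (MonoidHom.fst _ _))).2 (by
      rintro _ ⟨r, t, ht, rfl⟩
      exact ⟨_, hΘ r ⟨t, Algebra.subset_adjoin (Or.inl (Or.inl ht))⟩, rfl⟩) ha
    obtain ⟨⟨_, a'⟩, h, rfl⟩ := this
    exact ⟨a', h⟩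
  have hs : (G.stMap (algebraMap k K) s, s) ∈ Θ := by
    refine ((G.st k).US_le (K := Θ.comap ((G.stMap (algebraMap k K)).prod (MonoidHom.id _)))).2 (fun r _ t => ?_)
      (G.mem_st s)
    have := hΘ r (algebraMap k R t)
    rw [ρ.commutes] at this
    simpa [G.stMap_x] using this
  have hx' : ∀ r i, (C.x r (x i), 1) ∈ Θ := fun r i => by
    have := hΘ r ⟨x i, Algebra.subset_adjoin (Or.inl (Or.inr ⟨i, rfl⟩))⟩
    rwa [hρ _ (hxO i), Cover.x_zero] at this
  have hγ : (γ x, 1) ∈ Θ := by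
    have h1 : ∀ L f, (∀ r, f r = 0 ∨ ∃ i, f r = x i) → C.prodL L f ∈ Θ.comap (MonoidHom.inl _ _) := fun L f hf =>
      Subgroup.list_prod_mem _ fun y hy => by
        obtain ⟨r, -, rfl⟩ := List.mem_map.1 hy
        rcases hf r with h | ⟨i, h⟩ <;> rw [h]
        exacts [C.x_zero r ▸ one_mem _, hx' r i]
    have h2 : ∀ (f : G.posF → (G.posF ⊕ Fin D.rank) ⊕ G.posF) r,
        extP (fun r => x (f r)) r = 0 ∨ ∃ i, extP (fun r => x (f r)) r = x i := fun f r => by
      by_cases h : r ∈ G.posF <;> simp [extP, h]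
    refine (mul_mem (mul_mem (h1 _ _ fun r => h2 _ _) ?_) (h1 _ _ (h2 _)) : γ x ∈ Θ.comap (MonoidHom.inl _ _))
    rw [h3.τ_eq]
    refine Subgroup.list_prod_mem _ fun y hy => ?_
    obtain ⟨i, -, rfl⟩ := List.mem_map.1 hy
    let y : R := ⟨x (.inl (.inr i)), Algebra.subset_adjoin (Or.inl (Or.inr ⟨_, rfl⟩))⟩
    let z : R := ⟨(1 + x (.inl (.inr i)))⁻¹, Algebra.subset_adjoin (Or.inr ⟨_, rfl⟩)⟩
    have e1 : ρ (1 + y) = 1 := by rw [map_add, map_one, hρ y (hxO _), add_zero]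
    have e2 : ρ z = 1 := by
      rw [← one_mul (ρ z), ← e1, ← map_mul, show (1 + y) * z = 1 from Subtype.ext (mul_inv_cancel₀ (hx1 _)), map_one, e1]
    have := mul_mem (mul_mem (mul_mem (hΘ (G.sm i) (1 + y)) (hΘ (G.sm i).rev (-z))) (hΘ (G.sm i) (1 + y)))
      (mul_mem (mul_mem (hΘ (G.sm i) (-1)) (hΘ (G.sm i).rev 1)) (hΘ (G.sm i) (-1)))
    rw [map_neg, map_neg, map_one, e1, e2] at this
    rw [Subgroup.mem_comap]
    convert this using 1
    refine Prod.ext ?_ ?_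
    · simp [unitOf_val (hx1 _), Cover.h, Cover.n, y, z, C]
    · simpa [Cover.h, Cover.n] using ((G.st k).h_one (G.sm i)).symm
  have h4 := mul_mem (mul_mem (inv_mem ha') (mul_mem hs hγ)) ha'
  have h5 : a⁻¹ * (G.stMap (algebraMap k K) s * γ x) * a ∈ C.B := by
    have := mul_mem (mul_mem hb (C.HH_le_B hg)) (inv_mem hb)
    convert this using 1; group
  exact ⟨a', (G.st k).mem_B_of_fil (G.mem_st _) (by simpa using hΘ' _ h4 h5)
    (by simpa using hΘ' _ (inv_mem h4) (inv_mem h5))⟩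

/-- elements of order prime to the characteristic are conjugate into the torus -/
theorem exists_conj_HH (hD : D ∈ [chevG2, chevB2, chevD4, chevF4, chevE6, chevE7, chevE8]) {k : Type*} [Field k]
    [IsAlgClosed k] {s : D.SteinbergGroup k} {n : ℕ} (hn : (n : k) ≠ 0) (e : s ^ n = 1) :
    ∃ g, g⁻¹ * s * g ∈ (G.st k).HH := by
  obtain ⟨g, hg⟩ := G.exists_conj_B hD s
  obtain ⟨u, hu, t, ht, e'⟩ := (G.st k).mem_B.1 hg
  obtain ⟨v, -, hv⟩ := (G.st k).conj_HH_of_pow hn ht hu (by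
    rw [← e']; simpa [e] using conj_pow (i := n) (a := g⁻¹) (b := s))
  exact ⟨g * v⁻¹, by rw [← hv, ← e'] at ht; convert ht using 1; group⟩

end Good

end CfsgH6
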