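import Cfsg.Agent.H6.Kempf
import Cfsg.Agent.H6.AutCh
import Cfsg.Agent.H6.TwistH

/-! Centralizers of unipotent radicals and of central unipotent elements. -/

set_option autoImplicit false

namespace CfsgH6

open Cfsg.Lie

variable {D : ChevalleyDatum}

theorem Twist.exists_conj_U' {G : Good D} {F : Type*} [Field F] {Γ : Type*} [Group Γ] {C : Cover G F Γ} {ι : Type}
    (T : Twist C ι) [Finite F] [Finite Γ] (h3 : C.R3) (p : ℕ) [Fact p.Prime] [CharP F p] {P : Subgroup Γ}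
    (hP : IsPGroup p P) (h : P ≤ T.G1) : ∃ g ∈ T.G1, ∀ a ∈ P, g * a * g⁻¹ ∈ C.U := by
  obtain ⟨g, hg⟩ := T.exists_conj_U h3 p (P := P.subgroupOf T.G1) hP.comap_subtype
  exact ⟨g, g.2, fun a ha => hg ⟨a, h ha⟩ ha⟩

theorem Good.exists_conj_U (G : Good D) {F : Type*} [Field F] [Finite F] (p : ℕ) [Fact p.Prime] [CharP F p]
    {P : Subgroup (GL D.Idx F)} (hP : IsPGroup p P) (h : P ≤ (G.gl F).Gr) :
    ∃ g ∈ (G.gl F).Gr, ∀ a ∈ P, g * a * g⁻¹ ∈ (G.gl F).U := by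
  have e := (G.group_eq F).symm.trans (G.tw0_G1 F)
  rw [e] at h ⊢
  exact (G.tw0 F).exists_conj_U' (G.gl_R3 F) p hP h

/-- the commutator of two root subgroups vanishes in characteristic `p` -/
def Cm (D : ChevalleyDatum) (p : ℤ) (r s : ℕ) : Prop := s + r + 1 ≠ D.nroots ∧ ∀ c ∈ D.commTerms r s, c.2.1 % p = 0

instance decCm (p : ℤ) (r s : ℕ) : Decidable (Cm D p r s) := inferInstanceAs (Decidable (_ ∧ _))

namespace Good

variable (G : Good D)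

theorem exists_A_ne {rk : List ℕ} (hc : ConnOK D rk) {J : Set (Fin D.rank)} (hJ : Jᶜ.Nonempty) (j : Fin D.rank) :
    ∃ r ∈ G.radJ J, G.A (G.sm j) r ≠ 0 := by
  have h0 : ∀ i ∉ J, G.sm i ∈ G.radJ J := fun i hi => ⟨G.pos_sm i, G.inJ_sm.not.2 hi⟩
  by_contra h
  obtain ⟨k, hk, i, hi, e⟩ := G.conn hc {j | ∀ r ∈ G.radJ J, G.A (G.sm j) r = 0} ⟨j, by simpa using h⟩
    ⟨hJ.choose, fun h => by simpa [G.A_self] using h _ (h0 _ hJ.choose_spec)⟩
  rw [← G.sm_val, ← G.A_sm] at e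
  by_cases hi' : i ∈ J
  · obtain ⟨r, hr, e'⟩ : ∃ r ∈ G.radJ J, G.A (G.sm i) r ≠ 0 := by simpa using hi
    have := hk (G.σ i r) ⟨(pos_WJ (G.σ_mem_WJ hi') hr.2).2 hr.1, (inJ_WJ (G.σ_mem_WJ hi')).not.2 hr.2⟩
    rw [G.A_comb _ (G.σ_vec i r), hk r hr] at this
    simp [e, e'] at this
  · exact e (hk _ (h0 i hi'))

theorem eq_one_of_rad {rk : List ℕ} (hc : ConnOK D rk) {J : Set (Fin D.rank)} (hJ : Jᶜ.Nonempty)
    {w : Equiv.Perm (Fin D.nroots)} (hw : w ∈ G.W) (h : ∀ r ∈ G.radJ J, w r = r) : w = 1 :=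
  eq_one_of_pos hw fun j => by
    by_cases hj : j ∈ J
    · obtain ⟨r, hr, e⟩ := G.exists_A_ne hc hJ j
      refine fun a => ?_
      have h1 := (lin_W hw).comb (G.σ_vec j r) a
      rw [h r hr, h _ ⟨(pos_WJ (G.σ_mem_WJ hj) hr.2).2 hr.1, (inJ_WJ (G.σ_mem_WJ hj)).not.2 hr.2⟩, G.σ_vec,
        add_right_inj, mul_right_inj' (neg_ne_zero.2 e)] at h1
      exact h1 ▸ G.pos_sm j a
    · rw [h _ ⟨G.pos_sm j, G.inJ_sm.not.2 hj⟩]; exact G.pos_sm j

theorem mem_WJ_of_fix {r s : Fin D.nroots} (hr : ∀ i, 0 ≤ G.A r (G.sm i)) (hs : ∀ i, 0 ≤ G.A s (G.sm i))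
    {w : Equiv.Perm (Fin D.nroots)} (hw : w ∈ G.W) (e : w r = r) (e' : w s = s) :
    w ∈ G.WJ {i | G.A r (G.sm i) + G.A s (G.sm i) = 0} :=
  Add.mem_WJ (φ := fun a => G.A r a + G.A s a) (fun a => by
    simp only [G.A_lin r a, G.A_lin s a, mul_add, Finset.sum_add_distrib, Int.cast_id])
    (fun i => add_nonneg (hr i) (hs i)) hw fun i => by
      have h1 := A_W hw r (G.sm i)
      have h2 := A_W hw s (G.sm i)
      rw [e] at h1; rw [e'] at h2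
      simp only [h1, h2]; exact add_nonneg (hr i) (hs i)

end Good

namespace Cover

variable {G : Good D} {F : Type*} [Field F] {Γ : Type*} [Group Γ] (C : Cover G F Γ)

theorem word_eq_one {w : List (ℕ × F)} (h : ∀ c ∈ w, c.2 = 0) : wordG C.x w = 1 := by
  induction w with
  | nil => rfl
  | cons c w ih =>
    obtain ⟨r, t⟩ := c
    rw [C.word_cons, ih fun c hc => h c (List.mem_cons_of_mem _ hc), show t = 0 from h _ List.mem_cons_self,
      C.xn_zero, one_mul]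

theorem comm_of_cm {p : ℤ} (hp : (p : F) = 0) {r s : Fin D.nroots} (h : Cm D p r s) (t u : F) :
    Commute (C.x r t) (C.x s u) := by
  by_cases e : s = r
  · exact e ▸ C.x_comm _ _ _
  have := C.comm r s e (fun e => h.1 (by rw [e, Fin.val_rev]; omega)) t u
  rw [C.word_eq_one fun c hc => ?_, mul_one] at this
  · exact this.symm
  · obtain ⟨c, hc', rfl⟩ := List.mem_map.1 hc
    obtain ⟨k, hk⟩ := Int.dvd_of_emod_eq_zero (h.2 c hc')
    simp [hk, hp]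

theorem commute_US {S : Set (Fin D.nroots)} {z : Γ} (h : ∀ r ∈ S, ∀ t, Commute (C.x r t) z) {u : Γ}
    (hu : u ∈ C.US S) : Commute u z :=
  C.US_le (K := Subgroup.centralizer {z}).2 (fun r hr t => Subgroup.mem_centralizer_singleton_iff.2 (h r hr t)) hu
    z rfl |>.symm

theorem lc_one (i : Fin D.rank) (r : Fin D.nroots) : C.lc i r 1 = 0 := by
  rw [← C.x_zero r, C.lc_x]; simp

theorem lc_sm (i : Fin D.rank) (t : F) : C.lc i (G.sm i) (C.x (G.sm i) t) = t := by simp [C.lc_x, G.cov_sm]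

theorem lc_conj_U (i : Fin D.rank) {u v : Γ} (hu : u ∈ C.U) (hv : v ∈ C.U) :
    C.lc i (G.sm i) (u * v * u⁻¹) = C.lc i (G.sm i) v := by
  have := C.lc_U i i hu (inv_mem hu)
  rw [mul_inv_cancel, C.lc_one] at this
  rw [C.lc_U i i (mul_mem hu hv) (inv_mem hu), C.lc_U i i hu hv]
  linear_combination -this

theorem lc_zero_of_conj (i : Fin D.rank) {u : Γ} (hu : u ∈ C.U) (h : C.ν i * u * (C.ν i)⁻¹ ∈ C.B) :
    C.lc i (G.sm i) u = 0 := by
  obtain ⟨a, ha, b, hb, rfl⟩ := C.U_split (w := G.σ i) hu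
  rw [invSet_σ] at hb
  obtain ⟨t, rfl⟩ := C.mem_US_single.1 hb
  obtain ⟨c, hc, -⟩ := (C.mon_ν i).conj_n (G.sm i)
  have h1 : C.ν i * a * (C.ν i)⁻¹ ∈ C.B := C.U_le_B ((C.mon_ν i).conj_mem (fun _ h => h.2) ha)
  have h2 : t = 0 := by_contra fun e => C.x_notMem_B (r := G.σ i (G.sm i)) (G.σ_sm i ▸ G.not_pos_sm_rev i)
    (mul_ne_zero c.ne_zero e) (by simpa [← hc, mul_assoc] using mul_mem (inv_mem h1) h)
  rw [h2, C.x_zero, mul_one]
  refine C.US_induction (p := fun a => C.lc i (G.sm i) a = 0) (C.lc_one _ _) (fun g hg r hr t ih => ?_) ha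
  rw [C.lc_U i i (C.US_mono (fun _ h => h.1) hg) (C.x_mem_U hr.1 t), ih, C.lc_x, if_neg, add_zero]
  rintro rfl
  exact G.not_pos_sm_rev i (G.σ_sm i ▸ hr.2)

theorem conj_x_eq {f : Fin D.rank → ℤ} {S : Set (Fin D.nroots)} (hS : G.Nil f S) {u : Γ} (hu : u ∈ C.US S)
    {r : Fin D.nroots} (hr : r ∈ S) (t : F) :
    ∃ v ∈ C.Um f S (G.fn f r + 1), u * C.x r t * u⁻¹ = C.x r t * v :=
  ⟨_, inv_mem (C.Um_central_x hS (inv_mem hu) hr le_rfl t), by group⟩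

theorem mem_B_of_cent {rk : List ℕ} (hc : Good.ConnOK D rk) {J : Set (Fin D.rank)} (hJ : Jᶜ.Nonempty) {g : Γ}
    (hg : g ∈ C.Gr) (h : ∀ v ∈ C.US (G.radJ J), g * v * g⁻¹ = v) : g ∈ C.B := by
  obtain ⟨u, hu, m, hm, w, hw, h1, b, hb, rfl⟩ := C.bruhat_PJ (C.mem_PJ_of_conj_rad hg fun v hv => (h v hv).symm ▸ hv)
  refine mul_mem (mul_mem (C.U_le_B hu) (C.HH_le_B (C.mem_HH_of_mon hm ?_))) hb
  rw [← G.eq_one_of_rad hc hJ (G.WJ_le _ hw) (by_contra fun e => ?_)]; · exact h1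
  obtain ⟨r, ⟨hr, e1⟩, hm⟩ := Set.exists_max_image {r | r ∈ G.radJ J ∧ w r ≠ r} (G.fn 1) (Set.toFinite _)
    (by simpa [Set.Nonempty] using e)
  obtain ⟨u', hu', k, hk, rfl⟩ := C.mem_B.1 hb
  obtain ⟨c, h2, -⟩ := (C.mon_HH hk).conj_n r
  obtain ⟨d, h3, -⟩ := h1.conj_n r
  obtain ⟨v, hv, h4⟩ := C.conj_x_eq G.nil_pos hu' hr.1 (c * 1)
  obtain ⟨v', hv', h5⟩ := C.conj_x_eq G.nil_pos (inv_mem hu) hr.1 1
  have h6 : v ∈ C.US (G.radJ J) := by
    rw [← mul_mem_cancel_left (C.x_mem hr (c * 1)), ← h4]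
    exact C.PJ_conj_rad (C.B_le_PJ _ (C.U_le_B hu')) (C.x_mem hr _)
  have h7 : m * v * m⁻¹ ∈ C.Um 1 {r | G.Pos r} (G.fn 1 r + 1) :=
    h1.conj_mem (fun s hs => by
      rw [show w s = s from by_contra fun e => by have := hm s ⟨hs.2, e⟩; have := hs.1.2; omega]; exact hs.1)
      (C.mem_inf' (nil_Um G.nil_pos _) (G.nil_radJ J) hv h6)
  have h8 : C.x (w r) (d * (c * 1)) = C.x r 1 * (v' * (m * v * m⁻¹)⁻¹) := by
    have := h _ (C.x_mem hr 1)
    rw [← h3, ← mul_assoc, ← h5, eq_mul_inv_iff_mul_eq.2 h4.symm]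
    conv_rhs => rw [← this]
    rw [show C.x r (c * 1) = _ from (h2 1).symm]
    group
  have h9 : w r ∈ {s | G.Pos s ∧ G.fn 1 r + 1 ≤ G.fn 1 s} := by
    have := C.mem_of_x_mem (nil_Um G.nil_pos (G.fn 1 r)) (r := w r) (t := d * (c * 1)) (by simp)
      (mul_mem (C.x_mem (by exact ⟨hr.1, le_rfl⟩) 1) (C.Um_anti (by omega) (mul_mem hv' (inv_mem h7)))) (congrArg _ h8)
    refine by_contra fun e => ?_
    have h10 : G.fn 1 (w r) = G.fn 1 r := by_contra fun e' => e ⟨this.1, by have := this.2; omega⟩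
    obtain ⟨i, hi⟩ := G.exists_cov_ne (R := F) r
    have h11 := C.lc_mul G.nil_pos i (G.nil_pos.pos r hr.1) (C.x_mem (by exact ⟨hr.1, le_rfl⟩) 1)
      (C.Um_le _ (mul_mem hv' (inv_mem h7))) (C.Um_anti (by omega) (mul_mem hv' (inv_mem h7)))
    rw [← h8, C.lc_x, C.lc_x, C.lc_eq_zero G.nil_pos i (by have := G.nil_pos.pos r hr.1; omega) (lt_add_one _)
      (mul_mem hv' (inv_mem h7)), if_neg e1] at h11
    exact hi (by simpa using h11.symm)
  have h10 : w r ∈ G.radJ J := ⟨h9.1, (Good.inJ_WJ hw).not.2 hr.2⟩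
  exact e1 (w.injective (by_contra fun e => by have := hm _ ⟨h10, e⟩; have := h9.2; omega))

theorem mem_U_of_cent (hπ : Function.Injective C.π) {rk : List ℕ} (hc : Good.ConnOK D rk) {J : Set (Fin D.rank)}
    (hJ : Jᶜ.Nonempty) {g : Γ} (hg : g ∈ C.Gr) (h : ∀ v ∈ C.US (G.radJ J), g * v * g⁻¹ = v) : g ∈ C.U := by
  have key : ∀ a ∈ C.PJ J, a * g * a⁻¹ ∈ C.B := fun a ha => C.mem_B_of_cent hc hJ
    (mul_mem (mul_mem (C.PJ_le_Gr J ha) hg) (inv_mem (C.PJ_le_Gr J ha))) fun v hv => by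
      have := h _ (C.PJ_conj_rad (inv_mem ha) hv)
      calc _ = a * (g * (a⁻¹ * v * a⁻¹⁻¹) * g⁻¹) * a⁻¹ := by group
        _ = v := by rw [this]; group
  obtain ⟨u, hu, k, hk, rfl⟩ := C.mem_B.1 (C.mem_B_of_cent hc hJ hg h)
  obtain ⟨-, c, h1⟩ := C.exists_hd hk
  have h2 : c = 1 := funext fun j => Units.ext (by
    have h3 := C.conj_x hk h1 (G.sm j)
    simp only [G.chr_sm] at h3
    by_cases hj : j ∈ J
    · have h4 : ∀ t, t + C.lc j (G.sm j) u - c j * t = 0 := fun t => by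
        have h5 := mul_mem (key _ (mul_mem (C.ν_mem_PJ hj) (C.B_le_PJ J (C.U_le_B (C.x_mem_U (G.pos_sm j) t)))))
          (inv_mem (C.HH_le_B (C.conj_HH (C.ν_mem j) hk)))
        have h6 := C.lc_zero_of_conj j (mul_mem (mul_mem (C.x_mem_U (G.pos_sm j) t) hu)
          (C.x_mem_U (G.pos_sm j) (c j * -t))) (by
            rw [← h3, C.x_neg]; convert h5 using 1; group)
        rw [C.lc_U j j (mul_mem (C.x_mem_U (G.pos_sm j) t) hu) (C.x_mem_U (G.pos_sm j) _),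
          C.lc_U j j (C.x_mem_U (G.pos_sm j) t) hu, C.lc_sm, C.lc_sm] at h6
        linear_combination h6
      simp only [Pi.one_apply, Units.val_one]
      linear_combination h4 0 - h4 1
    · have h4 := congrArg (C.lc j (G.sm j)) (h _ (C.x_mem (by exact ⟨G.pos_sm j, G.inJ_sm.not.2 hj⟩) 1))
      rw [show u * k * C.x (G.sm j) 1 * (u * k)⁻¹ = u * (k * C.x (G.sm j) 1 * k⁻¹) * u⁻¹ by group, h3,
        C.lc_conj_U j hu (C.x_mem_U (G.pos_sm j) _), C.lc_sm, C.lc_sm] at h4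
      simpa using h4)
  rw [h2, G.hd_one] at h1
  rwa [show k = 1 from hπ (by rw [map_one]; exact Units.ext h1), mul_one]

theorem n_mem_sup {K : Subgroup Γ} (hK : C.U ≤ K) {i : Fin D.rank} (h : ∀ t, C.x (G.sm i).rev t ∈ K) (t : F) :
    C.n (G.sm i) t ∈ K :=
  mul_mem (mul_mem (hK (C.x_mem_U (G.pos_sm i) _)) (h _)) (hK (C.x_mem_U (G.pos_sm i) _))

theorem cent_eq (h3 : C.R3) {z : Γ} {J : Set (Fin D.rank)} (hU : ∀ r, G.Pos r → ∀ t, Commute (C.x r t) z)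
    (hJ : ∀ j ∈ J, ∀ t, Commute (C.x (G.sm j).rev t) z)
    (hw : ∀ m w, w ∈ G.W → C.Mon m w → m * z * m⁻¹ = z → w ∈ G.WJ J)
    (hk : ∀ c, h3.τ c * z * (h3.τ c)⁻¹ = z → ∀ i ∉ J, c i = 1) :
    C.Gr ⊓ Subgroup.centralizer {z} = C.U ⊔ C.US {r | ∃ j ∈ J, r = (G.sm j).rev} := by
  have h1 : C.U ⊔ C.US {r | ∃ j ∈ J, r = (G.sm j).rev} ≤ Subgroup.centralizer {z} :=
    sup_le (fun u hu => Subgroup.mem_centralizer_singleton_iff.2 (C.commute_US hU hu)) fun u hu =>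
      Subgroup.mem_centralizer_singleton_iff.2 (C.commute_US (by rintro _ ⟨j, hj, rfl⟩; exact hJ j hj) hu)
  refine le_antisymm (fun g hg => ?_) (le_inf (sup_le (C.US_le_Gr _) (C.US_le_Gr _)) h1)
  set K := C.U ⊔ C.US {r | ∃ j ∈ J, r = (G.sm j).rev}
  have h2 : ∀ j ∈ J, ∀ t, C.n (G.sm j) t ∈ K := fun j hj =>
    C.n_mem_sup le_sup_left fun t => Subgroup.mem_sup_right (C.x_mem (by exact ⟨j, hj, rfl⟩) t)
  obtain ⟨u, hu, m, hm, w, hw', h4, v, hv, rfl⟩ := C.canonical' hg.1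
  have hu' : u ∈ K := Subgroup.mem_sup_left hu
  have hv' : v ∈ K := Subgroup.mem_sup_left (C.invSet_le_U w hv)
  have h5 : m ∈ Subgroup.centralizer {z} := by
    have := (Subgroup.mem_inf.1 hg).2
    rwa [mul_mem_cancel_right (h1 hv'), mul_mem_cancel_left (h1 hu')] at this
  refine mul_mem (mul_mem hu' ?_) hv'
  obtain ⟨m', h6, h7, h8⟩ : ∃ m' ∈ K, m' ∈ C.NN ∧ C.Mon m' w :=
    G.WJ_induction (p := fun w => ∃ m' ∈ K, m' ∈ C.NN ∧ C.Mon m' w) ⟨1, one_mem _, one_mem _, C.mon_one⟩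
      (fun i hi w _ ⟨m', h6, h7, h8⟩ => ⟨_, mul_mem (h2 i hi 1) h6, mul_mem (C.ν_mem i) h7, (C.mon_ν i).mul h8⟩)
      (hw m w hw' h4 (by rw [Subgroup.mem_centralizer_singleton_iff.1 h5]; simp))
  obtain ⟨c, h9⟩ := h3.exists_τ (C.mul_inv_mem_HH hm h7 h4 h8)
  have h10 := hk c (by rw [h9, Subgroup.mem_centralizer_singleton_iff.1 (mul_mem h5 (inv_mem (h1 h6)))]; group)
  rw [← mul_mem_cancel_right (inv_mem h6), ← h9, h3.τ_eq]
  refine list_prod_mem fun a ha => ?_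
  obtain ⟨i, -, rfl⟩ := List.mem_map.1 ha
  by_cases hi : i ∈ J
  · exact mul_mem (h2 i hi _) (h2 i hi _)
  · rw [h10 i hi, Units.val_one, C.h_one]; exact one_mem _

theorem chr_eq {c : Fin D.rank → Fˣ} {r : Fin D.nroots} {i : Fin D.rank}
    (h : ∀ j : Fin D.rank, D.cartan j r = if j = i then 1 else 0) :
    Good.chr (pw Fˣ (cartanM D) c) (G.vec r) = c i := by
  simp [G.chr_pw', h]

theorem cent_one (h3 : C.R3) {p : ℤ} (hp : (p : F) = 0) {r : Fin D.nroots} {i : Fin D.rank}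
    (h : ∀ j : Fin D.rank, D.cartan j r = if j = i then 1 else 0) (hU : ∀ s, G.Pos s → Cm D p s r)
    (hJ : ∀ j, j ≠ i → Cm D p (G.sm j).rev r) :
    C.Gr ⊓ Subgroup.centralizer {C.x r 1} = C.U ⊔ C.US {s | ∃ j, j ≠ i ∧ s = (G.sm j).rev} := by
  have h1 : ∀ j, 0 ≤ G.A r (G.sm j) ∧ (G.A r (G.sm j) = 0 → j ≠ i) := fun j => by
    have h1 := G.A_pos_iff r (G.sm j)
    have h2 := G.A_eq_zero_iff r (G.sm j)
    rw [G.A_sm, h] at h1 h2
    split_ifs at h1 h2 with e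
    · exact ⟨by omega, by omega⟩
    · exact ⟨by omega, fun _ => e⟩
  refine C.cent_eq h3 (J := {j | j ≠ i}) (fun s hs t => C.comm_of_cm hp (hU s hs) t 1)
    (fun j hj t => C.comm_of_cm hp (hJ j hj) t 1) (fun m w hw hm e => ?_) fun c e j hj => ?_
  · obtain ⟨c, hc, -⟩ := hm.conj_n r
    have := (C.x_eq_of_π one_ne_zero (congrArg _ (e.symm.trans (hc 1)))).1.symm
    exact G.WJ_mono (fun j hj => (h1 j).2 (by simpa using hj))
      (G.mem_WJ_of_fix (fun j => (h1 j).1) (fun j => (h1 j).1) hw this this)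
  · rw [h3.τ_conj, chr_eq h] at e
    rw [not_not.1 hj]
    exact Units.ext (by simpa using C.x_inj e)

theorem sup_conj_cases [Finite F] (p : ℕ) [Fact p.Prime] [CharP F p] {r : Fin D.nroots}
    (hU : ∀ s, G.Pos s → Cm D p s r) {g : Γ} (hg : g ∈ C.Gr) :
    IsPGroup p ↥(C.US {r} ⊔ (C.US {r}).map (MulAut.conj g).toMonoidHom) ∨
      ∃ h ∈ C.Gr, (C.US {r} ⊔ (C.US {r}).map (MulAut.conj g).toMonoidHom).map (MulAut.conj h).toMonoidHom =
        C.US {r} ⊔ C.US {r.rev} := by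
  obtain ⟨u, hu, m, hm, w, hw, h1, v, hv, rfl⟩ := C.canonical' hg
  have h2 : ∀ u ∈ C.U, ∀ t, u * C.x r t * u⁻¹ = C.x r t := fun u hu t => by
    rw [(C.commute_US (fun s hs t' => C.comm_of_cm (p := p) (by simp) (hU s hs) t' t) hu).eq]; simp
  obtain ⟨c, hc, -⟩ := h1.conj_n r
  have h3 : (C.US {r} ⊔ (C.US {r}).map (MulAut.conj (u * m * v)).toMonoidHom).map (MulAut.conj u⁻¹).toMonoidHom =
      C.US {r} ⊔ C.US {w r} := by
    rw [Subgroup.map_sup, Subgroup.map_map]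
    congr 1
    · ext a
      simp only [Subgroup.mem_map, C.mem_US_single]
      exact ⟨by rintro ⟨_, ⟨t, rfl⟩, rfl⟩; exact ⟨t, h2 _ (inv_mem hu) t⟩,
        by rintro ⟨t, rfl⟩; exact ⟨_, ⟨t, rfl⟩, h2 _ (inv_mem hu) t⟩⟩
    · have h4 : ∀ t, ((MulAut.conj u⁻¹).toMonoidHom.comp (MulAut.conj (u * m * v)).toMonoidHom) (C.x r t) =
          C.x (w r) (c * t) := fun t => by
        rw [← hc, ← h2 v (C.invSet_le_U w hv) t]; simp [mul_assoc, h2 v (C.invSet_le_U w hv) t]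
      ext a
      simp only [Subgroup.mem_map, C.mem_US_single]
      exact ⟨by rintro ⟨_, ⟨t, rfl⟩, rfl⟩; exact ⟨_, h4 t⟩,
        by rintro ⟨t, rfl⟩; exact ⟨_, ⟨↑c⁻¹ * t, rfl⟩, by rw [h4, Units.mul_inv_cancel_left]⟩⟩
  by_cases e : w r = r.rev
  · exact .inr ⟨_, inv_mem (C.US_le_Gr _ hu), e ▸ h3⟩
  · obtain ⟨f, h4, h5⟩ := G.exists_fn_pos e
    refine .inl (IsPGroup.of_equiv ?_ (Subgroup.equivMapOfInjective _ (MulAut.conj u⁻¹).toMonoidHom (MulAut.conj u⁻¹).injective).symm)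
    rw [h3]
    exact (C.isPGroup_US p (G.nil_fn f)).to_le (sup_le (C.US_mono (by simpa)) (C.US_mono (by simpa)))

theorem pow_eq_one_of_U (hπ : Function.Injective C.π) (p k : ℕ) [Fact p.Prime] [CharP F p]
    (h : ∀ a b, G.fv 1 (G.wv a) < G.fv 1 (G.wv b) + p ^ k) {u : Γ} (hu : u ∈ C.U) : u ^ p ^ k = 1 := by
  obtain ⟨n, hn⟩ := Nat.exists_eq_succ_of_ne_zero (pow_ne_zero k (Fact.out : p.Prime).ne_zero)
  have h1 := (C.fil_US G.nil_pos hu).pow n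
  have : Nonempty D.Idx := ⟨.inl ⟨0, by have := G.two_le_rank; omega⟩⟩
  have h2 : ((C.π u : Matrix D.Idx D.Idx F) - 1) ^ p ^ k = 0 := by
    ext a b
    rw [hn]
    exact h1 a b (by have := h a b; rw [← Nat.cast_pow, hn] at this; exact_mod_cast this)
  rw [sub_pow_char_pow_of_commute _ _ (Commute.one_right _), one_pow, sub_eq_zero] at h2
  exact hπ (Units.ext (by simpa using h2))

end Cover

end CfsgH6
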