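import Cfsg.Agent.H6.Inv2b
import Cfsg.Agent.H6.GoodD4
import Cfsg.Agent.H6.TwD4

/-! Certificates for the involutions, TD4. -/

namespace CfsgH6

open Cfsg.Lie

set_option maxRecDepth 100000

/-- representatives in the Weyl group -/
def irTD4 : List (List ℕ) := [[23, 18, 13, 12], [21, 20, 17], [23], []]

theorem icTD4_0 : fastD4.chkJs mapD4a.fι irTD4
    [(2, [], 0, 0), (0, [], 0, 2), (2, [], 1, 0), (0, [], 0, 2), (0, [], 0, 2), (0, [], 2, 3), (0, [], 0, 2), (0, [], 2, 3), (0, [], 2, 3), (0, [], 0, 2), (0, [], 2, 3), (0, [], 0, 2), (0, [], 0, 2), (2, [], 2, 0), (0, [], 0, 2), (2, [], 3, 0)] 0 = true := by decide +kernel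

theorem icTD4 : ∀ b < 2 ^ chevD4.rank, ∃ c, fastD4.chkJ mapD4a.fι irTD4 b c = true := fun b hb => by
  have hb' : b < 16 := hb
  exact fastD4.chkJs_sound _ icTD4_0 b (by omega) hb'

theorem ipTD4 : fastD4.paths mapD4a.fι ([] :: [[23], [21, 20, 17]]) irTD4
    [[(true, [[11, 5, 10], [15, 19, 16], [9], [0], [5, 10, 11]], [12, 11, 12, 13, 10, 13, 18, 5, 18]), (false, [[12, 13, 18], [23, 19, 16, 15]], [21, 20, 17])], [(true, [[2, 6, 3]], [21, 20, 17])], [(true, [[0]], [23])], []] = true := by decide +kernel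

/-- a class of involutions with rank 10 -/
def iyTD4_0 : List ℕ × List ℕ × List ℕ × List ℕ × List ℕ := ([23],
  [0x23c6ef372fe94f82a, 0x4daa66d2c7ddf743f, 0x878dde6e5fd29f054, 0x101715609f7c746c69, 0x40538454127b096493, 0x80f1bbcdcbfa53e0a8, 0x1008ff34785799e5cbd, 0x2002e2ac13ef8e8d8d2, 0x200000011a25cd6ed909a22, 0x20000018f95256f92dae637],
  [14, 15, 16, 17, 19, 20, 21, 22, 23, 24],
  [0x20b54cda58fbbee87e, 0x400cc623af8783354e7, 0x8006a99b4b1f77dd0fc, 0x100008d12e6b76c84d11, 0x2000a708a824f612c926, 0x4000454021de755d453b, 0x8000e3779b97f4a7c150, 0x1000081af155173f23d65, 0x200001fe68f0af33cb97a, 0x40000be1e08c47287358f, 0x800005c55827df1d1b1a4, 0x100000fa8cfc37711c2db9, 0x20000098c475f0f066a9ce, 0x40000036fbefaa6fb125e3, 0x800000d5336963eefba1f8, 0x1000000736ae31d6e461e0d, 0x4000000afd9d6906cdb1637, 0x80000004e115049ec25924c],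
  [5, 10, 11, 12, 13, 14, 15, 16, 17, 18, 19, 20, 21, 22, 23, 24, 26, 27])

theorem ikTD4_0 : fastD4.chkY mapD4a.fι iyTD4_0 = true := by decide +kernel

/-- a class of involutions with rank 12 -/
def iyTD4_1 : List ℕ × List ℕ × List ℕ × List ℕ × List ℕ := ([21, 20, 17],
  [0x100008d12e6b76c84d11, 0x8000e3779b97f4a7c150, 0x10101fc44ef40abc2178, 0x8020563b41cf0f19292e, 0x90e6aead5486278cc1, 0x420792ee0a0838dbc99, 0x1000000736ae31d6e461e0d, 0x4daa66d2c7ddf743f, 0x878dde6e5fd29f054, 0x100004c82953cc695b9fef5, 0x1189221926033e107c, 0x228922292a052a1054],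
  [22, 23, 12, 15, 13, 16, 17, 21, 20, 25, 4, 5],
  [0x2002e2ac13ef8e8d8d2, 0x4000454021de755d453b, 0x200001fe68f0af33cb97a, 0x100000fa8cfc37711c2db9, 0x20000098c475f0f066a9ce, 0x40000036fbefaa6fb125e3, 0x800000d5336963eefba1f8, 0x200000011a25cd6ed909a22, 0x3000afd9864f80da8437, 0x1800062d88ec68755fc35, 0x420001916a0e08495fca9, 0x90000ddfa972c82238cc1, 0x40190d743e2158d3ee5f3, 0x80c204fe2d66c8521ddc1, 0x5000000dcb3358d029d083a, 0xc000000e1c886d980fe847b],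
  [9, 14, 17, 20, 21, 22, 23, 25, 12, 15, 13, 16, 4, 5, 24, 26])

theorem ikTD4_1 : fastD4.chkY mapD4a.fι iyTD4_1 = true := by decide +kernel

theorem invTD4a {K : Type*} [Field K] [Fintype K] [CharP K 2] {φ : K →+* K} {q : ℕ} (hφ : ∀ t, φ t = t ^ q)
    (hK : Fintype.card K = q ^ 3) :
    ∀ t ∈ (TD4g hφ hK).G1, orderOf t = 2 → ∃ y ∈ [[23], [21, 20, 17]].map (goodD4.gl K).xw, (TD4g hφ hK).Cj t y :=
  checkedD4.inv_classes' (TD4g hφ hK) (fρ := mapD4a.fι) (fun _ => rfl) (XD4 φ).f_one ipTD4 icTD4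

theorem invTD4b {K : Type*} [Field K] [Fintype K] [CharP K 2] {φ : K →+* K} {q : ℕ} (hφ : ∀ t, φ t = t ^ q)
    (hK : Fintype.card K = q ^ 3) :
    (∀ y ∈ [[23], [21, 20, 17]].map (goodD4.gl K).xw, y ∈ (TD4g hφ hK).G1 ∧ orderOf y = 2) ∧
      ([[23], [21, 20, 17]].map (goodD4.gl K).xw).Pairwise fun a b => ¬ (TD4g hφ hK).Cj a b :=
  checkedD4.finals (TD4g hφ hK) (fρ := mapD4a.fι) (fun _ => rfl) (XD4 φ).f_one (Y := [iyTD4_0, iyTD4_1])
    (by simp only [List.forall_mem_cons, ikTD4_0, ikTD4_1]; simp) (R := fun _ _ => False) (fun _ _ h => h.elim)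
    (by decide +kernel)

end CfsgH6
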