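import Mathlib
import Cfsg.Agent.H6.TwistS

/-! Involutions are conjugate into the monomial subgroup. -/

set_option autoImplicit false

namespace CfsgH6

open Cfsg.Lie

variable {D : ChevalleyDatum}

namespace Good

variable {G : Good D}

theorem Lin.fn_eq {w : Equiv.Perm (Fin D.nroots)} (h : G.Lin w) (f : Fin D.rank → ℤ) (r : Fin D.nroots) :
    G.fn f (w r) = ∑ i, G.vec r i * G.fn f (w (G.sm i)) := by
  simp only [fn, fv, h r, Finset.mul_sum]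
  rw [Finset.sum_comm]
  exact Finset.sum_congr rfl fun _ _ => Finset.sum_congr rfl fun _ _ => by ring

theorem Lin.inJ_map {w : Equiv.Perm (Fin D.nroots)} (h : G.Lin w) {J J' : Set (Fin D.rank)}
    (h1 : ∀ j ∈ J, G.InJ J' (w (G.sm j))) {r : Fin D.nroots} (hr : G.InJ J r) : G.InJ J' (w r) := fun k hk => by
  rw [h r]
  refine Finset.sum_eq_zero fun i _ => ?_
  by_cases hi : i ∈ J
  · rw [h1 i hi k hk, mul_zero]
  · rw [hr i hi, zero_mul]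

theorem Lin.pos_iff_inJ {w : Equiv.Perm (Fin D.nroots)} (h : G.Lin w) {J J' : Set (Fin D.rank)}
    (h1 : ∀ j ∈ J, G.Pos (w (G.sm j)) ∧ G.InJ J' (w (G.sm j)))
    (h2 : ∀ i ∉ J, ¬ G.Pos (w (G.sm i)) ∧ ¬ G.InJ J' (w (G.sm i))) {r : Fin D.nroots} (hr : G.Pos r) :
    G.Pos (w r) ↔ G.InJ J r := by
  refine ⟨fun hp => by_contra fun hn => ?_, fun hJ => Red.pos (fun j hj => (h1 j hj).1) h hr hJ⟩
  have h3 := G.fn_outJ_nonneg (J := J') (Or.inl hp)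
  have h4 : ∀ i ∉ J, G.fn (G.outJ J') (w (G.sm i)) < 0 := fun i hi => by
    have := (G.fn_outJ_pos (J := J') (r := (w (G.sm i)).rev)).2
      ⟨G.pos_rev.2 (h2 i hi).1, fun e => (h2 i hi).2 (G.inJ_rev.1 e)⟩
    rw [G.fn_rev] at this; omega
  obtain ⟨k, hk, hk'⟩ : ∃ k, k ∉ J ∧ G.vec r k ≠ 0 := by simpa [InJ] using hn
  rw [h.fn_eq] at h3
  refine absurd h3 (not_le.2 ?_)
  rw [← Finset.sum_const_zero (s := Finset.univ (α := Fin D.rank))]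
  refine Finset.sum_lt_sum (fun i _ => ?_) ⟨k, Finset.mem_univ _, mul_neg_of_pos_of_neg
    (lt_of_le_of_ne (hr k) hk'.symm) (h4 k hk)⟩
  by_cases hi : i ∈ J
  · rw [G.fn_outJ_of_inJ (h1 i hi).2, mul_zero]
  · exact mul_nonpos_of_nonneg_of_nonpos (hr i) (h4 i hi).le

theorem eq_of_pos_iff {w w' : Equiv.Perm (Fin D.nroots)} (hw : w ∈ G.W) (hw' : w' ∈ G.W)
    (h : ∀ r, G.Pos r → (G.Pos (w r) ↔ G.Pos (w' r))) : w = w' := by
  refine (mul_inv_eq_one.1 (eq_one_of_pos (mul_mem hw' (inv_mem hw)) fun i => ?_)).symm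
  rw [Equiv.Perm.mul_apply]
  by_cases hp : G.Pos (w⁻¹ (G.sm i))
  · exact (h _ hp).1 (by simpa using G.pos_sm i)
  · have := h _ (G.pos_rev.2 hp)
    rw [rev_W hw, rev_W hw', G.pos_rev, G.pos_rev, perm_apply_inv] at this
    exact by_contra fun e => this.2 e (G.pos_sm i)

theorem eq_of_sm {w w' : Equiv.Perm (Fin D.nroots)} (hw : G.Lin w) (hw' : G.Lin w')
    (h : ∀ i, w (G.sm i) = w' (G.sm i)) : w = w' :=
  Equiv.ext fun r => G.vec_inj fun j => by rw [hw r, hw' r]; simp only [h]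

end Good

namespace Cover

variable {G : Good D} {F : Type*} [Field F] {Γ : Type*} [Group Γ] (C : Cover G F Γ)

/-- membership in a double coset of `B` -/
def Cell (g : Γ) (w : Equiv.Perm (Fin D.nroots)) : Prop :=
  ∃ b ∈ C.B, ∃ m ∈ C.NN, ∃ b' ∈ C.B, C.Mon m w ∧ g = b * m * b'

theorem Cell.unique {C : Cover G F Γ} {g : Γ} {w w' : Equiv.Perm (Fin D.nroots)} (h : C.Cell g w)
    (h' : C.Cell g w') : w = w' := by
  obtain ⟨b, hb, m, hm, c, hc, h, e⟩ := h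
  obtain ⟨b', hb', m', hm', c', hc', h', e'⟩ := h'
  exact mul_inv_eq_one.1 ((h.mul h'.inv).unique (C.mon_HH
    (C.bruhat_unique hb hb' hm hm' hc hc' (by rw [← e, e']))))

theorem inv_step {m u : Γ} {w : Equiv.Perm (Fin D.nroots)} (hm : m ∈ C.NN) (h : C.Mon m w) (hu : u ∈ C.U)
    (e : m * u * (m * u) = 1) : m * m = 1 ∧ u ∈ C.US {r | G.Pos r ∧ G.Pos (w r)} := by
  obtain ⟨a, ha, b, hb, rfl⟩ := C.U_split (w := w) hu
  have h1 : m * a * m⁻¹ ∈ C.U := h.conj_mem (fun _ h => h.2) ha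
  obtain ⟨-, h2, h3⟩ := C.canonical_unique' h1 (inv_mem hu) hm (inv_mem hm) h h.inv hb (one_mem _)
    (by rw [mul_one, ← mul_inv_rev, inv_eq_of_mul_eq_one_right e]; group)
  exact ⟨by nth_rewrite 1 [h2]; exact inv_mul_cancel m, by rwa [h3, mul_one]⟩

end Cover

namespace Twist

variable {G : Good D} {F : Type*} [Field F] {Γ : Type*} [Group Γ] {C : Cover G F Γ} {ι : Type} (T : Twist C ι)

theorem inv_step2 {m u : Γ} {w : Equiv.Perm (Fin D.nroots)} (hm : m ∈ C.NN) (h : C.Mon m w) (hw : w ∈ T.W1)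
    (h2 : w * w = 1) (hu : u ∈ C.U)
    (hmax : ∀ g ∈ T.G1, ∀ w', C.Cell (g * (m * u) * g⁻¹) w' → G.N w' ≤ G.N w) {i : Fin D.rank}
    (hi : G.Pos (w (G.sm i))) : G.InJ (T.nodes (T.cl i)) (w (G.sm i)) := by
  by_contra hn
  set c := T.cl i with hc
  have h1 : G.Red (T.nodes c) w := fun j hj => T.same hw (hc.symm.trans hj.symm) hi
  have hs := mul_mem (T.s_mem c) hw
  have h3 : G.Red (T.nodes c) (T.s c * w) := fun j hj =>
    T.same hs (hc.symm.trans hj.symm) ((Good.pos_WJ (T.s_WJ c) hn).2 hi)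
  have h4 := h3.N_mul (lin_W1 hs) (T.s_WJ c)
  have h5 := h1.N_mul (lin_W1 hw) (T.s_WJ c)
  have h6 := (lin_W1 hs).N_inv
  rw [mul_inv_rev, T.s_inv, inv_eq_of_mul_eq_one_right h2] at h6
  have h7 : 0 < G.N (T.s c) := T.fold.N_s_pos c
  obtain ⟨b, hb, a, ha, rfl⟩ := C.U_split' (w := T.s c) hu
  rw [T.invSet_s] at hb
  have h8 := (T.mon_ν c).mul h
  have := hmax _ (T.ν_G1 c) (T.s c * w * T.s c) ⟨_, C.U_le_B (h8.conj_mem
    (fun r hr => h3.pos (lin_W1 hs) hr.1 hr.2) hb), _, mul_mem (mul_mem (T.ν_NN c) hm) (inv_mem (T.ν_NN c)), _,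
    C.U_le_B ((T.mon_ν c).conj_mem (fun _ h => h.2) ha), by simpa only [T.s_inv] using h8.mul (T.mon_ν c).inv, by group⟩
  omega

theorem inv_conj {t : Γ} (ht : t ∈ T.G1) (h2 : t * t = 1) : ∃ g ∈ T.G1, g * t * g⁻¹ ∈ C.NN ∧ ∃ w ∈ T.W1,
    C.Mon (g * t * g⁻¹) w ∧ ∃ J, ∀ r, G.Pos r → (G.Pos (w r) ↔ G.InJ J r) := by
  have h0 : ∀ g ∈ T.G1, ∃ g' ∈ T.G1, ∃ m ∈ C.NN, ∃ u ∈ C.U, ∃ w ∈ T.W1, C.Mon m w ∧ g' * t * g'⁻¹ = m * u ∧
      C.Cell (g * t * g⁻¹) w := fun g hg => by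
    obtain ⟨u, hu, hu', m, hm, -, w, hw, h, v, hv, -, e⟩ := T.canonical (mul_mem (mul_mem hg ht) (inv_mem hg))
    have hv' := C.invSet_le_U _ hv
    exact ⟨u⁻¹ * g, mul_mem (inv_mem hu') hg, m, hm, v * u, mul_mem hv' hu, w, hw, h,
      by rw [← mul_assoc m, ← inv_mul_cancel_left u (m * v), ← mul_assoc u, ← e]; group,
      u, C.U_le_B hu, m, hm, v, C.U_le_B hv', h, e⟩
  obtain ⟨w0, ⟨g0, hg0, hc0⟩, hmax⟩ := Set.exists_max_image {w | ∃ g ∈ T.G1, C.Cell (g * t * g⁻¹) w} G.N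
    (Set.toFinite _) (by obtain ⟨-, -, -, -, -, -, w, -, -, -, h⟩ := h0 1 (one_mem _); exact ⟨w, 1, one_mem _, h⟩)
  obtain ⟨g, hg, m, hm, u, hu, w, hw, h, e, hc⟩ := h0 g0 hg0
  obtain rfl := hc.unique hc0
  have hmax' : ∀ g ∈ T.G1, ∀ w', C.Cell (g * (m * u) * g⁻¹) w' → G.N w' ≤ G.N w := fun g' hg' w' h' =>
    hmax w' ⟨g' * g, mul_mem hg' hg, by convert h' using 1; rw [← e]; group⟩
  obtain ⟨h3, h4⟩ := C.inv_step hm h hu (by rw [← e, conj_mul, h2]; group)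
  have h5 : w * w = 1 := (h.mul h).unique (h3 ▸ C.mon_one)
  have hl := lin_W1 hw
  set J : Set (Fin D.rank) := {i | G.Pos (w (G.sm i))}
  have h6 : ∀ j ∈ J, G.InJ J (w (G.sm j)) := fun j hj k hk =>
    T.inv_step2 hm h hw h5 hu hmax' hj k fun e => hk (T.same hw e.symm hj)
  have h7 : ∀ r, G.Pos r → (G.Pos (w r) ↔ G.InJ J r) := fun r hr =>
    hl.pos_iff_inJ (fun j hj => ⟨hj, h6 j hj⟩) (fun i hi => ⟨hi, fun e => hi (G.inJ_sm.1 (by
      have := hl.inJ_map h6 e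
      rwa [← Equiv.Perm.mul_apply, h5] at this))⟩) hr
  obtain ⟨v, hv, hv'⟩ := G.exists_longest J
  have hvl := Good.lin_W (G.WJ_le J hv)
  obtain ⟨n, hn, hn', hnv⟩ := T.exists_N1 (T.longest_mem_W1 (fun i => ⟨T.same hw (T.cl_p i),
    T.same hw (T.cl_p i).symm⟩) hv fun i hi => hv' _ (G.pos_sm i) (G.inJ_sm.2 hi))
  have h8 : n * u * n⁻¹ ∈ C.US {r | ¬ G.Pos r ∧ G.InJ J r} := hnv.conj_mem (fun r hr => show _ ∧ _ from
    ⟨hv' r hr.1 ((h7 r hr.1).1 hr.2), (Good.inJ_WJ hv).2 ((h7 r hr.1).1 hr.2)⟩) h4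
  obtain ⟨a, ha, m1, hm1, w1, hw1, h9, b, -, hb, e1⟩ :=
    C.canonical_levi (Subgroup.mem_sup_left (C.US_mono (fun _ h => h.2) h8))
  have h10 := (hnv.mul h).mul hnv.inv
  have h11 : G.Red J (v * w * v⁻¹) := fun j hj => by
    have a1 : G.InJ J (v⁻¹ (G.sm j)) := (Good.inJ_WJ (inv_mem hv)).2 (G.inJ_sm.2 hj)
    have a2 : ¬ G.Pos (v⁻¹ (G.sm j)) := fun e => hv' _ e a1 (by simpa using G.pos_sm j)
    have a3 := G.inJ_rev.2 a1
    have a4 := hv' _ ((h7 _ (G.pos_rev.2 a2)).2 a3) (hl.inJ_map h6 a3)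
    rw [hl.rev, hvl.rev, G.pos_rev, not_not] at a4
    exact a4
  have h12 : G.N w ≤ G.N (v * w * v⁻¹) := Finset.card_le_card fun r hr => by
    rw [G.mem_invSet] at hr ⊢
    have a1 : ¬ G.InJ J r := fun e => hr.2 ((h7 r hr.1).2 e)
    have a2 : ¬ G.InJ J (v⁻¹ r) := fun e => a1 ((Good.inJ_WJ (inv_mem hv)).1 e)
    have a3 : ¬ G.InJ J (w (v⁻¹ r)) := fun e => a2 (by
      have := hl.inJ_map h6 e
      rwa [← Equiv.Perm.mul_apply, h5] at this)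
    exact ⟨hr.1, fun e => a2 ((h7 _ ((Good.pos_WJ (inv_mem hv) a1).2 hr.1)).1 ((Good.pos_WJ hv a3).1 e))⟩
  have h13 := hmax' n hn' _ ⟨_, C.U_le_B (h10.conj_mem (fun r hr => h11.pos h10.1 hr.1 hr.2) ha), _,
    mul_mem (mul_mem (mul_mem hn hm) (inv_mem hn)) hm1, b, C.U_le_B (C.US_mono (fun _ h => h.1) hb), h10.mul h9,
    by rw [← conj_mul, e1]; group⟩
  rw [h11.N_mul h10.1 hw1] at h13
  obtain rfl := Good.eq_one_of_N (G.WJ_le J hw1) (by omega)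
  have h14 : n * u * n⁻¹ = 1 := C.eq_one_of_V_B (C.US_mono (fun _ h => h.1) h8) (mul_mem (mul_mem
    (C.U_le_B (C.US_mono (fun _ h => h.1) ha)) (C.HH_le_B (C.mem_HH_of_mon hm1 h9)))
    (C.U_le_B (C.US_mono (fun _ h => h.1) hb))) (by rw [e1])
  rw [conj_eq_one_iff.1 h14, mul_one] at e
  exact ⟨g, hg, e ▸ hm, w, hw, e ▸ h, J, h7⟩

end Twist

end CfsgH6
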