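import Mathlib
import Cfsg.Agent.H6.CheckGood

/-! Bit-mask evaluation of words in the elements `x_r(1)` in characteristic two. -/

set_option autoImplicit false

namespace CfsgH6

open Cfsg.Lie Matrix

/-- test a bit -/
def tb (m i : ℕ) : Bool := Nat.beq (Nat.land (Nat.shiftRight m i) (nat_lit 1)) (nat_lit 1)

theorem tb_eq (m i : ℕ) : tb m i = m.testBit i := by
  rw [Bool.eq_iff_iff, tb, beq_iff', Nat.testBit_eq_decide_div_mod_eq, decide_eq_true_eq]
  change (m >>> i) &&& 1 = 1 ↔ _
  rw [Nat.and_one_is_mod, Nat.shiftRight_eq_div_pow]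

/-- mask of a basis vector; the low bits only serve to separate hash values -/
def bit (b : ℕ) : ℕ := Nat.xor (Nat.shiftLeft (nat_lit 1) (Nat.add b (nat_lit 64)))
  (Nat.land (Nat.mul (Nat.succ b) (nat_lit 11400714819323198485)) (nat_lit 18446744073709551615))

theorem testBit_bit (b i : ℕ) : (bit b).testBit (i + 64) = decide (b = i) := by
  change ((1 <<< (b + 64)) ^^^ (_ &&& (2 ^ 64 - 1))).testBit _ = _
  rw [Nat.testBit_xor, Nat.one_shiftLeft, Nat.testBit_two_pow, Nat.testBit_and, Nat.testBit_two_pow_sub_one]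
  simp

/-- mask of a list of terms -/
def msk (L : List Tm) : ℕ :=
  List.rec 0 (fun t _ ih => cond (Nat.beq (Nat.land t.2.2.2.natAbs (nat_lit 1)) (nat_lit 0)) ih
    (Nat.xor ih (bit t.1))) L

/-- collect the non-zero values -/
def colA (g : ℕ → ℕ) (n : ℕ) : List (ℕ × ℕ) → (List (ℕ × ℕ) → Bool) → Bool :=
  Nat.rec (fun acc k => k acc) (fun b ih acc k => force (g b) false fun m =>
    cond (Nat.beq m (nat_lit 0)) (ih acc k) (force (Nat.add b (nat_lit 64)) false fun c => ih ((c, m) :: acc) k)) n

/-- add the listed columns -/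
def app (cs : List (ℕ × ℕ)) (m : ℕ) : ℕ := List.rec m (fun c _ ih => cond (tb m c.1) (Nat.xor ih c.2) ih) cs

/-- the listed columns -/
def piv (cs : List (ℕ × ℕ)) : ℕ := List.rec 0 (fun c _ ih => Nat.lor ih (Nat.shiftLeft (nat_lit 1) c.1)) cs

/-- add the listed columns, with a shortcut -/
def app' (P : ℕ) (cs : List (ℕ × ℕ)) (m : ℕ) : ℕ := cond (Nat.beq (Nat.land m P) (nat_lit 0)) m (app cs m)

theorem app'_eq (cs : List (ℕ × ℕ)) (m : ℕ) : app' (piv cs) cs m = app cs m := by
  rw [app', cond_beq]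
  split_ifs with h
  · induction cs with
    | nil => rfl
    | cons c cs ih =>
      have h1 : m &&& (piv cs ||| 1 <<< c.1) = 0 := h
      rw [Nat.and_or_distrib_left, Nat.or_eq_zero_iff, Nat.one_shiftLeft] at h1
      have h2 : tb m c.1 = false := by simpa [tb_eq] using congrArg (·.testBit c.1) h1.2
      change m = cond (tb m c.1) _ _
      rw [h2]; exact ih h1.1
  · rfl

/-- map with forcing -/
def mapF (f : ℕ → ℕ) (ms : List ℕ) : (List ℕ → Bool) → Bool :=
  List.rec (fun k => k []) (fun m _ ih k => force (f m) false fun m' => ih fun l => k (m' :: l)) ms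

theorem mapF_eq (f : ℕ → ℕ) (ms : List ℕ) (k : List ℕ → Bool) : mapF f ms k = k (ms.map f) := by
  induction ms generalizing k with
  | nil => rfl
  | cons m ms ih => exact ih _

/-- equality of lists -/
def eqL (a : List ℕ) : List ℕ → Bool :=
  List.rec (fun b => b.isEmpty) (fun x _ ih b => match b with
    | [] => false
    | y :: b => cond (Nat.beq x y) (ih b) false) a

theorem eqL_sound {a b : List ℕ} (h : eqL a b = true) : a = b := by
  induction a generalizing b with
  | nil => exact (List.isEmpty_iff.1 h).symm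
  | cons x a ih =>
    cases b with
    | nil => cases h
    | cons y b =>
      have h1 : cond (Nat.beq x y) (eqL a b) false = true := h
      rw [cond_beq] at h1
      split_ifs at h1 with e
      rw [e, ih h1]

/-- triangular family -/
def tri (N : ℕ) (ms : List ℕ) : List ℕ → Bool :=
  List.rec (fun _ => true) (fun m ms ih ps => match ps with
    | [] => false
    | p :: ps => force (Nat.add p (nat_lit 64)) false fun q =>
      Nat.blt p N && tb m q && ms.all (fun m' => !tb m' q) && ih ps) ms

namespace Fast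

variable (C : Fast)

/-- the columns of `x_r(1) - 1` -/
def colK (r : ℕ) (k : List (ℕ × ℕ) → Bool) : Bool :=
  force (C.rows1.getD r 0) false fun r1 => force (C.rows2.getD r 0) false fun r2 =>
    force (C.rows3.getD r 0) false fun r3 => force (C.rv r) false fun nr =>
      colA (fun b => Nat.xor (msk (C.act1' r 1 0 0 r1 r2 r3 nr (b, 0, 0, 1))) (bit b))
        (Nat.add C.n C.l) [] k

/-- action of a word on masks -/
def actM (w : List ℕ) (ms : List ℕ) : (List ℕ → Bool) → Bool :=
  List.rec (fun k => k ms) (fun r _ ih k => force r false fun r => Nat.blt r C.n &&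
    ih fun ms' => C.colK r fun cs => force (piv cs) false fun P => mapF (app' P cs) ms' k) w

/-- equality of words -/
def eqW (v w : List ℕ) : Bool :=
  mapF bit (List.range (Nat.add C.n C.l)) fun e => C.actM v e fun a => C.actM w e fun b => eqL a b

/-- certificate for the rank of `y - 1` -/
def rkW (w im ip ke kp : List ℕ) : Bool :=
  (C.actM w im fun a => mapF id (List.zipWith Nat.xor a im) fun b => tri (Nat.add C.n C.l) b ip) &&
    (C.actM w ke fun a => eqL a ke) && tri (Nat.add C.n C.l) ke kp &&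
      Nat.beq (Nat.add im.length ke.length) (Nat.add C.n C.l)

end Fast

section
variable (D : ChevalleyDatum)

/-- index of a basis vector -/
def idx : D.Idx → ℕ := Sum.elim (fun i => D.nroots + i) fun r => r

variable (F : Type*) [Field F]

/-- the vector of a mask -/
def vm (m : ℕ) : D.Idx → F := fun a => if m.testBit (idx D a + 64) then 1 else 0

/-- the matrix of a word -/
def wm (w : List ℕ) : Matrix D.Idx D.Idx F := wordR D F (w.map fun r => (r, 1))

variable {D F}

theorem idx_lt (a : D.Idx) : idx D a < D.nroots + D.rank := by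
  cases a with
  | inl i => exact Nat.add_lt_add_left i.2 _
  | inr r => exact r.2.trans_le (Nat.le_add_right _ _)

theorem exists_idx {b : ℕ} (h : b < D.nroots + D.rank) : ∃ a, idx D a = b := by
  by_cases h1 : b < D.nroots
  · exact ⟨.inr ⟨b, h1⟩, rfl⟩
  · exact ⟨.inl ⟨b - D.nroots, by omega⟩, by simp only [idx, Sum.elim_inl]; omega⟩

theorem bvec_idx (a : D.Idx) : bvec D F (idx D a) = Pi.single a 1 := by
  cases a <;> simp [bvec, idx, ev]

theorem idx_inj : Function.Injective (idx D) := by
  rintro (i | r) (j | s) h <;> simp only [idx, Sum.elim_inl, Sum.elim_inr] at h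
  · exact congrArg _ (Fin.ext (by omega))
  · have := s.2; omega
  · have := r.2; omega
  · exact congrArg _ (Fin.ext h)

theorem vm_pow (b : ℕ) : vm D F (bit b) = bvec D F b := by
  ext a
  rw [vm, testBit_bit]
  by_cases h : b < D.nroots + D.rank
  · obtain ⟨c, rfl⟩ := exists_idx h
    simp [bvec_idx, idx_inj.eq_iff, Pi.single_apply, eq_comm]
  · have := idx_lt a
    rw [bvec, dif_neg (by omega), dif_neg (by omega), if_neg (by simp; omega)]; rfl

theorem vm_zero : vm D F 0 = 0 := by ext; simp [vm]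

theorem vm_eq_sum (m : ℕ) : vm D F m = ∑ b ∈ Finset.range (D.nroots + D.rank),
    if m.testBit (b + 64) then bvec D F b else 0 := by
  ext a
  rw [Finset.sum_apply, Finset.sum_eq_single (idx D a)]
  · rw [bvec_idx, vm]; split_ifs <;> simp
  · intro b hb h
    obtain ⟨c, rfl⟩ := exists_idx (Finset.mem_range.1 hb)
    rw [bvec_idx]; split_ifs
    · exact Pi.single_eq_of_ne (fun e => h (by rw [e])) _
    · rfl
  · exact fun h => absurd (Finset.mem_range.2 (idx_lt a)) h

theorem tri_le {ms ps : List ℕ} (h : tri (D.nroots + D.rank) ms ps = true) (S : Submodule F (D.Idx → F))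
    (hS : ∀ m ∈ ms, vm D F m ∈ S) : ms.length ≤ Module.finrank F S := by
  induction ms generalizing ps S with
  | nil => exact Nat.zero_le _
  | cons m ms ih =>
    cases ps with
    | nil => cases h
    | cons p ps =>
      have h1 : (Nat.blt p (D.nroots + D.rank) && tb m (p + 64) && ms.all (fun m' => !tb m' (p + 64)) &&
        tri (D.nroots + D.rank) ms ps) = true := h
      simp only [Bool.and_eq_true, Nat.blt_eq, tb_eq, List.all_eq_true, Bool.not_eq_true'] at h1
      obtain ⟨a, rfl⟩ := exists_idx h1.1.1.1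
      refine Nat.succ_le_of_lt ((ih h1.2 (S ⊓ LinearMap.ker (LinearMap.proj a)) fun m' hm' =>
        ⟨hS m' (by simp [hm']), by simp [vm, h1.1.2 m' hm']⟩).trans_lt
        (Submodule.finrank_lt_finrank_of_lt (lt_of_le_of_ne inf_le_left fun e => ?_)))
      have := hS m (by simp)
      rw [← e] at this
      simpa [vm, h1.1.1.2] using this.2

variable [CharP F 2]

theorem vm_xor (a b : ℕ) : vm D F (Nat.xor a b) = vm D F a + vm D F b := by
  ext c
  change (if (a ^^^ b).testBit _ then _ else _) = _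
  rw [Nat.testBit_xor, Pi.add_apply, vm, vm]
  cases a.testBit (idx D c + 64) <;> cases b.testBit (idx D c + 64) <;> simp [CharTwo.add_self_eq_zero]

theorem int_cast_two (c : ℤ) : (c : F) = if c.natAbs &&& 1 = 0 then 0 else 1 := by
  rw [Nat.and_one_is_mod]
  split_ifs with h
  · exact (CharP.intCast_eq_zero_iff F 2 c).2 (by omega)
  · obtain ⟨k, rfl⟩ : ∃ k, c = 2 * k + 1 := ⟨c / 2, by omega⟩
    push_cast
    rw [CharTwo.two_eq_zero, zero_mul, zero_add]

theorem vm_msk (L : List Tm) : vm D F (msk L) = semL D 1 1 L := by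
  induction L with
  | nil => exact vm_zero
  | cons t L ih =>
    have : msk (t :: L) = cond (Nat.beq (t.2.2.2.natAbs &&& 1) 0) (msk L) (Nat.xor (msk L) (bit t.1)) := rfl
    rw [this, cond_beq, semL_cons, int_cast_two]
    split_ifs
    · simp [ih]
    · rw [vm_xor, vm_pow, ih, add_comm]; simp

theorem colA_sound (g : ℕ → ℕ) (n : ℕ) (acc : List (ℕ × ℕ)) (k : List (ℕ × ℕ) → Bool) (h : colA g n acc k = true) :
    ∃ cs, k cs = true ∧ ∀ m, vm D F (app cs m) =
      vm D F (app acc m) + ∑ b ∈ Finset.range n, if m.testBit (b + 64) then vm D F (g b) else 0 := by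
  induction n generalizing acc with
  | zero => exact ⟨acc, h, by simp⟩
  | succ n ih =>
    have h1 : cond (Nat.beq (g n) 0) (colA g n acc k) (colA g n ((n + 64, g n) :: acc) k) = true := h
    rw [cond_beq] at h1
    split_ifs at h1 with e
    · obtain ⟨cs, h2, h3⟩ := ih _ h1
      exact ⟨cs, h2, fun m => by rw [h3, Finset.sum_range_succ, e, vm_zero]; simp⟩
    · obtain ⟨cs, h2, h3⟩ := ih _ h1
      refine ⟨cs, h2, fun m => ?_⟩
      have : app ((n + 64, g n) :: acc) m = cond (tb m (n + 64)) (Nat.xor (app acc m) (g n)) (app acc m) := rfl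
      rw [h3, Finset.sum_range_succ, this, tb_eq]
      cases m.testBit (n + 64)
      · simp
      · simp only [cond_true, vm_xor, if_true]; abel

end

namespace Checked

variable {D : ChevalleyDatum} {C : Fast} (K : Checked D C) {F : Type*} [Field F] [CharP F 2]
include K

theorem colK_sound {r : ℕ} (hr : r < C.n) {k : List (ℕ × ℕ) → Bool} (h : C.colK r k = true) :
    ∃ cs, k cs = true ∧ ∀ m, vm D F (app cs m) = xN D F r 1 *ᵥ vm D F m := by
  obtain ⟨cs, h1, h2⟩ := colA_sound (D := D) (F := F) _ _ _ _ h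
  refine ⟨cs, h1, fun m => ?_⟩
  have h3 : vm D F (app [] m) = vm D F m := rfl
  rw [h2, h3, vm_eq_sum, Matrix.mulVec_sum, show Nat.add C.n C.l = D.nroots + D.rank by
    rw [← K.ok.n_eq, ← K.ok.l_eq]; rfl, ← Finset.sum_add_distrib]
  refine Finset.sum_congr rfl fun b hb => ?_
  split_ifs
  · have := (K.ok.act1_sound K.croot_lt (1 : F) 1 (r, 1, 0, 0) hr (b, 0, 0, 1)
      (by rw [K.ok.n_eq, K.ok.l_eq]; exact Finset.mem_range.1 hb)).1
    rw [← C.act1'_eq] at this
    rw [vm_xor, vm_msk, ← this, vm_pow, add_comm, add_assoc]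
    simp [semL, ← two_smul F (bvec D F b), CharTwo.two_eq_zero]
  · simp

theorem actM_sound {w ms : List ℕ} {k : List ℕ → Bool} (h : C.actM w ms k = true) :
    (∀ r ∈ w, r < D.nroots) ∧ ∃ f : ℕ → ℕ, k (ms.map f) = true ∧ ∀ m, vm D F (f m) = wm D F w *ᵥ vm D F m := by
  induction w generalizing k with
  | nil => exact ⟨by simp, id, by rw [List.map_id]; exact h, by simp [wm, wordR]⟩
  | cons r w ih =>
    have h1 : (Nat.blt r C.n && C.actM w ms fun ms' => C.colK r fun cs => mapF (app' (piv cs) cs) ms' k) = true := h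
    rw [Bool.and_eq_true, Nat.blt_eq] at h1
    obtain ⟨h2, f, h3, h4⟩ := ih h1.2
    obtain ⟨cs, h5, h6⟩ := K.colK_sound (F := F) h1.1 h3
    rw [mapF_eq, List.map_map] at h5
    refine ⟨List.forall_mem_cons.2 ⟨K.ok.n_eq ▸ h1.1, h2⟩, _, h5, fun m => ?_⟩
    rw [Function.comp, app'_eq, h6, h4, Matrix.mulVec_mulVec]
    simp [wm, wordR]

theorem eqW_sound {v w : List ℕ} (h : C.eqW v w = true) :
    (∀ r ∈ v, r < D.nroots) ∧ (∀ r ∈ w, r < D.nroots) ∧ wm D F v = wm D F w := by
  rw [Fast.eqW, mapF_eq] at h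
  obtain ⟨h1, f, h2, h3⟩ := K.actM_sound (F := F) h
  obtain ⟨h4, g, h5, h6⟩ := K.actM_sound (F := F) h2
  refine ⟨h1, h4, Matrix.ext fun a b => ?_⟩
  have h7 := List.map_inj_left.1 (eqL_sound h5) (bit (idx D b)) (List.mem_map_of_mem
    (List.mem_range.2 (by change _ < C.n + C.l; rw [K.ok.n_eq, K.ok.l_eq]; exact idx_lt b)))
  have h8 := (h3 _).symm.trans (h7 ▸ h6 _)
  rw [vm_pow, bvec_idx] at h8
  simpa using congrFun h8 a

theorem rkW_sound {w im ip ke kp : List ℕ} (h : C.rkW w im ip ke kp = true) :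
    (wm D F w - 1).rank = im.length := by
  have hn : Nat.add C.n C.l = D.nroots + D.rank := by rw [← K.ok.n_eq, ← K.ok.l_eq]; rfl
  simp only [Fast.rkW, Bool.and_eq_true, hn, beq_iff', mapF_eq, List.map_id] at h
  obtain ⟨⟨⟨h1, h2⟩, h3⟩, h4⟩ := h
  obtain ⟨-, f, h5, h6⟩ := K.actM_sound (F := F) h1
  obtain ⟨-, g, h7, h8⟩ := K.actM_sound (F := F) h2
  have e1 := tri_le h5 (LinearMap.range (wm D F w - 1).mulVecLin) fun m hm => by
    rw [List.zipWith_map_left, List.zipWith_self] at hm
    obtain ⟨a, -, rfl⟩ := List.mem_map.1 hm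
    exact ⟨vm D F a, by rw [vm_xor, h6, Matrix.mulVecLin_apply, Matrix.sub_mulVec, Matrix.one_mulVec]; exact funext fun _ => CharTwo.sub_eq_add _ _⟩
  have e2 := tri_le h3 (LinearMap.ker (wm D F w - 1).mulVecLin) fun m hm => by
    have := List.map_inj_left.1 ((eqL_sound h7).trans (List.map_id _).symm) m hm
    rw [LinearMap.mem_ker, Matrix.mulVecLin_apply, Matrix.sub_mulVec, Matrix.one_mulVec, ← h8, this, id, sub_self]
  have e3 := LinearMap.finrank_range_add_finrank_ker (wm D F w - 1).mulVecLin
  rw [Module.finrank_fintype_fun_eq_card, Fintype.card_sum, Fintype.card_fin, Fintype.card_fin] at e3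
  rw [List.length_zipWith, List.length_map, min_self] at e1
  have h4' : im.length + ke.length = D.nroots + D.rank := h4
  rw [Matrix.rank]
  omega

end Checked

theorem rank_conj {n F : Type*} [Fintype n] [DecidableEq n] [Field F] (g a : GL n F) :
    (((g * a * g⁻¹ : GL n F) : Matrix n n F) - 1).rank = ((a : Matrix n n F) - 1).rank := by
  rw [show ((g * a * g⁻¹ : GL n F) : Matrix n n F) - 1 = (g : Matrix n n F) * ((a : Matrix n n F) - 1) *
    ((g⁻¹ : GL n F) : Matrix n n F) by rw [mul_sub, sub_mul, mul_one, Units.mul_inv]; simp,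
    Matrix.rank_mul_eq_left_of_isUnit_det _ _ ((Matrix.isUnit_iff_isUnit_det _).1 (Units.isUnit _)),
    Matrix.rank_mul_eq_right_of_isUnit_det _ _ ((Matrix.isUnit_iff_isUnit_det _).1 (Units.isUnit _))]

end CfsgH6
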