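import Mathlib
import Cfsg.Agent.H6.Inv2
import Cfsg.Agent.H6.TwistM
import Cfsg.Agent.H6.FieldFix
import Cfsg.Agent.H6.Cent
import Cfsg.Agent.H6.Mask

/-! Certificates for the classes of involutions in characteristic two. -/

set_option autoImplicit false

namespace CfsgH6

open Cfsg.Lie

variable {D : ChevalleyDatum}

theorem conj_of_odd {Γ : Type*} [Group Γ] {m n : Γ} (hm : m * m = 1) (hn : n * n = 1) {o : ℕ} (ho : Odd o)
    (h : (m * n⁻¹) ^ o = 1) : ∃ k : ℕ, (m * n⁻¹) ^ k * n * ((m * n⁻¹) ^ k)⁻¹ = m := by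
  obtain ⟨k, rfl⟩ := ho
  have h1 : n * (m * n⁻¹)⁻¹ * n⁻¹ = m * n⁻¹ := by
    rw [mul_inv_rev, inv_inv, ← mul_assoc, hn, one_mul, inv_eq_of_mul_eq_one_right hm]
  refine ⟨k + 1, ?_⟩
  calc _ = (m * n⁻¹) ^ (k + 1) * (n * (m * n⁻¹)⁻¹ * n⁻¹) ^ (k + 1) * n := by rw [conj_pow, inv_pow]; group
    _ = (m * n⁻¹) ^ (2 * k + 1) * (m * n⁻¹) * n := by rw [h1, ← pow_add, ← pow_succ]; congr 2; ring
    _ = m := by rw [h]; group

theorem ncard_classes {Γ : Type*} [Group Γ] (H : Subgroup Γ) (Y : List Γ)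
    (h1 : ∀ t ∈ H, orderOf t = 2 → ∃ y ∈ Y, ∃ g ∈ H, g * t * g⁻¹ = y) (h2 : ∀ y ∈ Y, y ∈ H ∧ orderOf y = 2)
    (h3 : Y.Pairwise fun a b => ¬ ∃ g ∈ H, g * a * g⁻¹ = b) :
    (ConjClasses.mk '' {g : H | orderOf g = 2}).ncard = Y.length := by
  classical
  have e : ConjClasses.mk '' {g : H | orderOf g = 2} =
      ↑(Y.pmap (fun y h => ConjClasses.mk (⟨y, h⟩ : H)) fun y hy => (h2 y hy).1).toFinset := by
    ext c
    simp only [Set.mem_image, Set.mem_setOf_eq, Finset.mem_coe, List.mem_toFinset, List.mem_pmap]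
    constructor
    · rintro ⟨t, ht, rfl⟩
      obtain ⟨y, hy, g, hg, e⟩ := h1 t t.2 (by rwa [Subgroup.orderOf_coe])
      exact ⟨y, hy, (ConjClasses.mk_eq_mk_iff_isConj.2 (isConj_iff.2 ⟨⟨g, hg⟩, Subtype.ext e⟩)).symm⟩
    · rintro ⟨y, hy, rfl⟩
      exact ⟨_, by rw [← Subgroup.orderOf_coe]; exact (h2 y hy).2, rfl⟩
  rw [e, Set.ncard_coe_finset, List.toFinset_card_of_nodup, List.length_pmap]
  refine List.Pairwise.pmap h3 _ fun a ha b hb h e => h ?_
  obtain ⟨g, e⟩ := isConj_iff.1 (ConjClasses.mk_eq_mk_iff_isConj.1 e)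
  exact ⟨g, g.2, congrArg Subtype.val e⟩

/-- product of reflections -/
noncomputable def Good.rl (G : Good D) (L : List ℕ) : Equiv.Perm (Fin D.nroots) :=
  (L.map fun r => if h : r < D.nroots then G.rf ⟨r, h⟩ else 1).prod

theorem Good.rl_mem (G : Good D) (L : List ℕ) : G.rl L ∈ G.W := Subgroup.list_prod_mem _ fun w hw => by
  obtain ⟨r, -, rfl⟩ := List.mem_map.1 hw
  split_ifs
  exacts [G.rf_mem _, one_mem _]

theorem Good.rl_conj (G : Good D) (L M : List ℕ) : G.rl (L ++ M ++ L.reverse) = G.rl L * G.rl M * (G.rl L)⁻¹ := by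
  simp only [rl, List.map_append, List.prod_append, List.prod_inv_reverse, List.map_reverse, List.map_map]
  congr 3
  refine List.map_congr_left fun r _ => ?_
  simp only [Function.comp]
  split_ifs
  exacts [(inv_eq_of_mul_eq_one_right (G.rf_mul_self _)).symm, rfl]

namespace Cover

variable {G : Good D} {F : Type*} [Field F] {Γ : Type*} [Group Γ] (C : Cover G F Γ)

/-- `g` permutes the root elements -/
def Mon1 (g : Γ) (w : Equiv.Perm (Fin D.nroots)) : Prop := G.Lin w ∧ ∀ s u, g * C.x s u * g⁻¹ = C.x (w s) u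

theorem Mon1.mon {C : Cover G F Γ} {g : Γ} {w : Equiv.Perm (Fin D.nroots)} (h : C.Mon1 g w) : C.Mon g w :=
  ⟨h.1, 1, by simp, by simpa using h.2⟩

theorem Mon1.mul {C : Cover G F Γ} {g g' : Γ} {w w' : Equiv.Perm (Fin D.nroots)} (h : C.Mon1 g w)
    (h' : C.Mon1 g' w') : C.Mon1 (g * g') (w * w') :=
  ⟨h.1.mul h'.1, fun s u => by rw [Equiv.Perm.mul_apply, ← h.2, ← h'.2]; group⟩

theorem mon1_n [CharP F 2] (r : Fin D.nroots) : C.Mon1 (C.n r 1) (G.rf r) :=
  ⟨Good.lin_W (G.rf_mem r), fun s u => by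
    rw [C.n_conj r one_ne_zero]
    rcases G.η_eq r s with h | h <;> simp [h, CharTwo.neg_eq]⟩

theorem Mon1.eq_one {C : Cover G F Γ} (hπ : Function.Injective C.π) {g : Γ} (hg : g ∈ C.Gr) (h : C.Mon1 g 1) :
    g = 1 :=
  hπ ((C.π_eq_one_of_comm hg fun _ ha => C.US_induction (p := fun a => a * g = g * a) (by simp)
    (fun a _ r _ t e => by
      rw [mul_assoc, ← show g * C.x r t = C.x r t * g from mul_inv_eq_iff_eq_mul.1 (h.2 r t), ← mul_assoc, e,
        mul_assoc]) ha).trans (map_one _).symm)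

theorem HH_pow (hπ : Function.Injective C.π) [Fintype F] {k : Γ} (hk : k ∈ C.HH) : k ^ (Fintype.card F - 1) = 1 := by
  classical
  obtain ⟨-, c, hc⟩ := C.exists_hd hk
  have h1 : ∀ n : ℕ, (C.π (k ^ n) : Matrix D.Idx D.Idx F) = G.hd (c ^ n) := fun n => by
    induction n with
    | zero => simp [G.hd_one]
    | succ n ih => rw [pow_succ, map_mul, Units.val_mul, ih, hc, pow_succ, G.hd_mul]
  refine hπ (Units.ext ?_)
  rw [h1, show c ^ (Fintype.card F - 1) = 1 from funext fun i => by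
    rw [← Fintype.card_units]; exact pow_card_eq_one, G.hd_one, map_one, Units.val_one]

/-- a word in the elements `x_r(1)` -/
def xw (L : List ℕ) : Γ := wordG C.x (L.map fun r => (r, 1))

theorem xw_nil : C.xw [] = 1 := rfl

theorem xw_cons (r : Fin D.nroots) (L : List ℕ) : C.xw (r :: L) = C.x r 1 * C.xw L := by simp [xw, wordG]

theorem xw_one (r : Fin D.nroots) : C.xw [r] = C.x r 1 := by simp [xw, wordG]

theorem xw_append (L M : List ℕ) : C.xw (L ++ M) = C.xw L * C.xw M := by simp [xw, wordG]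

theorem xw_mem {S : Set (Fin D.nroots)} {L : List ℕ} (h : ∀ r : Fin D.nroots, (r : ℕ) ∈ L → r ∈ S) :
    C.xw L ∈ C.US S := C.word_mem fun r hr => h r (by simpa using hr)

end Cover

theorem Good.xw_val (G : Good D) (F : Type*) [Field F] (L : List ℕ) :
    (((G.gl F).xw L : GL D.Idx F) : Matrix D.Idx D.Idx F) = wm D F L := G.wordG_xG F _

theorem odd_card_two (F : Type*) [Field F] [Fintype F] [CharP F 2] : Odd (Fintype.card F - 1) := by
  obtain ⟨n, -, h⟩ := FiniteField.card F 2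
  exact Nat.Even.sub_odd Fintype.card_pos (h ▸ (Nat.even_pow.2 ⟨even_two, n.ne_zero⟩)) odd_one

namespace Twist

variable {G : Good D} {F : Type*} [Field F] {Γ : Type*} [Group Γ] {C : Cover G F Γ} {ι : Type} (T : Twist C ι)

/-- conjugacy in the twisted group -/
def Cj (a b : Γ) : Prop := ∃ g ∈ T.G1, g * a * g⁻¹ = b

theorem Cj.refl (a : Γ) : T.Cj a a := ⟨1, one_mem _, by simp⟩

variable {T} in
theorem Cj.symm {a b : Γ} (h : T.Cj a b) : T.Cj b a := by
  obtain ⟨g, hg, rfl⟩ := h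
  exact ⟨g⁻¹, inv_mem hg, by group⟩

variable {T} in
theorem Cj.trans {a b c : Γ} (h : T.Cj a b) (h' : T.Cj b c) : T.Cj a c := by
  obtain ⟨g, hg, rfl⟩ := h
  obtain ⟨g', hg', rfl⟩ := h'
  exact ⟨g' * g, mul_mem hg' hg, by group⟩

theorem R_xw {fρ : ℕ → ℕ} (hρ : ∀ r, (T.ρ r : ℕ) = fρ r) (hf : ∀ r, T.f r 1 = 1) {L : List ℕ}
    (h : ∀ r ∈ L, r < D.nroots) : (C.xw L, C.xw (L.map fρ)) ∈ T.R := by
  induction L with
  | nil => exact one_mem _
  | cons r L ih =>
    lift r to Fin D.nroots using h r (by simp)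
    rw [List.map_cons, ← hρ, C.xw_cons, C.xw_cons]
    exact R_mul (by simpa only [hf] using T.R_x r 1) (ih fun s hs => h s (by simp [hs]))

variable (hπ : Function.Injective C.π) [Fintype F] [CharP F 2]
include hπ

theorem mem_G1_of_sq {g : Γ} (hg : g ∈ T.Fix) (h : g * g = 1) : g ∈ T.G1 := by
  obtain ⟨u, -, hu, m, hm, hm', w, -, -, v, -, hv, e⟩ := T.canonical_fix hg
  obtain ⟨k, hk, hk', l, rfl⟩ := T.exists_H1_mul hm hm'
  have h1 : ∀ n : ℕ, (k ^ n)⁻¹ * g ^ n ∈ T.G1 := fun n => by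
    induction n with
    | zero => simp
    | succ n ih =>
      convert mul_mem (mul_mem (T.HH_conj_G1 (inv_mem hk) (inv_mem hk') (mul_mem ih hu)) (T.mon_wp l).2.1) hv using 1
      rw [pow_succ g, pow_succ k]; nth_rewrite 2 [e]; group
  have h2 := h1 (Fintype.card F - 1)
  obtain ⟨n, hn⟩ := odd_card_two F
  rwa [C.HH_pow hπ hk, hn, pow_succ, pow_mul, sq, h, one_pow, inv_one, one_mul, one_mul] at h2

theorem cj_of_mon {m n : Γ} (hm : m ∈ C.NN) (hm' : m ∈ T.G1) (hn : n ∈ C.NN) (hn' : n ∈ T.G1) (h1 : m * m = 1)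
    (h2 : n * n = 1) {w : Equiv.Perm (Fin D.nroots)} (h : C.Mon m w) (h' : C.Mon n w) : T.Cj n m := by
  obtain ⟨k, e⟩ := conj_of_odd h1 h2 (odd_card_two F) (C.HH_pow hπ (C.mul_inv_mem_HH hm hn h h'))
  exact ⟨_, pow_mem (mul_mem hm' (inv_mem hn')) k, e⟩

theorem cj_of_mon1 {m n : Γ} (hm : m ∈ C.NN) (hm' : m ∈ T.G1) (h1 : m * m = 1) (hn : n ∈ C.NN) (hn' : n ∈ T.Fix)
    {v w : Equiv.Perm (Fin D.nroots)} (hv : v ∈ T.W1) (h : C.Mon m (v * w * v⁻¹)) (h' : C.Mon1 n w) : T.Cj m n := by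
  obtain ⟨a, ha, ha', h3⟩ := T.exists_N1 hv
  have h4 := (h.mul h).unique (h1 ▸ C.mon_one)
  rw [conj_mul, conj_eq_one_iff] at h4
  have h2 : n * n = 1 := (h4 ▸ h'.mul h').eq_one hπ (C.NN_le_Gr (mul_mem hn hn))
  have h5 := T.mem_G1_of_sq hπ hn' h2
  exact (Cj.trans ⟨a, ha', rfl⟩ (T.cj_of_mon hπ hm hm' (mul_mem (mul_mem ha hn) (inv_mem ha))
    (mul_mem (mul_mem ha' h5) (inv_mem ha')) h1 (by rw [conj_mul, h2]; group) h
    ((h3.mul h'.mon).mul h3.inv))).symm

end Twist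

namespace Fast

variable (C : Fast)

/-- reflection in a root -/
def rfc (r s : ℕ) : ℕ :=
  cond (Nat.blt r C.n && Nat.blt s C.n) (match C.fpair r s with
    | .ofNat 0 => s
    | .ofNat (a + 1) => cond (Nat.beq s r) (C.rv r) ((C.croot (C.rv r) s (a + 1)).getD C.n)
    | .negSucc a => cond (Nat.beq s (C.rv r)) r ((C.croot r s (a + 1)).getD C.n)) C.n

/-- product of reflections -/
def rl (L : List ℕ) (s : ℕ) : ℕ := List.rec s (fun r _ ih => force r 0 fun r => force ih 0 (C.rfc r)) L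

/-- the word for a product of elements `n_r(1)` -/
def nword (L : List ℕ) : List ℕ := L.flatMap fun r => [r, C.rv r, r]

/-- positive root -/
def fpos (s : ℕ) : Bool := allBelow (fun k => decide (0 ≤ C.fvec s k)) C.l

/-- root with support in a set -/
def finJ (b s : ℕ) : Bool := allBelow (fun k => tb b k || decide (C.fvec s k = 0)) C.l

/-- the inversion set is the complement of a subsystem -/
def detJ (L : List ℕ) (b b' : ℕ) : Bool := allBelow (fun i => force (C.rl L (C.fsm i)) false fun s =>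
  Nat.blt s C.n && cond (tb b i) (C.fpos s && C.finJ b' s) (!C.fpos s && !C.finJ b' s)) C.l

variable (fρ : ℕ → ℕ)

/-- fixed word -/
def fixW (w : List ℕ) : Bool := w.all (fun r => Nat.blt r C.n) && (eqL (w.map fρ) w || C.eqW (w.map fρ) w)

/-- fixed element of the Weyl group -/
def w1 (L : List ℕ) : Bool := allBelow (fun i => force (C.rl L (fρ (C.fsm i))) false fun s =>
  force (C.rl L (C.fsm i)) false fun t => Nat.blt s C.n && Nat.blt t C.n && Nat.beq s (fρ t)) C.l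

/-- certificate for a set of nodes -/
def chkJ (reps : List (List ℕ)) (b : ℕ) (c : ℕ × List ℕ × ℕ × ℕ) : Bool :=
  cond (Nat.beq c.1 0) (Nat.blt c.2.2.1 C.l && Nat.blt c.2.2.2 C.l && Nat.beq (C.fsm c.2.2.2) (fρ (C.fsm c.2.2.1)) &&
      (tb b c.2.2.1 != tb b c.2.2.2))
    (cond (Nat.beq c.1 1) (C.detJ c.2.1 b c.2.2.1 && Nat.blt c.2.2.2 C.l &&
      force (C.rl (c.2.1 ++ c.2.1) (C.fsm c.2.2.2)) false fun s => Nat.blt s C.n && !Nat.beq s (C.fsm c.2.2.2))
    (C.w1 fρ c.2.1 && Nat.blt c.2.2.1 reps.length && C.detJ (c.2.1 ++ reps.getD c.2.2.1 [] ++ c.2.1.reverse) b b))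

/-- certificates for consecutive sets of nodes -/
def chkJs (reps : List (List ℕ)) (cs : List (ℕ × List ℕ × ℕ × ℕ)) : ℕ → Bool :=
  List.rec (fun _ => true) (fun c _ ih b => force b false fun b => C.chkJ fρ reps b c && ih (b + 1)) cs

/-- fixed unipotent blocks -/
def blk (gs : List (List ℕ)) : Bool := gs.all fun g => C.fixW fρ g && (g.all C.fpos || g.all fun r => !C.fpos r)

/-- conjugation by unipotent blocks -/
def chkE (A : List ℕ) (gs : List (List ℕ)) (B : List ℕ) : Bool :=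
  C.blk fρ gs && C.eqW (gs.flatten ++ A) (B ++ gs.flatten)

/-- a fixed involution and its rank -/
def chkY (y : List ℕ × List ℕ × List ℕ × List ℕ × List ℕ) : Bool :=
  C.fixW fρ y.1 && C.eqW (y.1 ++ y.1) [] && C.rkW y.1 y.2.1 y.2.2.1 y.2.2.2.1 y.2.2.2.2 && Nat.blt 0 y.2.1.length

/-- conjugation in the Weyl group -/
def chkW (M L M' : List ℕ) : Bool :=
  C.w1 fρ L && C.fixW fρ (C.nword M) && C.fixW fρ (C.nword M') && allBelow (fun i =>
    force (C.rl M (C.fsm i)) false fun s => Nat.blt s C.n && Nat.beq s (C.rl (L ++ M' ++ L.reverse) (C.fsm i)) &&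
      Nat.beq (C.rl (M ++ M) (C.fsm i)) (C.fsm i)) C.l

/-- a chain of conjugations -/
def path (Y : List (List ℕ)) (st : List (Bool × List (List ℕ) × List ℕ)) : List ℕ → Bool :=
  List.rec (fun A => Y.any (eqL A)) (fun s _ ih A => cond s.1 (C.chkE fρ A s.2.1 s.2.2 && ih s.2.2)
    (eqL A (C.nword (s.2.1.getD 0 [])) && C.chkW fρ (s.2.1.getD 0 []) (s.2.1.getD 1 []) s.2.2 &&
      ih (C.nword s.2.2))) st

/-- chains for all representatives -/
def paths (Y reps : List (List ℕ)) : List (List (Bool × List (List ℕ) × List ℕ)) → Bool :=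
  List.rec (fun _ => true) (fun M reps ih sts => match sts with
    | [] => false
    | st :: sts => C.fixW fρ (C.nword M) && C.path fρ (Y ++ reps.map C.nword) st (C.nword M) && ih sts) reps

theorem chkJs_sound {reps : List (List ℕ)} {cs : List (ℕ × List ℕ × ℕ × ℕ)} {a : ℕ} (h : C.chkJs fρ reps cs a = true)
    (b : ℕ) (h1 : a ≤ b) (h2 : b < a + cs.length) : ∃ c, C.chkJ fρ reps b c = true := by
  induction cs generalizing a with
  | nil => exact absurd h2 (by simpa using h1)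
  | cons c cs ih =>
    have h3 : (C.chkJ fρ reps a c && C.chkJs fρ reps cs (a + 1)) = true := h
    rw [Bool.and_eq_true] at h3
    rcases h1.eq_or_lt with rfl | h1
    · exact ⟨c, h3.1⟩
    · exact ih h3.2 h1 (by rw [List.length_cons] at h2; omega)

end Fast

namespace Checked

variable {C : Fast} (K : Checked D C)

theorem rfc_sound {r s : ℕ} (h : C.rfc r s < D.nroots) :
    ∃ (hr : r < D.nroots) (hs : s < D.nroots), (K.good.rf ⟨r, hr⟩ ⟨s, hs⟩ : ℕ) = C.rfc r s := by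
  unfold Fast.rfc at h ⊢
  cases h0 : (Nat.blt r C.n && Nat.blt s C.n)
  · rw [h0, cond_false, K.ok.n_eq] at h; exact absurd h (lt_irrefl _)
  rw [h0, cond_true] at h
  rw [cond_true]
  rw [Bool.and_eq_true, Nat.blt_eq, Nat.blt_eq, K.ok.n_eq] at h0
  refine ⟨h0.1, h0.2, ?_⟩
  lift r to Fin D.nroots using h0.1
  lift s to Fin D.nroots using h0.2
  have hA : K.good.A r s = C.fpair r s := (K.ok.fpair_eq r s).symm
  have key : ∀ (d : Fin D.nroots) (a : ℕ), (∀ i, ((a + 1 : ℕ) : ℤ) * K.good.vec d i = - K.good.A r s * K.good.vec r i) →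
      (C.croot d s (a + 1)).getD C.n < D.nroots → (K.good.rf r s : ℕ) = (C.croot d s (a + 1)).getD C.n := by
    intro d a h1 h2
    cases h3 : C.croot d s (a + 1) with
    | none => rw [h3, Option.getD_none, K.ok.n_eq] at h2; exact absurd h2 (lt_irrefl _)
    | some k =>
      obtain ⟨k, rfl, -, -, -, h4, -⟩ := K.good.entry_vec d s a k ((K.ok.croot_eq _ _ _).trans h3)
      exact congrArg _ (K.good.vec_inj fun i => by rw [K.good.rf_vec, h4, h1, one_mul])
  simp only [Fin.eta]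
  rcases h1 : C.fpair r s with (_ | a) | a <;> rw [h1] at h hA <;> simp only [cond_beq] at h ⊢
  · exact congrArg _ (K.good.vec_inj fun i => by rw [K.good.rf_vec, hA]; simp)
  · split_ifs at h ⊢ with e
    · rw [Fin.ext e, K.good.rf_self, K.ok.rv_eq]
    · rw [K.ok.rv_eq] at h ⊢
      exact key _ _ (fun i => by rw [hA, K.good.vec_rev, Int.ofNat_eq_natCast]; ring) h
  · split_ifs at h ⊢ with e
    · rw [K.ok.rv_eq] at e
      rw [Fin.ext e, K.good.rf_self_rev]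
    · exact key _ _ (fun i => by rw [hA, Int.negSucc_eq]; simp) h

theorem rl_sound {L : List ℕ} {s : Fin D.nroots} (h : C.rl L s < C.n) : (K.good.rl L s : ℕ) = C.rl L s := by
  rw [K.ok.n_eq] at h
  induction L with
  | nil => rfl
  | cons r L ih =>
    obtain ⟨hr, hs, e⟩ := K.rfc_sound (r := r) (s := C.rl L s) h
    refine Eq.trans ?_ e
    rw [Good.rl, List.map_cons, List.prod_cons, dif_pos hr, Equiv.Perm.mul_apply]
    congr 2
    exact Fin.ext (ih hs)

theorem fpos_iff (s : Fin D.nroots) : C.fpos s = true ↔ K.good.Pos s := by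
  simp only [Fast.fpos, allBelow_iff, decide_eq_true_eq, K.ok.l_eq]
  exact ⟨fun h i => h i i.2, fun h i hi => h ⟨i, hi⟩⟩

theorem finJ_iff (b : ℕ) (s : Fin D.nroots) : C.finJ b s = true ↔ K.good.InJ {i | b.testBit i} s := by
  simp only [Fast.finJ, allBelow_iff, Bool.or_eq_true, decide_eq_true_eq, K.ok.l_eq, tb_eq]
  exact ⟨fun h i hi => (h i i.2).resolve_left hi, fun h i hi => or_iff_not_imp_left.2 (h ⟨i, hi⟩)⟩

theorem detJ_sound {L : List ℕ} {b b' : ℕ} (h : C.detJ L b b' = true) (r : Fin D.nroots) (hr : K.good.Pos r) :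
    K.good.Pos (K.good.rl L r) ↔ K.good.InJ {i | b.testBit i} r := by
  simp only [Fast.detJ, allBelow_iff, force_eq, Bool.and_eq_true, Nat.blt_eq, K.ok.l_eq, tb_eq] at h
  refine (Good.lin_W (K.good.rl_mem L)).pos_iff_inJ (J' := {i | b'.testBit i}) (fun j hj => ?_) (fun j hj => ?_) hr <;>
  obtain ⟨h1, h2⟩ := h j j.2 <;> rw [← K.good_sm] at h1 h2 <;> rw [← K.rl_sound h1] at h2
  · rwa [show b.testBit j = true from hj, cond_true, Bool.and_eq_true, K.fpos_iff, K.finJ_iff] at h2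
  · rwa [show b.testBit j = false from Bool.eq_false_iff.2 hj, cond_false, Bool.and_eq_true, Bool.not_eq_true',
      Bool.not_eq_true', Bool.eq_false_iff, Bool.eq_false_iff, ne_eq, ne_eq, K.fpos_iff, K.finJ_iff] at h2

variable {F : Type*} [Field F] [CharP F 2]

theorem nword_sound {Γ : Type*} [Group Γ] (X : Cover K.good F Γ) {L : List ℕ} (h : ∀ r ∈ C.nword L, r < D.nroots) :
    X.xw (C.nword L) ∈ X.NN ∧ X.Mon1 (X.xw (C.nword L)) (K.good.rl L) := by
  induction L with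
  | nil => exact ⟨one_mem _, K.good.lin_one, by simp [Fast.nword, X.xw_nil, Good.rl]⟩
  | cons r L ih =>
    lift r to Fin D.nroots using h r (by simp [Fast.nword])
    have h1 : X.xw (C.nword (r :: L)) = X.n r 1 * X.xw (C.nword L) := by
      rw [Fast.nword, List.flatMap_cons, K.ok.rv_eq, List.cons_append, List.cons_append, List.cons_append,
        X.xw_cons, X.xw_cons, X.xw_cons, Cover.n, inv_one, CharTwo.neg_eq, mul_assoc, mul_assoc]; rfl
    obtain ⟨h2, h3⟩ := ih fun s hs => h s (List.mem_append_right _ hs)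
    rw [h1, Good.rl, List.map_cons, List.prod_cons, dif_pos r.2]
    exact ⟨mul_mem (X.n_mem_NN r one_ne_zero) h2, (X.mon1_n r).mul h3⟩

theorem eqW_xw {v w : List ℕ} (h : C.eqW v w = true) : (K.good.gl F).xw v = (K.good.gl F).xw w :=
  Units.ext (by rw [Good.xw_val, Good.xw_val, (K.eqW_sound h).2.2])

theorem rkW_xw {w im ip ke kp : List ℕ} (h : C.rkW w im ip ke kp = true) :
    ((((K.good.gl F).xw w : GL D.Idx F) : Matrix D.Idx D.Idx F) - 1).rank = im.length := by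
  rw [Good.xw_val, K.rkW_sound h]

variable {ι : Type} (T : Twist (K.good.gl F) ι) {fρ : ℕ → ℕ} (hρ : ∀ r, (T.ρ r : ℕ) = fρ r)
include hρ

omit [CharP F 2] in
theorem w1_sound {L : List ℕ} (h : C.w1 fρ L = true) : K.good.rl L ∈ T.W1 := by
  simp only [Fast.w1, allBelow_iff, force_eq, Bool.and_eq_true, Nat.blt_eq, K.ok.l_eq, beq_iff'] at h
  have h1 := K.good.rl_mem L
  refine T.mem_W1.2 ⟨h1, Good.eq_of_sm (Good.lin_W h1) (Good.lin_W (K.good.WJ_le _
    (T.conj_WJ (J := Set.univ) (fun _ _ => trivial) (K.good.WJ_univ ▸ h1)))) fun i => ?_⟩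
  obtain ⟨i, rfl⟩ := T.p.surjective i
  obtain ⟨⟨h2, h3⟩, h4⟩ := h i i.2
  rw [← K.good_sm] at h2 h3 h4
  rw [← hρ] at h2 h4
  rw [← K.rl_sound h2, ← K.rl_sound h3, ← hρ] at h4
  rw [← T.ρ_sm, Fin.ext h4]; simp

variable (hf : ∀ r, T.f r 1 = 1)
include hf

theorem fixW_sound {w : List ℕ} (h : C.fixW fρ w = true) :
    (∀ r ∈ w, r < D.nroots) ∧ (K.good.gl F).xw w ∈ T.Fix := by
  simp only [Fast.fixW, Bool.and_eq_true, List.all_eq_true, Nat.blt_eq, K.ok.n_eq, Bool.or_eq_true] at h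
  have h1 := T.R_xw hρ hf h.1
  refine ⟨h.1, h.2.elim (fun e => ?_) fun e => ?_⟩
  · rwa [eqL_sound e] at h1
  · rwa [K.eqW_xw e] at h1

theorem blk_sound {gs : List (List ℕ)} (h : C.blk fρ gs = true) : (K.good.gl F).xw gs.flatten ∈ T.G1 := by
  simp only [Fast.blk, Bool.and_eq_true, List.all_eq_true, Bool.or_eq_true, Bool.not_eq_true'] at h
  induction gs with
  | nil => exact one_mem _
  | cons g gs ih =>
    rw [List.flatten_cons, Cover.xw_append]
    refine mul_mem ?_ (ih fun a ha => h a (by simp [ha]))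
    obtain ⟨h2, h3 | h3⟩ := h g (by simp)
    · exact T.mem_G1_of_U (Cover.xw_mem _ fun r hr => (K.fpos_iff r).1 (h3 r hr)) (K.fixW_sound T hρ hf h2).2
    · exact T.mem_G1_of_V (Cover.xw_mem _ fun r hr e => by simpa [h3 r hr] using (K.fpos_iff r).2 e)
        (K.fixW_sound T hρ hf h2).2

theorem chkE_sound {A B : List ℕ} {gs : List (List ℕ)} (h : C.chkE fρ A gs B = true) :
    T.Cj ((K.good.gl F).xw A) ((K.good.gl F).xw B) := by
  rw [Fast.chkE, Bool.and_eq_true] at h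
  have h1 := K.eqW_xw (F := F) h.2
  rw [Cover.xw_append, Cover.xw_append] at h1
  exact ⟨_, K.blk_sound T hρ hf h.1, mul_inv_eq_iff_eq_mul.2 h1⟩

theorem chkY_sound [Fintype F] {y : List ℕ × List ℕ × List ℕ × List ℕ × List ℕ} (h : C.chkY fρ y = true) :
    ((K.good.gl F).xw y.1 ∈ T.G1 ∧ orderOf ((K.good.gl F).xw y.1) = 2) ∧
      ((((K.good.gl F).xw y.1 : GL D.Idx F) : Matrix D.Idx D.Idx F) - 1).rank = y.2.1.length := by
  simp only [Fast.chkY, Bool.and_eq_true, Nat.blt_eq] at h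
  have h1 := K.eqW_xw (F := F) h.1.1.2
  have h2 := K.rkW_xw (F := F) h.1.2
  rw [Cover.xw_append, Cover.xw_nil] at h1
  refine ⟨⟨T.mem_G1_of_sq (fun _ _ h => h) (K.fixW_sound T hρ hf h.1.1.1).2 h1,
    orderOf_eq_prime (by rw [sq, h1]) fun e => h.2.ne ?_⟩, h2⟩
  rw [← h2, e, Units.val_one, sub_self, Matrix.rank_zero]

theorem chkW_sound [Fintype F] {M L M' : List ℕ} (h : C.chkW fρ M L M' = true) :
    T.Cj ((K.good.gl F).xw (C.nword M)) ((K.good.gl F).xw (C.nword M')) := by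
  simp only [Fast.chkW, Bool.and_eq_true, allBelow_iff, force_eq, Nat.blt_eq, K.ok.l_eq, beq_iff'] at h
  obtain ⟨⟨⟨h1, h2⟩, h3⟩, h4⟩ := h
  obtain ⟨h5, h6⟩ := K.fixW_sound T hρ hf h2
  obtain ⟨h7, h8⟩ := K.fixW_sound T hρ hf h3
  obtain ⟨a1, a2⟩ := K.nword_sound (K.good.gl F) h5
  obtain ⟨a3, a4⟩ := K.nword_sound (K.good.gl F) h7
  have hl := fun L => Good.lin_W (K.good.rl_mem L)
  have e1 : K.good.rl M = K.good.rl (L ++ M' ++ L.reverse) := Good.eq_of_sm (hl _) (hl _) fun i => Fin.ext (by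
    obtain ⟨⟨b1, b2⟩, -⟩ := h4 i i.2
    rw [← K.good_sm] at b1 b2
    rw [K.rl_sound b1, K.rl_sound (b2 ▸ b1), b2])
  have e2 : K.good.rl (M ++ M) = 1 := Good.eq_of_sm (hl _) K.good.lin_one fun i => Fin.ext (by
    have b := (h4 i i.2).2
    rw [← K.good_sm] at b
    rw [K.rl_sound (by rw [b]; exact K.ok.lt_n _), b]; rfl)
  rw [Good.rl, List.map_append, List.prod_append] at e2
  have e3 := (e2 ▸ a2.mul a2 :).eq_one (fun _ _ h => h) ((K.good.gl F).NN_le_Gr (mul_mem a1 a1))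
  exact T.cj_of_mon1 (fun _ _ h => h) a1 (T.mem_G1_of_sq (fun _ _ h => h) h6 e3) e3 a3 h8 (K.w1_sound T hρ h1)
    (by rw [← K.good.rl_conj, ← e1]; exact a2.mon) a4

theorem path_sound [Fintype F] {Y : List (List ℕ)} {st : List (Bool × List (List ℕ) × List ℕ)} {A : List ℕ}
    (h : C.path fρ Y st A = true) : ∃ y ∈ Y, T.Cj ((K.good.gl F).xw A) ((K.good.gl F).xw y) := by
  induction st generalizing A with
  | nil =>
    obtain ⟨y, hy, e⟩ := List.any_eq_true.1 (show Y.any (eqL A) = true from h)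
    exact ⟨y, hy, eqL_sound e ▸ Twist.Cj.refl T _⟩
  | cons s st ih =>
    have h1 : cond s.1 (C.chkE fρ A s.2.1 s.2.2 && C.path fρ Y st s.2.2)
      (eqL A (C.nword (s.2.1.getD 0 [])) && C.chkW fρ (s.2.1.getD 0 []) (s.2.1.getD 1 []) s.2.2 &&
        C.path fρ Y st (C.nword s.2.2)) = true := h
    cases h2 : s.1 <;> simp only [h2, cond_true, cond_false, Bool.and_eq_true] at h1
    · obtain ⟨y, hy, e⟩ := ih h1.2
      exact ⟨y, hy, eqL_sound h1.1.1 ▸ (K.chkW_sound T hρ hf h1.1.2).trans e⟩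
    · obtain ⟨y, hy, e⟩ := ih h1.2
      exact ⟨y, hy, (K.chkE_sound T hρ hf h1.1).trans e⟩

theorem paths_sound [Fintype F] {Y reps : List (List ℕ)} {sts : List (List (Bool × List (List ℕ) × List ℕ))}
    (h : C.paths fρ Y reps sts = true) : ∀ M ∈ reps, C.fixW fρ (C.nword M) = true ∧
      ∃ y ∈ Y, T.Cj ((K.good.gl F).xw (C.nword M)) ((K.good.gl F).xw y) := by
  induction reps generalizing sts with
  | nil => simp
  | cons M reps ih =>
    cases sts with
    | nil => cases h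
    | cons st sts =>
      have h1 : (C.fixW fρ (C.nword M) && C.path fρ (Y ++ reps.map C.nword) st (C.nword M) &&
        C.paths fρ Y reps sts) = true := h
      simp only [Bool.and_eq_true] at h1
      refine List.forall_mem_cons.2 ⟨⟨h1.1.1, ?_⟩, ih h1.2⟩
      obtain ⟨y, hy, e⟩ := K.path_sound T hρ hf h1.1.2
      rcases List.mem_append.1 hy with hy | hy
      · exact ⟨y, hy, e⟩
      · obtain ⟨M', hM, rfl⟩ := List.mem_map.1 hy
        obtain ⟨y, hy, e'⟩ := (ih h1.2 M' hM).2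
        exact ⟨y, hy, e.trans e'⟩

/-- every involution is conjugate to one of the listed words -/
theorem inv_classes [Fintype F] {Y reps : List (List ℕ)} {sts : List (List (Bool × List (List ℕ) × List ℕ))}
    (h : C.paths fρ Y reps sts = true) (hc : ∀ b < 2 ^ D.rank, ∃ c, C.chkJ fρ reps b c = true)
    {t : GL D.Idx F} (ht : t ∈ T.G1) (h2 : t * t = 1) : ∃ y ∈ Y, T.Cj t ((K.good.gl F).xw y) := by
  classical
  obtain ⟨g, hg, hm, w, hw, h1, J, hJ⟩ := T.inv_conj ht h2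
  have h3 : g * t * g⁻¹ * (g * t * g⁻¹) = 1 := by rw [conj_mul, h2]; group
  obtain ⟨c, hc⟩ := hc _ (Nat.ofBits_lt_two_pow fun i : Fin D.rank => decide (i ∈ J))
  generalize hb : Nat.ofBits (fun i : Fin D.rank => decide (i ∈ J)) = b at hc
  obtain rfl : J = {i : Fin D.rank | b.testBit i} := Set.ext fun i => by
    rw [← hb, Set.mem_setOf_eq, Nat.testBit_ofBits_lt _ _ i.2, decide_eq_true_eq]
  have h4 : ∀ {L b'}, C.detJ L b b' = true → w = K.good.rl L := fun h => Good.eq_of_pos_iff hw.1 (K.good.rl_mem _)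
    fun r hr => (hJ r hr).trans (K.detJ_sound h r hr).symm
  simp only [Fast.chkJ, cond_beq] at hc
  split_ifs at hc <;> simp only [Bool.and_eq_true, Nat.blt_eq, K.ok.l_eq, beq_iff', force_eq, tb_eq, bne_iff_ne,
    Bool.not_eq_true', Bool.eq_false_iff, ne_eq] at hc
  · obtain ⟨⟨⟨a1, a2⟩, a3⟩, a4⟩ := hc
    have e : K.good.sm ⟨_, a2⟩ = K.good.sm (T.p ⟨_, a1⟩) := Fin.ext (by rw [← T.ρ_sm, hρ]; exact a3)
    have e' := T.cl_p ⟨_, a1⟩
    rw [← K.good.sm_inj e] at e'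
    have h5 := fun i => (hJ _ (K.good.pos_sm i)).trans K.good.inJ_sm
    exact absurd (Bool.eq_iff_iff.2 ⟨fun h => (h5 _).1 (T.same hw e'.symm ((h5 ⟨_, a1⟩).2 h)),
      fun h => (h5 _).1 (T.same hw e' ((h5 ⟨_, a2⟩).2 h))⟩) a4
  · obtain ⟨⟨a1, a2⟩, a3, a4⟩ := hc
    have h5 := K.rl_sound (s := K.good.sm ⟨_, a2⟩) a3
    rw [Good.rl, List.map_append, List.prod_append, ← Good.rl, ← h4 a1, (h1.mul h1).unique
      (h3 ▸ (K.good.gl F).mon_one)] at h5
    exact absurd h5.symm a4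
  · obtain ⟨⟨a1, a2⟩, a3⟩ := hc
    obtain ⟨a4, y, hy, a5⟩ := K.paths_sound T hρ hf h (reps.getD c.2.2.1 []) (by
      rw [List.getD_eq_getElem _ _ a2]; exact List.getElem_mem _)
    obtain ⟨a6, a7⟩ := K.fixW_sound T hρ hf a4
    obtain ⟨a8, a9⟩ := K.nword_sound (K.good.gl F) a6
    exact ⟨y, hy, (Twist.Cj.trans ⟨g, hg, rfl⟩ (T.cj_of_mon1 (fun _ _ h => h) hm
      (mul_mem (mul_mem hg ht) (inv_mem hg)) h3 a8 a7 (K.w1_sound T hρ a1)
      (by rw [← K.good.rl_conj, ← h4 a3]; exact h1) a9)).trans a5⟩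

theorem inv_classes' [Fintype F] {Y reps : List (List ℕ)} {sts : List (List (Bool × List (List ℕ) × List ℕ))}
    (h : C.paths fρ ([] :: Y) reps sts = true) (hc : ∀ b < 2 ^ D.rank, ∃ c, C.chkJ fρ reps b c = true) :
    ∀ t ∈ T.G1, orderOf t = 2 → ∃ y ∈ Y.map (K.good.gl F).xw, T.Cj t y := fun t ht h2 => by
  obtain ⟨y, hy, e⟩ := K.inv_classes T hρ hf h hc ht (by rw [← sq, ← h2, pow_orderOf_eq_one])
  rcases List.mem_cons.1 hy with rfl | hy
  · obtain ⟨g, -, e⟩ := e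
    rw [conj_eq_one_iff.1 e, orderOf_one] at h2
    cases h2
  · exact ⟨_, List.mem_map_of_mem hy, e⟩

theorem finals [Fintype F] {Y : List (List ℕ × List ℕ × List ℕ × List ℕ × List ℕ)} (h : ∀ y ∈ Y, C.chkY fρ y = true)
    {R : List ℕ → List ℕ → Prop} (hR : ∀ a b, R a b → ¬ T.Cj ((K.good.gl F).xw a) ((K.good.gl F).xw b))
    (h' : Y.Pairwise fun a b => a.2.1.length ≠ b.2.1.length ∨ R a.1 b.1) :
    (∀ y ∈ (Y.map Prod.fst).map (K.good.gl F).xw, y ∈ T.G1 ∧ orderOf y = 2) ∧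
      ((Y.map Prod.fst).map (K.good.gl F).xw).Pairwise fun a b => ¬ T.Cj a b := by
  rw [List.map_map, List.forall_mem_map, List.pairwise_map]
  refine ⟨fun y hy => (K.chkY_sound T hρ hf (h y hy)).1, h'.imp_of_mem fun {a b} ha hb e => e.elim ?_ (hR _ _)⟩
  rintro e ⟨g, -, e'⟩
  exact e (by rw [← (K.chkY_sound T hρ hf (h a ha)).2, ← (K.chkY_sound T hρ hf (h b hb)).2,
    ← show _ = (K.good.gl F).xw b.1 from e', rank_conj]; rfl)

end Checked

theorem three_classes {n F : Type*} [Fintype n] [DecidableEq n] [Field F] {H : Subgroup (GL n F)} {Y : List (GL n F)}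
    (h1 : ∀ t ∈ H, orderOf t = 2 → ∃ y ∈ Y, ∃ g ∈ H, g * t * g⁻¹ = y) (h2 : ∀ y ∈ Y, y ∈ H ∧ orderOf y = 2)
    (h3 : Y.Pairwise fun a b => ¬ ∃ g ∈ H, g * a * g⁻¹ = b) {M : List (Matrix n n F)} (hM : Y.map Units.val = M) :
    (∀ y : GL n F, (y : Matrix n n F) ∈ M → y ∈ H ∧ orderOf y = 2) ∧
    (∀ g ∈ H, orderOf g = 2 → ∃ y ∈ H, ((y : GL n F) : Matrix n n F) ∈ M ∧ ∃ h ∈ H, h * g * h⁻¹ = y) ∧
    (∀ y₁ ∈ H, ∀ y₂ ∈ H, ((y₁ : GL n F) : Matrix n n F) ∈ M → ((y₂ : GL n F) : Matrix n n F) ∈ M →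
      (∃ h ∈ H, h * y₁ * h⁻¹ = y₂) → ((y₁ : GL n F) : Matrix n n F) = ((y₂ : GL n F) : Matrix n n F)) := by
  subst hM
  simp only [List.mem_map_of_injective Units.val_injective]
  refine ⟨h2, fun g hg h => ?_, fun a _ b _ ha hb h => by_contra fun e => ?_⟩
  · obtain ⟨y, hy, e⟩ := h1 g hg h
    exact ⟨y, (h2 y hy).1, hy, e⟩
  · haveI : Std.Symm fun a b : GL n F => ¬ ∃ g ∈ H, g * a * g⁻¹ = b :=
      ⟨fun a b h ⟨g, hg, e⟩ => h ⟨g⁻¹, inv_mem hg, by rw [← e]; group⟩⟩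
    exact h3.forall ha hb (fun e' => e (by rw [e'])) h

/-- the trivial twist -/
def Good.tw1 (G : Good D) (F : Type*) [Field F] : Twist (G.gl F) (Fin D.rank) :=
  (G.gl F).fieldTw (RingHom.id F) (MonoidHom.id _) fun _ _ => rfl

theorem Good.tw1_G1 (G : Good D) (F : Type*) [Field F] : D.group F = (G.tw1 F).G1 := by
  rw [G.group_eq]
  refine le_antisymm ((G.gl F).US_le.2 fun r _ t => ?_) (G.tw1 F).G1_le_Gr
  by_cases h : G.Pos r
  exacts [(G.tw1 F).mem_G1_of_U ((G.gl F).x_mem_U h t) ((G.tw1 F).R_x r t),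
    (G.tw1 F).mem_G1_of_V ((G.gl F).x_mem_V h t) ((G.tw1 F).R_x r t)]

theorem Good.xw_val' (G : Good D) (F : Type*) [Field F] (L : List ℕ) :
    (((G.gl F).xw L : GL D.Idx F) : Matrix D.Idx D.Idx F) = (L.map fun r => D.x F r 1).prod := by
  simp [G.xw_val, wm, wordR, G.x_eq, Function.comp_def]

theorem TwD.f_one {G : Good D} {F : Type*} [Field F] [CharP F 2] {ι : Type} (X : TwD G F ι) (r : Fin D.nroots) :
    X.f r 1 = 1 := by
  rw [TwD.f, map_one, mul_one, MapD.fγ, cond_beq]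
  split_ifs <;> simp [CharTwo.neg_eq]

theorem Cover.not_conj_root {G : Good D} {F : Type*} [Field F] {Γ : Type*} [Group Γ] (C : Cover G F Γ) {p : ℤ}
    (hp : (p : F) = 0) {r s : Fin D.nroots} (hU : ∀ a, G.Pos a → Cm D p a r) (hs : G.Pos s) (hl : G.len r ≠ G.len s)
    {g : Γ} (hg : g ∈ C.Gr) : g * C.x r 1 * g⁻¹ ≠ C.x s 1 := fun e => by
  obtain ⟨u, hu, m, -, w, hw, h, v, hv, rfl⟩ := C.canonical' hg
  obtain ⟨c, hc, -⟩ := h.conj_n r
  obtain ⟨a, ha, e'⟩ := C.conj_x_eq G.nil_pos (inv_mem hu) hs 1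
  have h1 := (C.commute_US (fun a ha t => C.comm_of_cm hp (hU a ha) t 1) (C.invSet_le_U _ hv)).eq
  have h2 : C.x (w r) (c * 1) = C.x s 1 * a := by
    rw [← e', ← e, ← hc, show C.x r 1 = v * C.x r 1 * v⁻¹ by rw [h1]; group]; nth_rewrite 2 [h1]; group
  obtain ⟨i, hi⟩ := G.exists_cov_ne (R := F) s
  have h3 := G.nil_pos.pos s hs
  have h4 := congrArg (C.lc i s) h2
  rw [C.lc_mul G.nil_pos i h3 (C.x_mem (And.intro hs le_rfl) 1) (C.Um_le _ ha) (C.Um_anti (by omega) ha),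
    C.lc_eq_zero G.nil_pos i (by omega) (lt_add_one _) ha, C.lc_x, C.lc_x, if_pos rfl,
    if_neg fun e => hl (by rw [← e, Good.len_W hw])] at h4
  exact hi (by simpa using h4.symm)

end CfsgH6
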