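import Mathlib
import Cfsg.Agent.H6.MaxTor
import Cfsg.Agent.H1.SL2P

/-! The homomorphisms from `SL(2, F)` attached to the roots. -/

set_option autoImplicit false

namespace CfsgH6

open Cfsg.Lie CfsgH1
open scoped MatrixGroups

variable {D : ChevalleyDatum}

namespace Cover

variable {G : Good D} {F : Type*} [Field F] {Γ : Type*} [Group Γ] (C : Cover G F Γ)

theorem st2 (r : Fin D.nroots) : St2 (C.x r) (C.x r.rev) := ⟨C.add r, C.add r.rev, fun t ht u => by
  refine (C.n_conj r ht r u).trans ?_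
  rw [G.rf_self, G.η_self, G.A_self]
  congr 1
  simp [zpow_ofNat]; ring⟩

theorem exists_sl2 (h3 : C.R3) (r : Fin D.nroots) :
    ∃ φ : SL(2, F) →* Γ, (∀ t, φ (sU t) = C.x r t) ∧ ∀ t, φ (sL t) = C.x r.rev t :=
  (C.st2 r).exists_hom fun t u ht hu => by
    change C.n r t * C.n r u = C.h r (-t / u)
    rw [← neg_neg u, C.n_mul_n_neg, mul_inv_eq_iff_eq_mul, ← h3 r _ _ (by simp [ht, hu]) (by simpa using hu)]
    congr 1
    field_simp

variable {C} {r : Fin D.nroots} {φ : SL(2, F) →* Γ} (h1 : ∀ t, φ (sU t) = C.x r t) (h2 : ∀ t, φ (sL t) = C.x r.rev t)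
include h1 h2

theorem sl2_n (t : F) : φ (sW t) = C.n r t := by simp [sW, n, h1, h2]

theorem sl2_range : φ.range = C.US {r, r.rev} := by
  refine le_antisymm ?_ (C.US_le.2 ?_)
  · rintro _ ⟨g, rfl⟩
    exact (sl2_le_of (H := (C.US {r, r.rev}).comap φ) (fun t => by simpa [h1] using C.x_mem (by simp) t)
      fun t => by simpa [h2] using C.x_mem (by simp) t).ge (Subgroup.mem_top g)
  · rintro _ (rfl | rfl) t
    exacts [⟨_, h1 t⟩, ⟨_, h2 t⟩]

theorem sl2_neg : φ (-1) = C.h r (-1) := by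
  rw [h, ← sl2_n h1 h2, ← map_mul]
  congr 1
  ext i j
  fin_cases i <;> fin_cases j <;> simp [sl2_mul, sW_val]

theorem sl2_ker {g : SL(2, F)} (hg : φ g = 1) : g = 1 ∨ g = -1 := by
  have key : ∀ a t, C.x r a * C.x r t * (C.x r a)⁻¹ = C.x r t := fun a t => by
    rw [← C.add, add_comm, C.add, mul_inv_cancel_right]
  by_cases h : g.1 1 0 = 0
  · obtain ⟨h0, e⟩ := sl2_eq_of_zero h
    rw [e, map_mul, map_mul, sl2_n h1 h2, sl2_n h1 h2, h1, mul_eq_one_iff_inv_eq, ← C.x_neg] at hg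
    have h4 := C.h_conj r h0 r 1
    rw [Cover.h, ← hg, key, G.A_self, mul_one, zpow_ofNat] at h4
    have h6 : g.1 0 1 = 0 := by
      by_contra h6
      refine C.x_ne_one (r := r) (neg_ne_zero.2 (mul_ne_zero h0 h6)) ?_
      by_cases hr : G.Pos r
      exacts [C.eq_one_of_mem_HH G.nil_pos (C.x_mem hr _) (C.h_mem_HH r h0) (congrArg _ hg),
        C.eq_one_of_mem_HH G.nil_neg (C.x_mem hr _) (C.h_mem_HH r h0) (congrArg _ hg)]
    have h7 := sl2_det g
    rw [h, h6, mul_zero, sub_zero] at h7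
    rcases sq_eq_one_iff.1 (C.x_inj h4).symm with h8 | h8 <;> rw [h8] at h7
    · exact Or.inl (sl2_ext (by simp [h8]) (by simp [h6]) (by simp [h]) (by simpa using h7))
    · exact Or.inr (sl2_ext (by simp [h8]) (by simp [h6]) (by simp [h]) (by simpa [neg_eq_iff_eq_neg] using h7))
  · rw [sl2_eq_of_ne h, map_mul, map_mul, sl2_n h1 h2, h1, h1, mul_eq_one_iff_inv_eq, inv_eq_iff_mul_eq_one,
      ← mul_assoc, mul_eq_one_iff_eq_inv, ← eq_inv_mul_iff_mul_eq, ← C.x_neg, ← C.x_neg, ← C.add] at hg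
    have h4 := C.n_conj r (neg_ne_zero.2 (inv_ne_zero h)) r 1
    rw [hg, key, G.rf_self] at h4
    exact absurd (C.x_eq_of_π one_ne_zero (congrArg _ h4)).1.symm (G.rev_ne r)

theorem sl2_injective (h : C.h r (-1) = 1 → (-1 : F) = 1) : Function.Injective φ := by
  refine (injective_iff_map_eq_one φ).2 fun g hg => (sl2_ker h1 h2 hg).elim id ?_
  rintro rfl
  have := h (sl2_neg h1 h2 ▸ hg)
  exact sl2_ext (by simp [this]) (by simp) (by simp) (by simp [this])

end Cover

end CfsgH6
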