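import Mathlib
import Cfsg.Agent.H6.TorAll

/-! Steinberg endomorphisms of twisted type; a cyclic torus of the triality group. -/

set_option autoImplicit false

namespace CfsgH6

open Cfsg.Lie

variable {D : ChevalleyDatum}

namespace TwD

variable {G : Good D} {F : Type*} [Field F] {ι : Type} (X : TwD G F ι)

/-- the endomorphism of the Steinberg group -/
noncomputable def stEnd : D.SteinbergGroup F →* D.SteinbergGroup F :=
  G.stLift (X.H.rel (G.st F) G X.φ (fun r => X.m (X.M.fe r)) X.hp X.hm)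
    (X.H.rel3 (G.st F) (G.st_R3 F) (fun r => X.m (X.M.fe r)) fun r => by rw [X.H.e_rev])

theorem stEnd_x (r : Fin D.nroots) (t : F) : X.stEnd ((G.st F).x r t) = (G.st F).x (X.ρ r) (X.f r t) :=
  G.stLift_x _ _ r t

theorem f_eq (r : Fin D.nroots) (t : F) : X.f r t = X.M.fγ r * X.φ t ^ X.M.fe r := by rw [f, X.hm]

theorem stMap_stEnd {K : Type*} [Field K] {ι' : Type} (Y : TwD G K ι') (hM : Y.M = X.M) (j : F →+* K)
    (h : ∀ t, j (X.φ t) = Y.φ (j t)) (g : D.SteinbergGroup F) :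
    G.stMap j (X.stEnd g) = Y.stEnd (G.stMap j g) := by
  refine DFunLike.congr_fun (G.st_ext (φ := (G.stMap j).comp X.stEnd) (ψ := MonoidHom.comp Y.stEnd (G.stMap j))
    fun r t => ?_) g
  have : Y.ρ r = X.ρ r := Fin.ext (congrArg (fun M : MapD => M.fι r) hM)
  rw [MonoidHom.comp_apply, MonoidHom.comp_apply, stEnd_x, G.stMap_x, G.stMap_x, stEnd_x, f_eq, f_eq, this, hM]
  simp [h]

theorem stEnd_sm (i : Fin D.rank) (t : F) :
    X.stEnd ((G.st F).x (G.sm i) t) = (G.st F).x (G.sm (X.p i)) (X.m (X.M.fe (D.simple i)) t) := by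
  rw [stEnd_x, f_sm]; congr 1; exact X.H.ι_sm G G (X.hsm i).1

theorem stEnd_sm_rev (i : Fin D.rank) (t : F) :
    X.stEnd ((G.st F).x (G.sm i).rev t) = (G.st F).x (G.sm (X.p i)).rev (X.m (X.M.fe (D.simple i)) t) := by
  rw [stEnd_x, f_sm_rev]; congr 1; exact (X.H.ι_rev _).trans (congrArg _ (X.H.ι_sm G G (X.hsm i).1))

theorem stEnd_τ (c : Fin D.rank → Fˣ) : X.stEnd ((G.st_R3 F).τ c) = (G.st_R3 F).τ fun j =>
    Units.map (X.m (X.M.fe (D.simple (X.p⁻¹ j))) : F →* F) (c (X.p⁻¹ j)) := by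
  induction c using Pi.mulSingle_induction with
  | one => simp only [map_one, Pi.one_apply]; exact (map_one _).symm
  | mul a b ha hb => rw [map_mul, map_mul, ha, hb, ← map_mul]; exact congrArg _ (funext fun j => (map_mul _ _ _).symm)
  | mulSingle i t =>
    have : (fun j => Units.map (X.m (X.M.fe (D.simple (X.p⁻¹ j))) : F →* F) ((Pi.mulSingle i t : _ → Fˣ) (X.p⁻¹ j))) =
        Pi.mulSingle (X.p i) (Units.map (X.m (X.M.fe (D.simple i)) : F →* F) t) := by
      funext j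
      obtain ⟨j, rfl⟩ := X.p.surjective j
      by_cases h : j = i <;> simp [h]
    rw [this, Cover.R3.τ_single, Cover.R3.τ_single]
    simp [Cover.h, Cover.n, stEnd_sm, stEnd_sm_rev]

end TwD

/-- the twisting data over a perfect field -/
def YD4 {K : Type*} [Field K] (φ : K →+* K) (h : Function.Surjective φ) : TwD goodD4 K (Fin 2) where
  M := mapD4a
  H := okD4a
  φ := φ
  m _ := φ
  hm r t := by rw [feD4a, pow_one]
  hs _ := h
  hp := Int.cast_zero
  p := pD4
  hsm := smD4a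
  cl := clD4
  cl_surj := by decide +kernel
  cl_p := by decide +kernel
  cl_trans i j h := by
    have : ∀ i j, clD4 i = clD4 j → ∃ k < 3, (pD4 ^ k) i = j := by decide +kernel
    exact (this i j h).imp fun _ h => h.2

/-- a homomorphism as an element of the endomorphism monoid -/
def toEnd {Γ : Type*} [Group Γ] (σ : Γ →* Γ) : Monoid.End Γ := σ

theorem toEnd_pow {Γ : Type*} [Group Γ] (σ : Γ →* Γ) (n : ℕ) (g : Γ) : (toEnd σ ^ n) g = σ^[n] g := by
  rw [Monoid.End.coe_pow]; rfl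

theorem YD4_cube {K : Type*} [Field K] (φ : K →+* K) (h : Function.Surjective φ) :
    toEnd (YD4 φ h).stEnd ^ 3 = goodD4.stMap (φ ^ 3) := by
  have hp : ∀ i, pD4 (pD4 (pD4 i)) = i := by decide +kernel
  refine MonoidHom.ext fun g => (goodD4.st K).hom_ext_pm (φ := (toEnd (YD4 φ h).stEnd ^ 3 : Monoid.End _))
    (fun i t => ?_) (fun i t => ?_) (goodD4.mem_st g)
  · refine (toEnd_pow _ _ _).trans ?_
    simp only [Function.iterate_succ, Function.iterate_zero, Function.comp_apply, id, TwD.stEnd_sm, Good.stMap_x]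
    exact congrArg₂ _ (congrArg _ (hp i)) rfl
  · refine (toEnd_pow _ _ _).trans ?_
    simp only [Function.iterate_succ, Function.iterate_zero, Function.comp_apply, id, TwD.stEnd_sm_rev, Good.stMap_x]
    exact congrArg₂ _ (congrArg (fun i => (goodD4.sm i).rev) (hp i)) rfl

theorem exists_frob_ext {F : Type*} [Field F] [Fintype F] {q k : ℕ} (hq : IsPrimePow q) (hF : Fintype.card F = q ^ (k + 1))
    (K : Type*) [Field K] [IsAlgClosed K] [Algebra F K] :
    ∃ φ : K →+* K, (∀ t, φ t = t ^ q) ∧ Function.Surjective φ ∧ (q : K) = 0 := by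
  obtain ⟨p, n, hp, hn, rfl⟩ := (isPrimePow_nat_iff _).1 hq
  have h0 : (p : K) = 0 := by
    have := FiniteField.cast_card_eq_zero F
    rw [hF] at this
    push_cast at this
    rw [← map_natCast (algebraMap F K), pow_eq_zero_iff (by omega), pow_eq_zero_iff (by omega)] at *
    rw [this, map_zero]
  have := Fact.mk hp
  have : CharP K p := (CharP.charP_iff_prime_eq_zero hp).2 h0
  exact ⟨iterateFrobenius K p n, fun _ => rfl, (bijective_iterateFrobenius K p n).2, by simp [h0, hn.ne']⟩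

theorem torusD4 {F : Type*} [Field F] [Fintype F] {q : ℕ} (hq : IsPrimePow q) (hF : Fintype.card F = q ^ 3) :
    ∃ H : Subgroup (twistedD4 F q), IsCyclic H ∧ Nat.card H = (q ^ 3 - 1) * (q + 1) ∧
      Subgroup.centralizer (H : Set (twistedD4 F q)) = H := by
  obtain ⟨φ0, hφ0⟩ := exists_frob hq hF
  obtain ⟨x, hx⟩ := exists_generic F ((goodD4.posF ⊕ Fin chevD4.rank) ⊕ goodD4.posF)
  let K := goodD4.Kg F
  obtain ⟨φ, hφ, hs, h0⟩ := exists_frob_ext hq hF K
  have hτ := τ_injective_D4 K goodD4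
  have hq2 := hq.two_le
  have h1 := goodD4.stMap_range hτ (algebraMap F K) (φ ^ 3) fun t => by
    rw [ringHom_pow_apply hφ, ← hF, pow_card_iff]
  have h2 := fun g => (goodD4.st F).fmap_π (goodD4.st K) (goodD4.stMap_x (algebraMap F K)) (goodD4.mem_st g)
  have h3 := (XD4 φ0).stMap_stEnd (YD4 φ hs) rfl (algebraMap F K) fun t => by
    change algebraMap F K (φ0 t) = φ _
    rw [hφ, hφ0, map_pow]
  have h4 : ∀ y, (YD4 φ hs).stEnd y = y → y ∈ (goodD4.stMap (algebraMap F K)).range := fun y hy => by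
    rw [← h1, ← YD4_cube φ hs]
    exact (toEnd_pow _ _ _).trans (Function.iterate_fixed hy 3)
  set T := TD4 hφ0 hF _ (XD4 φ0).fn_st
  have h5 : ∀ g, g ∈ T.G1 ↔ (XD4 φ0).stEnd g = g := fun g => by
    rw [← T.mem_Fix_hom (XD4 φ0).stEnd (XD4 φ0).stEnd_x (goodD4.mem_st g), T.Fix_eq, sup_eq_left.2]
    rintro _ ⟨hk, hk'⟩
    obtain ⟨c, rfl⟩ := (goodD4.st_R3 F).exists_τ hk
    exact τD4 hφ0 hF _ _ _ ((T.τ_mem_Fix_iff _ (τ_injective_D4 F goodD4) (fun _ => φ0) (XD4 φ0).f_sm).1 hk')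
  have h6 : twistedD4 F q = T.G1.map (goodD4.st F).π := by
    rw [twistedD4_eq hφ0 hF, T.map_G1 (TD4g hφ0 hF) rfl rfl rfl]
  have h7 : ∀ c : Fin chevD4.rank → Kˣ, pw Kˣ (lm _ torD4.P) c = fun j => c (pD4⁻¹ j) := fun c => by
    have : MEq (lm _ torD4.P) (Matrix.of fun i j => if i = pD4⁻¹ j then 1 else 0) := by decide +kernel
    funext j
    simp [pw_apply, this _ _]
  refine Exists.imp (fun H ⟨e1, e2, e3⟩ => ?_) (torD4.exists_torus goodD4 torD4_ok (algebraMap F K) hτ (YD4 φ hs).stEnd h0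
    (fun c => ?_) (twistedD4 F q) (fun y => ⟨fun hy => ?_, ?_⟩) (fun y hy => ?_) (fun w => ?_)
    (N := (q ^ 3 - 1) * (q + 1)) (by rw [torD4_N]; push_cast [Nat.one_le_pow 3 q (by omega)]; ring) (torD4_reg hq2))
  · refine ((YD4 φ hs).stEnd_τ c).trans (congrArg _ ?_)
    rw [h7]
    exact funext fun i => Units.ext (hφ _)
  · obtain ⟨a, ha, rfl⟩ := h6 ▸ hy
    exact ⟨_, (h3 a).symm.trans (congrArg _ ((h5 a).1 ha)), h2 a⟩
  · rintro ⟨z, hz, e⟩
    obtain ⟨a, rfl⟩ := h4 _ hz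
    have : (goodD4.st F).π a = y := by
      rw [h2] at e
      ext i j
      exact (algebraMap F K).injective (congrArg (fun M : GL chevD4.Idx K => (M : Matrix _ _ K) i j) e)
    rw [h6]
    exact ⟨a, (h5 a).2 ((goodD4.st F).fmap_injective _ (goodD4.stMap_x _) (goodD4.st_R3 F) _ hτ (goodD4.st_Gr F)
      ((h3 a).trans hz)), this⟩
  · obtain ⟨a, rfl⟩ := h4 _ hy
    exact ⟨_, h2 a⟩
  · refine goodD4.lang_st hτ hx (toEnd (YD4 φ hs).stEnd) (fun τ g => (YD4 φ hs).stMap_stEnd (YD4 φ hs) rfl _ (fun t => ?_) g)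
      (goodD4.finite_fix_pow hτ (Nat.one_lt_pow (by omega) hq2) (ringHom_pow_apply hφ 3) (YD4_cube φ hs))
      (fun τ => (goodD4.st K).fmap_wp _ (goodD4.stMap_x _) w) three_pos
      ((DFunLike.congr_fun (YD4_cube φ hs) _).trans ((goodD4.st K).fmap_wp _ (goodD4.stMap_x _) w))
    change τ (φ t) = φ (τ t)
    rw [hφ, hφ, map_pow]
  · refine ⟨e1, ?_, e3⟩
    rw [← e2, eq_comm]
    refine mul_right_eq_self₀.2 (Or.inl (Nat.card_eq_one_iff_exists.2 ⟨⟨1, map_one _, by simp⟩, fun c => Subtype.ext ?_⟩))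
    obtain ⟨a1, a2, a3⟩ := ker_D4 c.1 c.2.1
    have a4 := c.2.2
    rw [h7] at a4
    have b2 : c.1 ⟨0, by decide⟩ ^ q = c.1 ⟨2, by decide⟩ := congrFun a4 ⟨2, by decide⟩
    have b3 : c.1 ⟨2, by decide⟩ ^ q = c.1 ⟨3, by decide⟩ := congrFun a4 ⟨3, by decide⟩
    have b0 : c.1 ⟨3, by decide⟩ ^ q = c.1 ⟨0, by decide⟩ := congrFun a4 ⟨0, by decide⟩
    have key : ∀ a b d : Kˣ, a ^ 2 = 1 → a * b = d → a ^ q = b → b ^ q = d → d ^ q = a → a = 1 ∧ b = 1 ∧ d = 1 := by
      intro a b d h1 h2 h3 h4 h5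
      have h6 : a ^ q = 1 ∨ a ^ q = a := by
        rw [pow_eq_pow_mod q h1]
        rcases Nat.mod_two_eq_zero_or_one q with h | h <;> simp [h]
      rcases h6 with h6 | h6
      · obtain rfl : b = 1 := h3.symm.trans h6
        obtain rfl : d = 1 := by simpa using h4.symm
        simpa using h5.symm
      · obtain rfl : b = a := h3.symm.trans h6
        obtain rfl : d = b := h4.symm.trans h6
        simpa using h2
    obtain ⟨k1, k2, k3⟩ := key _ _ _ a1 a3 b2 b3 b0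
    funext (i : Fin 4)
    fin_cases i
    exacts [k1, a2, k2, k3]

end CfsgH6
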