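import Mathlib
import Cfsg.Agent.H6.Borel
import Cfsg.Agent.H6.TorD4
import Cfsg.Agent.H6.Alcove

/-! Centralizers of semisimple elements in the simply connected group: the theorems of Steinberg and Lang. -/

set_option autoImplicit false

namespace CfsgH6

open Cfsg.Lie

variable {D : ChevalleyDatum}

theorem Good.cM_wp (G : Good D) (l : List (Fin D.rank)) : G.cM (wp G.σ l) = wM (cartanM D) l := by
  induction l with
  | nil => ext i j; simp [Good.cM, wM, G.cov_sm, Matrix.one_apply, eq_comm]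
  | cons a l ih =>
    rw [wM, ← ih]
    ext i j
    simp only [Good.cM, wp_cons, Equiv.Perm.mul_apply, Matrix.of_apply, G.cov_σ, Matrix.mul_apply, Sm, mul_sub,
      Finset.sum_sub_distrib, G.cartanM_apply]
    congr 1
    · simp
    · split_ifs
      · rw [← G.pr_cov]; rfl
      · simp

theorem Good.chr_pr (G : Good D) {F : Type*} [Field F] (z : Fˣ) (y : Fin D.rank → ℤ) (r : Fin D.nroots) :
    Good.chr (pw Fˣ (cartanM D) fun i => z ^ y i) (G.vec r) = z ^ G.pr y r := by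
  simp only [Good.chr, pw_apply, ← zpow_mul, prod_zpow_sum, G.cartanM_apply]
  rw [G.add_pr y r]
  simp [Good.pr, mul_comm]

theorem pw_zpow {A : Type*} [CommGroup A] {l : ℕ} (M : Matrix (Fin l) (Fin l) ℤ) (z : A) (y : Fin l → ℤ) :
    pw A M (fun i => z ^ y i) = fun j => z ^ Matrix.vecMul y M j := by
  funext j
  simp only [pw_apply, ← zpow_mul, prod_zpow_sum]
  rfl

theorem exists_zpow_eq {K : Type*} [Field K] [IsAlgClosed K] {n : ℕ} (hn : (n : K) ≠ 0) :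
    ∃ ζ : Kˣ, orderOf ζ = n ∧ ∀ a : Kˣ, a ^ n = 1 → ∃ y : ℤ, ζ ^ y = a := by
  have : NeZero (n : K) := ⟨hn⟩
  have : NeZero n := ⟨fun h => hn (by simp [h])⟩
  obtain ⟨ζ, hζ⟩ := HasEnoughRootsOfUnity.exists_primitiveRoot K n
  lift ζ to Kˣ using hζ.isUnit (NeZero.ne n)
  refine ⟨ζ, (IsPrimitiveRoot.coe_units_iff.1 hζ).eq_orderOf.symm, fun a ha => ?_⟩
  obtain ⟨i, -, e⟩ := hζ.eq_pow_of_pow_eq_one (ξ := (a : K)) (by rw [← Units.val_pow_eq_pow_val, ha, Units.val_one])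
  exact ⟨i, Units.ext (by simpa using e)⟩

namespace Cover

variable {G : Good D} {F : Type*} [Field F] {Γ : Type*} [Group Γ] (C : Cover G F Γ)

theorem mon_conj_τ (h3 : C.R3) {m : Γ} (hm : m ∈ C.NN) {w : Equiv.Perm (Fin D.nroots)} (h : C.Mon m w)
    (c : Fin D.rank → Fˣ) : m * h3.τ c * m⁻¹ = h3.τ (pw Fˣ (G.cM w) c) := by
  obtain ⟨k, hk, l, rfl⟩ := C.exists_HH_mul hm
  obtain rfl : w = wp G.σ l := h.unique (by simpa using (C.mon_HH hk).mul (C.mon_wp l))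
  rw [G.cM_wp, show k * wp C.ν l * h3.τ c * (k * wp C.ν l)⁻¹ = k * (wp C.ν l * h3.τ c * (wp C.ν l)⁻¹) * k⁻¹ by group,
    C.wp_conj_τ, h3.HH_comm hk (h3.τ_mem _), mul_inv_cancel_right]

/-- Steinberg's connectedness theorem -/
theorem conn [IsAlgClosed F] (h3 : C.R3) (hτ : Function.Injective h3.τ) {c : Fin D.rank → Fˣ} {n : ℕ}
    (hn : (n : F) ≠ 0) (hc : c ^ n = 1) {m : Γ} (hm : m ∈ C.NN) {w : Equiv.Perm (Fin D.nroots)} (hw : w ∈ G.W)
    (h : C.Mon m w) (e : h3.τ c * m * (h3.τ c)⁻¹ = m)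
    (hP : ∀ r, G.Pos r → Good.chr (pw Fˣ (cartanM D) c) (G.vec r) = 1 → G.Pos (w r)) : w = 1 := by
  obtain ⟨ζ, hζ, h1⟩ := exists_zpow_eq hn
  choose y hy using fun i => h1 (c i) (congrFun hc i)
  obtain rfl : c = fun i => ζ ^ y i := funext fun i => (hy i).symm
  have h2 := C.mon_conj_τ h3 hm h fun i => ζ ^ y i
  rw [← mul_inv_eq_iff_eq_mul.1 e, mul_inv_cancel_right, pw_zpow] at h2
  choose μ hμ using fun j => show (n : ℤ) ∣ Matrix.vecMul y (G.cM w) j - y j by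
    rw [← hζ, orderOf_dvd_sub_iff_zpow_eq_zpow]; exact (congrFun (hτ h2) j).symm
  refine (G.add_pr y).stab_eq_one (n := n) (by exact_mod_cast Nat.pos_of_ne_zero fun e => hn (by simp [e])) hw
    (Matrix.vecMul μ (G.cM w⁻¹)) (fun r => ?_) fun r hr h4 => hP r hr ?_
  · rw [← Good.pr_W hw, ← G.pr_smul, ← G.pr_add, ← Good.pr_vecMul hw y r]
    congr 1
    funext j
    simp [← hμ]
  · rw [G.chr_pr, ← orderOf_dvd_iff_zpow_eq_one, hζ]; exact h4

theorem exists_w0 (h3 : C.R3) {t : Γ} (ht : t ∈ C.HH) {c : Fin D.rank → Fˣ}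
    (hc : (C.π t : Matrix D.Idx D.Idx F) = G.hd c) : ∃ l, t * wp C.ν l * t⁻¹ = wp C.ν l ∧
      ∀ r, G.Pos r → Good.chr c (G.vec r) = 1 → ¬ G.Pos (wp G.σ l r) := by
  obtain ⟨w, ⟨hw, m, hm, h, e⟩, hmax⟩ := Set.exists_max_image
    {w | w ∈ G.W ∧ ∃ m ∈ C.NN, C.Mon m w ∧ t * m * t⁻¹ = m} G.N (Set.toFinite _)
    ⟨1, one_mem _, 1, one_mem _, C.mon_one, by group⟩
  obtain ⟨k, hk, l, rfl⟩ := C.exists_HH_mul hm
  obtain rfl : w = wp G.σ l := h.unique (by simpa using (C.mon_HH hk).mul (C.mon_wp l))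
  refine ⟨l, ?_, fun r hr h1 h2 => (hmax _ ⟨mul_mem hw (G.rf_mem r), _, mul_mem hm (C.n_mem_NN r one_ne_zero),
    h.mul (C.mon_n r one_ne_zero), ?_⟩).not_gt (Good.N_lt_rf hw hr h2)⟩
  · rwa [← mul_assoc, h3.HH_comm ht hk, mul_assoc, mul_assoc, mul_right_inj, ← mul_assoc] at e
  · rw [← C.conj_of_chr ht hc (S := {r, r.rev}) (by simp [h1, G.chr_rev]) (C.n_mem (by simp) (by simp) 1)]
    conv_rhs => rw [← e]
    rw [C.conj_of_chr ht hc (S := {r, r.rev}) (by simp [h1, G.chr_rev]) (C.n_mem (by simp) (by simp) 1)]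
    nth_rw 2 [← C.conj_of_chr ht hc (S := {r, r.rev}) (by simp [h1, G.chr_rev]) (C.n_mem (by simp) (by simp) 1)]
    group

theorem lang' {k K : Type*} [Field k] [Field K] [IsAlgClosed K] [Algebra k K] (C : Cover G K Γ) (h3 : C.R3)
    (hτ : Function.Injective h3.τ) {P : Finset (Fin D.nroots)} {x : (P ⊕ Fin D.rank) ⊕ P → K}
    (hx : IsTranscendenceBasis k x) (act : (K ≃ₐ[k] K) → Γ →* Γ)
    (hact : ∀ τ r u, act τ (C.x r u) = C.x r ((τ : K →+* K) u)) {c : Fin D.rank → Kˣ} {n : ℕ} (hn : (n : K) ≠ 0)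
    (hc : c ^ n = 1) (hP : ∀ r, r ∈ P ↔ G.Pos r ∧ Good.chr (pw Kˣ (cartanM D) c) (G.vec r) = 1) (σ : Γ →* Γ)
    (hσL : ∀ g ∈ C.Gr ⊓ Subgroup.centralizer {h3.τ c}, σ g ∈ C.Gr ⊓ Subgroup.centralizer {h3.τ c})
    (hσ : ∀ τ, ∀ g ∈ C.Gr, act τ (σ g) = σ (act τ g))
    {a : Γ} (ha : a ∈ C.Gr ⊓ Subgroup.centralizer {h3.τ c}) (haτ : ∀ τ, act τ a = a)
    (hf : {g | a * σ g * a⁻¹ = g}.Finite) (hf1 : {g | σ g = g}.Finite) :
    ∃ g ∈ C.Gr ⊓ Subgroup.centralizer {h3.τ c}, a = g * (σ g)⁻¹ := by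
  obtain ⟨l, h1, h2⟩ := C.exists_w0 h3 (h3.τ_mem c) (h3.π_τ c)
  refine C.lang h3 hτ hx act hact (h3.τ_mem c) (h3.π_τ c) hP l h1 (fun r hr => h2 r ((hP r).1 hr).1 ((hP r).1 hr).2)
    (fun m hm w hw h e h4 => ?_) σ hσL hσ ha haτ hf hf1
  have hw' := G.wp_mem l
  have e' : h3.τ c * ((wp C.ν l)⁻¹ * m) * (h3.τ c)⁻¹ = (wp C.ν l)⁻¹ * m := by
    conv_rhs => rw [← e, ← h1]
    group
  refine (inv_mul_eq_one.1 (C.conn h3 hτ hn hc (mul_mem (inv_mem (C.wp_ν_mem l)) hm) (mul_mem (inv_mem hw') hw)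
    ((C.mon_wp l).inv.mul h) e' fun r hr h5 => by_contra fun h6 => ?_)).symm
  have := h2 _ (G.pos_rev.2 h6) (by
    rw [G.chr_rev, ((C.mon_wp l).inv.mul h).chr_eq (h3.τ_mem c) (h3.π_τ c) e', h5, inv_one])
  rw [Good.rev_W hw', G.pos_rev, not_not, Equiv.Perm.mul_apply, perm_apply_inv] at this
  exact h4 r ((hP r).2 ⟨hr, h5⟩) this

end Cover

universe u

theorem Good.stMap_iter (G : Good D) {K : Type*} [Field K] (φ : K →+* K) (n : ℕ) (g : D.SteinbergGroup K) :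
    (G.stMap φ)^[n] g = G.stMap (φ ^ n) g := (toEnd_pow _ n g).symm.trans (G.stMap_pow φ n g)

theorem mem_range_of_pow {k K : Type*} [Field k] [Field K] [IsAlgClosed k] [Algebra k K] {t : K} {n : ℕ} (hn : 1 < n)
    (ht : t ^ n = t) : ∃ s, algebraMap k K s = t :=
  have : IsAlgebraic k t := ⟨Polynomial.X ^ n - Polynomial.X, FiniteField.X_pow_card_sub_X_ne_zero k hn, by
    rw [map_sub, map_pow, Polynomial.aeval_X, ht, sub_self]⟩
  minpoly.mem_range_of_degree_eq_one k t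
    (IsAlgClosed.degree_eq_one_of_irreducible k (minpoly.irreducible this.isIntegral))

/-- Frobenius endomorphisms over the algebraically closed extensions of `k` -/
structure Frob (G : Good D) (k : Type u) [Field k] where
  σ : ∀ (K : Type u) [Field K] [IsAlgClosed K] [Algebra k K], D.SteinbergGroup K →* D.SteinbergGroup K
  ρ : Fin D.nroots → Fin D.nroots
  γ : Fin D.nroots → ℤ
  e : Fin D.nroots → ℕ
  σ_x : ∀ (K : Type u) [Field K] [IsAlgClosed K] [Algebra k K] r t,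
    σ K ((G.st K).x r t) = (G.st K).x (ρ r) (γ r * t ^ e r)
  m : ℕ
  q : ℕ
  m_pos : 0 < m
  one_lt : 1 < q
  pow : ∀ (K : Type u) [Field K] [IsAlgClosed K] [Algebra k K], ∃ φ : K →+* K, (∀ t, φ t = t ^ q) ∧
    ∀ g, (σ K)^[m] g = G.stMap φ g
  alg : ∀ t : k, ∃ n, 0 < n ∧ t ^ q ^ n = t
  mem : D ∈ [chevG2, chevB2, chevD4, chevF4, chevE6, chevE7, chevE8]

namespace Frob

variable {G : Good D} {k : Type u} [Field k] [IsAlgClosed k] (X : Frob G k)

section
variable {K : Type u} [Field K] [IsAlgClosed K] [Algebra k K]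

omit [IsAlgClosed k] in
theorem comm {L : Type u} [Field L] [IsAlgClosed L] [Algebra k L] (j : K →+* L) (g : D.SteinbergGroup K) :
    G.stMap j (X.σ K g) = X.σ L (G.stMap j g) :=
  DFunLike.congr_fun (G.st_ext (φ := (G.stMap j).comp (X.σ K)) (ψ := MonoidHom.comp (X.σ L) (G.stMap j))
    fun r t => by simp [X.σ_x, G.stMap_x]) g

omit [IsAlgClosed k] in
theorem comm_pow {L : Type u} [Field L] [IsAlgClosed L] [Algebra k L] (j : K →+* L) (n : ℕ) (g : D.SteinbergGroup K) :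
    G.stMap j ((X.σ K)^[n] g) = (X.σ L)^[n] (G.stMap j g) :=
  Function.Semiconj.iterate_right (X.comm j) n g

omit [IsAlgClosed k] in
theorem fin (n : ℕ) (hn : 0 < n) : {g | (X.σ K)^[n] g = g}.Finite := by
  obtain ⟨φ, h1, h2⟩ := X.pow K
  simpa only [toEnd_pow] using G.finite_fix_pow (σ := toEnd (X.σ K)) (τ_injective_of_mem K X.mem G) X.one_lt h1
    (MonoidHom.ext fun g => (toEnd_pow _ _ g).trans (h2 g)) n hn

omit [IsAlgClosed k] in
theorem injective : Function.Injective (X.σ K) := by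
  obtain ⟨φ, -, h2⟩ := X.pow K
  obtain ⟨n, hn⟩ := Nat.exists_eq_add_one_of_ne_zero X.m_pos.ne'
  rw [hn, Function.iterate_succ] at h2
  exact Function.Injective.of_comp (f := (X.σ K)^[n]) (funext h2 ▸
    (G.st K).fmap_injective (G.st K) (G.stMap_x φ) (G.st_R3 K) (G.st_R3 K) (τ_injective_of_mem K X.mem G) (G.st_Gr K))

include X in
omit [IsAlgClosed k] [IsAlgClosed K] in
theorem map_injective : Function.Injective (G.stMap (algebraMap k K)) :=
  (G.st k).fmap_injective (G.st K) (G.stMap_x _) (G.st_R3 k) (G.st_R3 K) (τ_injective_of_mem K X.mem G) (G.st_Gr k)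

theorem mem_range {n : ℕ} (hn : 0 < n) {g : D.SteinbergGroup K} (h : (X.σ K)^[n] g = g) :
    g ∈ (G.stMap (algebraMap k K)).range := by
  obtain ⟨φ, h1, h2⟩ := X.pow K
  have : (X.σ K)^[n * X.m] g = g := by
    rw [Function.iterate_mul]; exact Function.IsFixedPt.iterate h X.m
  rw [mul_comm, Function.iterate_mul, funext h2, G.stMap_iter] at this
  refine (G.st K).fix_field_le (G.st_R3 K) (τ_injective_of_mem K X.mem G) (φ ^ n) _ (G.stMap_x _) (fun r t ht => ?_)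
    (G.mem_st g) this
  have h3 : 1 < X.q ^ n := Nat.one_lt_pow hn.ne' X.one_lt
  rw [ringHom_pow_apply h1] at ht
  obtain ⟨s, hs⟩ := mem_range_of_pow (k := k) h3 ht
  exact ⟨_, hs ▸ G.stMap_x _ r s⟩

theorem descent {a g : D.SteinbergGroup K} {M : ℕ} (hM : 0 < M) (ha : (X.σ K)^[M] a = a) (e : a = g * (X.σ K g)⁻¹) :
    g ∈ (G.stMap (algebraMap k K)).range := by
  have h1 : ∀ j, a = (X.σ K)^[M * j] g * (X.σ K ((X.σ K)^[M * j] g))⁻¹ := fun j => by
    have : (X.σ K)^[M * j] a = a := by rw [Function.iterate_mul]; exact Function.IsFixedPt.iterate ha j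
    rw [← this, ← Function.iterate_succ_apply' (X.σ K), Function.iterate_succ_apply, ← iterate_map_inv,
      ← iterate_map_mul, ← e]
  obtain ⟨i, -, j, -, hij, h⟩ := Set.infinite_univ.exists_lt_map_eq_of_mapsTo
    (f := fun j => g⁻¹ * (X.σ K)^[M * j] g) (fun j _ => show _ ∈ {g | (X.σ K)^[1] g = g} by
      rw [Set.mem_setOf_eq, Function.iterate_one, map_mul, map_inv, eq_comm, ← mul_inv_eq_iff_eq_mul, mul_assoc, ← h1, e]
      group) (X.fin 1 one_pos)
  obtain ⟨d, rfl⟩ := Nat.exists_eq_add_of_lt hij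
  refine X.mem_range (Nat.mul_pos hM d.succ_pos) (X.injective.iterate (M * i) ?_)
  exact ((mul_left_cancel h).trans (by rw [add_assoc, mul_add, Function.iterate_add_apply])).symm

end

theorem exists_pow (g : D.SteinbergGroup k) : ∃ M, 0 < M ∧ (X.σ k)^[M] g = g := by
  obtain ⟨φ, h1, h2⟩ := X.pow k
  have key : ∀ M j g, (X.σ k)^[M] g = g → (X.σ k)^[M * j] g = g := fun M j g h => by
    rw [Function.iterate_mul]; exact Function.IsFixedPt.iterate h j
  let S : Subgroup (D.SteinbergGroup k) :=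
    { carrier := {g | ∃ M, 0 < M ∧ (X.σ k)^[M] g = g}
      one_mem' := ⟨1, one_pos, map_one _⟩
      mul_mem' := fun ⟨M, hM, h⟩ ⟨N, hN, h'⟩ =>
        ⟨M * N, Nat.mul_pos hM hN, by rw [iterate_map_mul, key _ _ _ h, mul_comm M, key _ _ _ h']⟩
      inv_mem' := fun ⟨M, hM, h⟩ => ⟨M, hM, by rw [iterate_map_inv, h]⟩ }
  refine ((G.st k).US_le (K := S)).2 (fun r _ t => ?_) (G.mem_st g)
  obtain ⟨n, hn, e⟩ := X.alg t
  refine ⟨X.m * n, Nat.mul_pos X.m_pos hn, ?_⟩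
  rw [Function.iterate_mul, funext h2, G.stMap_iter, G.stMap_x, ringHom_pow_apply h1, e]

include X in
theorem isOfFinOrder (g : D.SteinbergGroup k) : IsOfFinOrder g := by
  obtain ⟨M, hM, h⟩ := X.exists_pow g
  let K : Subgroup _ := (toEnd (X.σ k) ^ M).eqLocus (MonoidHom.id _)
  have : Finite K := ((X.fin M hM).subset fun g hg => (toEnd_pow _ _ g).symm.trans hg).to_subtype
  exact MonoidHom.isOfFinOrder K.subtype (isOfFinOrder_of_finite (⟨g, (toEnd_pow _ _ g).trans h⟩ : K))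

/-- the theorem of Lang and Steinberg for centralizers of semisimple elements -/
theorem lang_cent {s : D.SteinbergGroup k} {n : ℕ} (hn : (n : k) ≠ 0) (hs : s ^ n = 1) (hσ : X.σ k s = s)
    {a : D.SteinbergGroup k} (ha : Commute a s) : ∃ g, Commute g s ∧ a = g * (X.σ k g)⁻¹ := by
  classical
  obtain ⟨y, hy⟩ := G.exists_conj_HH X.mem hn hs
  obtain ⟨c, hc⟩ := (G.st_R3 k).exists_τ hy
  have hcn : c ^ n = 1 := τ_injective_of_mem k X.mem G (by
    rw [map_pow, hc, map_one]; simpa [hs] using conj_pow (i := n) (a := y⁻¹) (b := s))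
  let P := Finset.univ.filter fun r => G.Pos r ∧ Good.chr (pw kˣ (cartanM D) c) (G.vec r) = 1
  obtain ⟨x, hx⟩ := exists_generic k ((P ⊕ Fin D.rank) ⊕ P)
  let K := AlgebraicClosure (FractionRing (MvPolynomial ((P ⊕ Fin D.rank) ⊕ P) k))
  let ι := G.stMap (algebraMap k K)
  let c' : Fin D.rank → Kˣ := fun i => Units.map (algebraMap k K : k →* K) (c i)
  have h1 : (G.st_R3 K).τ c' = (ι y)⁻¹ * ι s * ι y := by
    rw [← map_inv, ← map_mul, ← map_mul, ← hc]; exact ((G.st k).fmap_τ _ (G.stMap_x _) _ _ c).symm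
  have h2 : ∀ g, g ∈ (G.st K).Gr ⊓ Subgroup.centralizer {(G.st_R3 K).τ c'} ↔ Commute (ι y * g * (ι y)⁻¹) (ι s) :=
    fun g => by
      rw [Subgroup.mem_inf, and_iff_right (G.mem_st g), Subgroup.mem_centralizer_singleton_iff, h1]
      exact ⟨fun h => by simpa [mul_assoc] using (show Commute _ _ from h).map (MulAut.conj (ι y)),
        fun h => by simpa [mul_assoc] using (h.map (MulAut.conj (ι y)⁻¹)).eq⟩
  have h3 : ∀ (τ : K ≃ₐ[k] K) g, G.stMap (τ : K →+* K) (ι g) = ι g := fun τ g => by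
    rw [G.stMap_comp, show (τ : K →+* K).comp (algebraMap k K) = algebraMap k K from RingHom.ext τ.commutes]
  have h4 : ∀ g, X.σ K (ι g) = ι (X.σ k g) := fun g => (X.comm _ g).symm
  have h5 : ∀ b, {g | ι b * X.σ K g * (ι b)⁻¹ = g}.Finite := fun b => by
    obtain ⟨M, hM, e⟩ := X.exists_pow b
    exact finite_fix_twist (toEnd (X.σ K)) (by simpa only [toEnd_pow] using X.fin) hM
      (by rw [toEnd_pow, ← X.comm_pow, e])
  obtain ⟨g, hg, e⟩ := (G.st K).lang' (G.st_R3 K) (τ_injective_of_mem K X.mem G) hx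
    (fun τ => G.stMap (τ : K →+* K)) (fun τ => G.stMap_x _) (c := c') (n := n)
    (by rwa [← map_natCast (algebraMap k K), map_ne_zero])
    (funext fun i => by simpa [c'] using congrArg (Units.map (algebraMap k K : k →* K)) (congrFun hcn i))
    (fun r => by
      rw [Finset.mem_filter, and_iff_right (Finset.mem_univ _),
        ← map_eq_one_iff _ (Units.map_injective (f := (algebraMap k K : k →* K)) (algebraMap k K).injective)]
      simp [Good.chr, pw_apply, c'])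
    ((MulAut.conj (ι (y⁻¹ * X.σ k y))).toMonoidHom.comp (X.σ K))
    (fun g hg => (h2 _).2 (by simpa [h4, hσ, mul_assoc] using ((h2 g).1 hg).map (X.σ K)))
    (fun τ g _ => by simp [h3, X.comm]) (a := ι (y⁻¹ * a * y))
    ((h2 _).2 (by simpa [mul_assoc] using ha.map ι)) (fun τ => h3 τ _)
    (by simpa [mul_assoc] using h5 (y⁻¹ * a * y * (y⁻¹ * X.σ k y))) (by simpa [mul_assoc] using h5 (y⁻¹ * X.σ k y))
  have e' : ι a = ι y * g * (ι y)⁻¹ * (X.σ K (ι y * g * (ι y)⁻¹))⁻¹ := by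
    have : ι a = ι y * ι (y⁻¹ * a * y) * (ι y)⁻¹ := by simp [mul_assoc]
    rw [this, e]
    simp [h4, mul_assoc]
  obtain ⟨M, hM, e1⟩ := X.exists_pow a
  obtain ⟨g', hg'⟩ := X.descent hM (by rw [← X.comm_pow, e1]) e'
  refine ⟨g', Commute.of_map (f := ι) X.map_injective (hg' ▸ (h2 g).1 hg), X.map_injective (K := K) ?_⟩
  rw [map_mul, map_inv, X.comm, hg']
  exact e'

theorem lang (a : D.SteinbergGroup k) : ∃ g, a = g * (X.σ k g)⁻¹ :=
  (X.lang_cent (n := 1) (by simp) (pow_one _) (map_one _) (Commute.one_right a)).imp fun _ h => h.2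

/-- fixed semisimple elements conjugate in the algebraic group are conjugate in the finite group -/
theorem conj_fix {s : D.SteinbergGroup k} {n : ℕ} (hn : (n : k) ≠ 0) (hs : s ^ n = 1) (hσ : X.σ k s = s)
    {y : D.SteinbergGroup k} (h : X.σ k (y * s * y⁻¹) = y * s * y⁻¹) :
    ∃ g, X.σ k g = g ∧ g * s * g⁻¹ = y * s * y⁻¹ := by
  obtain ⟨g, hg, e⟩ := X.lang_cent hn hs hσ (a := y⁻¹ * X.σ k y) (by
    rw [map_mul, map_mul, map_inv, hσ] at h
    calc _ = y⁻¹ * (X.σ k y * s * (X.σ k y)⁻¹) * X.σ k y := by group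
      _ = _ := by rw [h]; group)
  refine ⟨y * g, ?_, by rw [mul_assoc y, hg.eq]; group⟩
  rw [map_mul, ← inv_mul_eq_iff_eq_mul, ← mul_assoc, e]; group

theorem exists_fix {t y : D.SteinbergGroup k} (h : X.σ k t = y * t * y⁻¹) : ∃ g, X.σ k (g * t * g⁻¹) = g * t * g⁻¹ := by
  obtain ⟨g, e⟩ := X.lang y⁻¹
  refine ⟨g⁻¹, ?_⟩
  rw [map_mul, map_mul, map_inv, map_inv, map_inv, h, e, ← inv_inv y, e]; group

end Frob

end CfsgH6
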