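import Mathlib
import Cfsg.Agent.H6.SS

/-! Steinberg's count of the semisimple classes. -/

set_option autoImplicit false

namespace CfsgH6

open Cfsg.Lie

variable {D : ChevalleyDatum}

theorem card_ker_pw_det {K : Type*} [Field K] [IsAlgClosed K] {l : ℕ} {M : Matrix (Fin l) (Fin l) ℤ}
    (h : ((M.det : ℤ) : K) ≠ 0) : Nat.card (pw Kˣ M).ker = M.det.natAbs := by
  have h0 : M.det ≠ 0 := fun e => h (by simp [e])
  let f := Matrix.toLin' M
  have hf : Function.Injective f := by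
    rw [← LinearMap.ker_eq_bot, Matrix.ker_toLin'_eq_bot_iff]
    exact fun v hv => Matrix.eq_zero_of_mulVec_eq_zero h0 hv
  have h1 : M.det.natAbs = Nat.card ((Fin l → ℤ) ⧸ f.range) := by
    rw [← Submodule.natAbs_det_equiv _ (LinearEquiv.ofInjective f hf), ← LinearMap.det_toLin' M]
    congr 2
  let Q := Multiplicative ((Fin l → ℤ) ⧸ f.range)
  have hQ : Nat.card Q = M.det.natAbs := h1.symm
  have : Finite Q := Nat.finite_of_card_ne_zero (hQ ▸ Int.natAbs_ne_zero.2 h0)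
  have : NeZero ((Monoid.exponent Q : ℕ) : K) := ⟨fun e => h (by
    obtain ⟨c, hc⟩ := Group.exponent_dvd_nat_card (G := Q)
    have : ((M.det.natAbs : ℕ) : K) = 0 := by rw [← hQ, hc, Nat.cast_mul, e, zero_mul]
    rcases Int.natAbs_eq M.det with e | e <;> rw [e] <;> simp only [Int.cast_neg, Int.cast_natCast, this, neg_zero])⟩
  rw [← hQ, ← CommGroup.card_monoidHom_of_hasEnoughRootsOfUnity Q K]
  have key : ∀ (χ : Q →* Kˣ) (v : Fin l → ℤ), χ (Multiplicative.ofAdd (f.range.mkQ v)) =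
      ∏ i, χ (Multiplicative.ofAdd (f.range.mkQ (Pi.single i 1))) ^ v i := fun χ v => by
    have : v = ∑ i, v i • (Pi.single i 1 : Fin l → ℤ) := by ext j; simp [Pi.single_apply]
    conv_lhs => rw [this, map_sum, ofAdd_sum, map_prod]
    exact Finset.prod_congr rfl fun i _ => by rw [map_zsmul, ofAdd_zsmul]; exact map_zpow χ _ _
  refine (Nat.card_congr (Equiv.ofBijective (fun χ : Q →* Kˣ => (⟨fun i =>
    χ (Multiplicative.ofAdd (f.range.mkQ (Pi.single i 1))), funext fun j => ?_⟩ : (pw Kˣ M).ker))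
    ⟨fun χ χ' e => MonoidHom.ext fun a => ?_, fun c => ?_⟩)).symm
  · rw [pw_apply, ← key χ fun i => M i j, Submodule.mkQ_apply, (Submodule.Quotient.mk_eq_zero f.range).2
      ⟨Pi.single j 1, by ext; simp [f]⟩]
    exact map_one χ
  · obtain ⟨v, hv⟩ := f.range.mkQ_surjective a.toAdd
    rw [← ofAdd_toAdd a, ← hv, key, key]
    exact Finset.prod_congr rfl fun i _ => congrArg (· ^ v i) (congrFun (congrArg Subtype.val e) i)
  · let g : (Fin l → ℤ) →ₗ[ℤ] Additive Kˣ := Fintype.linearCombination ℤ fun i => Additive.ofMul (c.1 i)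
    have hg : f.range ≤ g.ker := by
      rintro _ ⟨v, rfl⟩
      have : ∀ j, ∑ i, M i j • Additive.ofMul (c.1 i) = 0 := fun j => by
        simpa [pw_apply] using congrArg Additive.ofMul (congrFun c.2 j)
      simp only [LinearMap.mem_ker, g, f, Fintype.linearCombination_apply, Matrix.toLin'_apply, Matrix.mulVec,
        dotProduct, Finset.sum_smul]
      rw [Finset.sum_comm]
      refine Finset.sum_eq_zero fun j _ => ?_
      simp only [mul_comm _ (v j), mul_smul]
      exact (map_sum (zsmulAddGroupHom (α := Additive Kˣ) (v j)) _ _).symm.trans (by rw [this, map_zero])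
    refine ⟨AddMonoidHom.toMultiplicativeLeft (f.range.liftQ g hg).toAddMonoidHom, Subtype.ext (funext fun i => ?_)⟩
    change Additive.toMul (g (Pi.single i 1)) = _
    simp [g, Fintype.linearCombination_apply_single]

theorem det_pos_of_pow {l : ℕ} {M : Matrix (Fin l) (Fin l) ℤ} {n : ℕ} (hn : 0 < n) (h : M ^ n = 1) {q : ℤ}
    (hq : 1 < q) : 0 < (q • (1 : Matrix (Fin l) (Fin l) ℤ) - M).det := by
  let N := (Int.castRingHom ℝ).mapMatrix M
  have hN : N ^ n = 1 := by rw [← map_pow, h, map_one]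
  let g : ℝ → ℝ := fun s => ((q : ℝ) • (1 : Matrix (Fin l) (Fin l) ℝ) - s • N).det
  have hg : Continuous g := by fun_prop
  have h1 : g 1 = (q • (1 : Matrix (Fin l) (Fin l) ℤ) - M).det := by
    rw [Int.cast_det]
    refine congrArg Matrix.det ?_
    ext i j
    simp [N, Matrix.one_apply, Matrix.intCast_apply]
  have hq' : (1 : ℝ) < q := by exact_mod_cast hq
  by_contra h0
  obtain ⟨s, hs, e⟩ := intermediate_value_Icc' zero_le_one hg.continuousOn (show (0 : ℝ) ∈ _ from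
    ⟨by rw [h1]; exact_mod_cast not_lt.1 h0, by simp [g]; positivity⟩)
  obtain ⟨v, hv, e⟩ := Matrix.exists_mulVec_eq_zero_iff.2 e
  have h2 : ∀ k : ℕ, (q : ℝ) ^ k • v = s ^ k • (N ^ k).mulVec v := fun k => by
    induction k with
    | zero => simp
    | succ k ih =>
      rw [Matrix.sub_mulVec, Matrix.smul_mulVec, Matrix.smul_mulVec, Matrix.one_mulVec, sub_eq_zero] at e
      rw [pow_succ, mul_smul, e, smul_comm, ← Matrix.mulVec_smul, ih, Matrix.mulVec_smul, Matrix.mulVec_mulVec,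
        smul_smul, ← pow_succ', ← pow_succ']
  have := h2 n
  rw [hN, Matrix.one_mulVec, ← sub_eq_zero, ← sub_smul, smul_eq_zero, sub_eq_zero] at this
  exact (pow_lt_pow_left₀ (hs.2.trans_lt hq') hs.1 hn.ne').ne' (this.resolve_right hv)

theorem card_stable {W T : Type*} [Group W] [Fintype W] [MulAction W T] (f : T → T) (S : SubMulAction W T)
    (hS : ∀ t, t ∈ S ↔ ∃ w : W, w • t = f t) (hf : ∀ w : W, {t | w • t = f t}.Finite) :
    Nat.card (MulAction.orbitRel.Quotient W S) * Nat.card W = ∑ w : W, Nat.card {t | w • t = f t} := by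
  have := fun w => (hf w).to_subtype
  rw [← Nat.card_prod, ← Nat.card_congr (MulAction.sigmaFixedByEquivOrbitsProdGroup W S), ← Nat.card_sigma]
  choose v hv using fun t : S => (hS t).1 t.2
  refine Nat.card_congr (Equiv.ofBijective (fun p => ⟨v p.2 * p.1, p.2.1, ?_⟩) ⟨?_, ?_⟩)
  · rw [Set.mem_setOf_eq, mul_smul, ← hv]
    exact congrArg _ (congrArg Subtype.val p.2.2)
  · rintro ⟨a, t, ht⟩ ⟨b, s, hs⟩ e
    obtain rfl : t = s := Subtype.ext (congrArg (fun p : Σ w : W, {t | w • t = f t} => p.2.1) e)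
    obtain rfl : a = b := mul_left_cancel (congrArg Sigma.fst e)
    rfl
  · rintro ⟨w, t, ht⟩
    let s : S := ⟨t, (hS t).2 ⟨w, ht⟩⟩
    refine ⟨⟨(v s)⁻¹ * w, s, Subtype.ext ?_⟩, Sigma.subtype_ext (mul_inv_cancel_left _ _) rfl⟩
    change ((v s)⁻¹ * w) • t = t
    rw [mul_smul, ht, inv_smul_eq_iff]
    exact (hv s).symm

theorem card_eq_of_rel {A B : Type*} (R : A → B → Prop) (h1 : ∀ a, ∃ b, R a b) (h2 : ∀ b, ∃ a, R a b)
    (h3 : ∀ a a' b b', R a b → R a' b' → (a = a' ↔ b = b')) : Nat.card A = Nat.card B := by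
  choose f hf using h1
  refine Nat.card_congr (Equiv.ofBijective f ⟨fun a a' e => (h3 _ _ _ _ (hf a) (hf a')).2 e, fun b => ?_⟩)
  obtain ⟨a, ha⟩ := h2 b
  exact ⟨a, (h3 _ _ _ _ (hf a) ha).1 rfl⟩

theorem alg_pow {F k : Type*} [Field F] [Fintype F] [Field k] [Algebra F k] [Algebra.IsAlgebraic F k] (t : k) :
    ∃ n, 0 < n ∧ t ^ Fintype.card F ^ n = t := by
  let E := IntermediateField.adjoin F {t}
  have : FiniteDimensional F E := IntermediateField.adjoin.finiteDimensional (Algebra.IsIntegral.isIntegral t)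
  have : Finite E := Module.finite_of_finite F
  let := Fintype.ofFinite E
  refine ⟨Module.finrank F E, Module.finrank_pos, ?_⟩
  rw [← Module.card_eq_pow_finrank]
  exact congrArg Subtype.val (FiniteField.pow_card (IntermediateField.AdjoinSimple.gen F t))

theorem coprime_orderOf {k ι : Type*} [Field k] (p : ℕ) [Fact p.Prime] [CharP k p] {c : ι → kˣ} (h : IsOfFinOrder c) :
    (orderOf c).Coprime p := by
  refine ((Nat.Prime.coprime_iff_not_dvd Fact.out).2 fun e => ?_).symm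
  have h1 := orderOf_pow_orderOf_div h.orderOf_pos.ne' e
  have h2 : c ^ (orderOf c / p) = 1 := funext fun i => Units.ext (frobenius_inj k p (by
    rw [frobenius_def, frobenius_def, ← Units.val_pow_eq_pow_val, ← Pi.pow_apply, orderOf_dvd_iff_pow_eq_one.1 h1.dvd]; simp))
  rw [h2, orderOf_one] at h1
  exact (Fact.out : p.Prime).one_lt.ne h1

namespace Good

variable {G : Good D}

theorem cM_mul {v w : Equiv.Perm (Fin D.nroots)} (hv : v ∈ G.W) (hw : w ∈ G.W) : G.cM (v * w) = G.cM w * G.cM v := by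
  obtain ⟨a, rfl⟩ := G.exists_wp hv
  obtain ⟨b, rfl⟩ := G.exists_wp hw
  rw [← wp_append, G.cM_wp, G.cM_wp, G.cM_wp]
  clear hv
  induction a with
  | nil => simp [wM]
  | cons x a ih => simp [wM, ih, mul_assoc]

variable (G)

theorem cM_one : G.cM 1 = 1 := G.cM_wp []

theorem cM_σ (i : Fin D.rank) : G.cM (G.σ i) = Sm (cartanM D) i := by
  simpa [wM] using G.cM_wp [i]

theorem cM_pow {w : Equiv.Perm (Fin D.nroots)} (hw : w ∈ G.W) (n : ℕ) : G.cM (w ^ n) = G.cM w ^ n := by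
  induction n with
  | zero => exact G.cM_one
  | succ n ih => rw [pow_succ', cM_mul hw (pow_mem hw n), ih, pow_succ]

theorem det_pos {w : Equiv.Perm (Fin D.nroots)} (hw : w ∈ G.W) {q : ℤ} (hq : 1 < q) :
    0 < (q • (1 : Matrix _ _ ℤ) - G.cM w).det :=
  det_pos_of_pow (orderOf_pos w) (by rw [← G.cM_pow hw, pow_orderOf_eq_one, G.cM_one]) hq

theorem sum_det [Fintype G.W] (q : ℤ) :
    ∑ w : G.W, (q • (1 : Matrix _ _ ℤ) - G.cM w).det = Nat.card G.W * q ^ D.rank := by
  classical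
  have h1 : ∀ w : G.W, (q • (1 : Matrix _ _ ℤ) - G.cM w).det = ∑ s : Finset (Fin D.rank),
      Matrix.det (Matrix.of fun i j => if i ∈ s then -G.cM w i j else if i = j then q else 0) := fun w => by
    rw [sub_eq_neg_add]
    refine (Matrix.detRowAlternating.toMultilinearMap.map_add_univ _ _).trans (Finset.sum_congr rfl fun s _ =>
      congrArg Matrix.det (Matrix.ext fun i j => ?_))
    by_cases h : i ∈ s
    · exact (congrFun (Finset.piecewise_eq_of_mem _ _ _ h) j).trans (by simp [h])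
    · exact (congrFun (Finset.piecewise_eq_of_notMem _ _ _ h) j).trans (by simp [h, Matrix.one_apply])
  simp only [h1]
  rw [Finset.sum_comm, Finset.sum_eq_single ∅ (fun s _ hs => ?_) (by simp)]
  · simp only [Finset.notMem_empty, if_false]
    change ∑ _ : G.W, Matrix.det (Matrix.diagonal fun _ => q) = _
    simp
  obtain ⟨i, hi⟩ := Finset.nonempty_iff_ne_empty.2 hs
  rw [← add_self_eq_zero]
  nth_rw 1 [← Equiv.sum_comp (Equiv.mulRight (⟨_, G.σ_mem i⟩ : G.W))]
  rw [← Finset.sum_add_distrib]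
  refine Finset.sum_eq_zero fun w _ => ?_
  set B := Matrix.of fun i j => if i ∈ s then -G.cM w i j else if i = j then q else 0
  rw [Matrix.det_eq_of_forall_row_eq_smul_add_const (B := B.updateRow i ((-1 : ℤ) • B i))
    (fun k => if k ∈ s ∧ k ≠ i then cartanM D k i else 0) i (by simp) fun k j => ?_, Matrix.det_updateRow_smul,
    Matrix.updateRow_eq_self]
  · ring
  have : G.cM (w * G.σ i) k j = G.cM w k j - cartanM D k i * G.cM w i j := by
    simp [cM_mul w.2 (G.σ_mem i), G.cM_σ, Sm, Matrix.mul_apply, sub_mul]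
  by_cases hk : k ∈ s
  · by_cases e : k = i
    · subst e
      simp [B, hk, this, G.cartanM_apply, G.A_self]; ring
    · simp [B, hk, hi, this, e]; ring
  · have e : k ≠ i := fun e => hk (e ▸ hi)
    simp [B, hk, e]

/-- the action of the Weyl group on the torus -/
abbrev torAct (A : Type*) [CommGroup A] : MulAction G.W (Fin D.rank → A) where
  smul w c := pw A (G.cM w) c
  one_smul c := by change pw A (G.cM 1) c = c; rw [G.cM_one, pw_one]
  mul_smul v w c := by
    change pw A (G.cM (v * w)) c = pw A (G.cM v) (pw A (G.cM w) c)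
    rw [cM_mul v.2 w.2, pw_mul]

theorem card_tor {K : Type*} [Field K] [IsAlgClosed K] {q : ℕ} (hq : 1 < q) (h0 : (q : K) = 0)
    {w : Equiv.Perm (Fin D.nroots)} (hw : w ∈ G.W) : {c | pw Kˣ (G.cM w) c = c ^ q}.Finite ∧
      (Nat.card {c | pw Kˣ (G.cM w) c = c ^ q} : ℤ) = ((q : ℤ) • (1 : Matrix _ _ ℤ) - G.cM w).det := by
  have h1 := G.det_pos hw (q := q) (by exact_mod_cast hq)
  have h2 : {c | pw Kˣ (G.cM w) c = c ^ q} = (pw Kˣ ((q : ℤ) • (1 : Matrix _ _ ℤ) - G.cM w)).ker := by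
    ext c
    simp only [Set.mem_setOf_eq, SetLike.mem_coe, MonoidHom.mem_ker, funext_iff, pw_apply, Matrix.sub_apply,
      zpow_sub, Finset.prod_mul_distrib, Finset.prod_inv_distrib, Pi.one_apply, mul_inv_eq_one, Pi.pow_apply]
    refine forall_congr' fun j => ?_
    rw [Finset.prod_eq_single j (f := fun i => c i ^ ((q : ℤ) • (1 : Matrix _ _ ℤ)) i j)
      (fun i _ h => by simp [h]) (by simp), eq_comm]
    simp
  have h3 := card_ker_pw_det (K := K) (M := (q : ℤ) • (1 : Matrix _ _ ℤ) - G.cM w) (by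
    have : ((q : ℤ) • (1 : Matrix _ _ ℤ) - G.cM w).map (fun x : ℤ => (x : K)) = -(G.cM w).map fun x : ℤ => (x : K) := by
      ext i j; simp [Matrix.natCast_apply, h0]
    rw [Int.cast_det, this, Matrix.det_neg, ← Int.cast_det]
    refine mul_ne_zero (by simp) fun e => ?_
    have := congrArg (fun M => ((Matrix.det M : ℤ) : K)) (cM_mul (inv_mem hw) hw)
    simp [G.cM_one, e] at this)
  rw [h2]
  exact ⟨Nat.finite_of_card_ne_zero (h3 ▸ Int.natAbs_ne_zero.2 h1.ne'), by
    rw [SetLike.coe_sort_coe, h3, Int.natAbs_of_nonneg h1.le]⟩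

/-- the split Frobenius map -/
noncomputable def frob (hD : D ∈ [chevG2, chevB2, chevD4, chevF4, chevE6, chevE7, chevE8]) (F : Type*) [Field F]
    [Fintype F] : Frob G (AlgebraicClosure F) where
  σ K _ _ _ := letI := ((algebraMap _ K).comp (algebraMap F (AlgebraicClosure F))).toAlgebra
    G.stMap (FiniteField.frobeniusAlgHom F K : K →+* K)
  ρ := id
  γ _ := 1
  e _ := Fintype.card F
  σ_x K _ _ _ r t := by rw [G.stMap_x]; simp
  m := 1
  q := Fintype.card F
  m_pos := one_pos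
  one_lt := Fintype.one_lt_card
  pow K _ _ _ := ⟨_, fun _ => rfl, fun _ => rfl⟩
  alg := alg_pow
  mem := hD

variable (hD : D ∈ [chevG2, chevB2, chevD4, chevF4, chevE6, chevE7, chevE8]) (F : Type*) [Field F] [Fintype F]

theorem frob_x (r : Fin D.nroots) (t : AlgebraicClosure F) :
    (G.frob hD F).σ _ ((G.st _).x r t) = (G.st _).x r (FiniteField.frobeniusAlgHom F _ t) := by
  rw [Frob.σ_x]; simp [frob]

theorem frob_τ (c : Fin D.rank → (AlgebraicClosure F)ˣ) :
    (G.frob hD F).σ _ ((G.st_R3 _).τ c) = (G.st_R3 _).τ (c ^ Fintype.card F) := by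
  rw [(G.st _).fmap_τ (G.st _) (ι := (FiniteField.frobeniusAlgHom F _).toRingHom) (G.frob_x hD F) _ (G.st_R3 _)]
  exact congrArg _ (funext fun i => Units.ext (by simp))

theorem frob_fix (g : D.SteinbergGroup (AlgebraicClosure F)) :
    (G.frob hD F).σ _ g = g ↔ g ∈ (G.stMap (algebraMap F _)).range := by
  rw [← G.stMap_range (τ_injective_of_mem _ hD G) (algebraMap F _) (FiniteField.frobeniusAlgHom F _).toRingHom
    (pow_card_iff _), G.st_ext (φ := (G.frob hD F).σ _) fun r t => (G.frob_x hD F r t).trans (G.stMap_x _ r t).symm]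

include hD in
theorem stMap_injective {F K : Type*} [Field F] [Field K] (ι : F →+* K) : Function.Injective (G.stMap ι) :=
  (G.st F).fmap_injective (G.st K) (G.stMap_x _) (G.st_R3 F) (G.st_R3 K) (τ_injective_of_mem K hD G) (G.st_Gr F)

include hD G in
theorem card_ss (p : ℕ) [Fact p.Prime] [CharP F p] : Nat.card {c : ConjClasses (D.SteinbergGroup F) //
    ∃ g, ConjClasses.mk g = c ∧ (orderOf g).Coprime p} = Fintype.card F ^ D.rank := by
  classical
  let k := AlgebraicClosure F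
  let X := G.frob hD F
  let ι := G.stMap (algebraMap F k)
  have hι : Function.Injective ι := G.stMap_injective hD _
  have h3 := G.st_R3 k
  have hτ := τ_injective_of_mem k hD G
  letI := G.torAct kˣ
  letI := Fintype.ofFinite G.W
  have h0 : (Fintype.card F : k) = 0 := by
    rw [← map_natCast (algebraMap F k), FiniteField.cast_card_eq_zero, map_zero]
  let S : SubMulAction G.W (Fin D.rank → kˣ) := ⟨{c | ∃ w : G.W, w • c = c ^ Fintype.card F}, by
    rintro v c ⟨w, h⟩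
    exact ⟨v * w * v⁻¹, by rw [mul_smul, inv_smul_smul, mul_smul, h]; exact map_pow (pw kˣ _) _ _⟩⟩
  have h1 := card_stable (fun c => c ^ Fintype.card F) S (fun _ => Iff.rfl)
    fun w => (G.card_tor Fintype.one_lt_card h0 w.2).1
  have h2 : ∀ w : G.W, (Nat.card {c : Fin D.rank → kˣ | w • c = c ^ Fintype.card F} : ℤ) = _ :=
    fun w => (G.card_tor Fintype.one_lt_card h0 w.2).2
  zify at h1
  rw [Finset.sum_congr rfl fun w _ => h2 w, G.sum_det, mul_comm, mul_right_inj' (by simp [Nat.card_pos.ne'])] at h1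
  have h4 : ∀ c d, (∃ y, h3.τ d = y * h3.τ c * y⁻¹) ↔ ∃ w : G.W, w • c = d := fun c d => ⟨by
    rintro ⟨y, e⟩
    obtain ⟨m, hm, e⟩ := (G.st k).HH_fusion (h3.τ_mem c) (h3.τ_mem d) (G.mem_st y) e.symm
    obtain ⟨w, hw, h⟩ := (G.st k).exists_mon hm
    exact ⟨⟨w, hw⟩, hτ (((G.st k).mon_conj_τ h3 hm h c).symm.trans e)⟩, by
    rintro ⟨w, rfl⟩
    obtain ⟨m, hm, h⟩ := (G.st k).exists_NN w.2
    exact ⟨m, ((G.st k).mon_conj_τ h3 hm h c).symm⟩⟩
  have h5 : ∀ g : D.SteinbergGroup F, (orderOf g).Coprime p → ((orderOf g : ℕ) : k) ≠ 0 := fun g h e =>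
    (Nat.Prime.coprime_iff_not_dvd Fact.out).1 h.symm ((CharP.cast_eq_zero_iff k p _).1 e)
  refine Nat.cast_injective (R := ℤ) (Eq.trans (congrArg _ (card_eq_of_rel (fun o C => ∃ (c : S) (g y : _),
    Quotient.mk _ c = o ∧ ConjClasses.mk g = C.1 ∧ (orderOf g).Coprime p ∧ ι g = y * h3.τ c * y⁻¹) ?_ ?_ ?_).symm)
    (by simpa using h1))
  · rintro ⟨c, w, hw⟩
    obtain ⟨y, e⟩ := (h4 _ _).2 ⟨w, hw⟩
    obtain ⟨z, e⟩ := X.exists_fix ((G.frob_τ hD F c).trans e)
    obtain ⟨g, hg⟩ := (G.frob_fix hD F _).1 e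
    have : (orderOf g).Coprime p := by
      rw [← orderOf_injective ι hι, hg, ← (SemiconjBy.conj_mk z _).orderOf_eq, orderOf_injective _ hτ]
      exact coprime_orderOf p (hτ.isOfFinOrder_iff.1 (X.isOfFinOrder _))
    exact ⟨⟨_, g, rfl, this⟩, _, g, z, rfl, rfl, this, hg⟩
  · rintro ⟨_, g, rfl, hg⟩
    obtain ⟨y, hy⟩ := G.exists_conj_HH hD (h5 g hg) (s := ι g) (by rw [← map_pow, pow_orderOf_eq_one, map_one])
    obtain ⟨c, hc⟩ := h3.exists_τ hy
    refine ⟨_, ⟨c, (h4 _ _).1 ⟨(X.σ k y)⁻¹ * y, ?_⟩⟩, g, y, rfl, rfl, hg, by rw [hc]; group⟩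
    rw [← G.frob_τ hD, hc, map_mul, map_mul, map_inv, (G.frob_fix hD F _).2 ⟨g, rfl⟩]; group; rfl
  · rintro _ _ C C' ⟨c, g, y, rfl, h6, hg, e⟩ ⟨c', g', y', rfl, h7, -, e'⟩
    rw [Subtype.ext_iff, ← h6, ← h7, ConjClasses.mk_eq_mk_iff_isConj, isConj_iff, eq_comm, Quotient.eq]
    have : (∃ w : G.W, w • c = c') ↔ ∃ z, ι g' = z * ι g * z⁻¹ := by
      simp only [Subtype.ext_iff, SubMulAction.val_smul, ← h4, e, e']
      exact ⟨fun ⟨z, h⟩ => ⟨y' * z * y⁻¹, by rw [h]; group⟩,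
        fun ⟨z, h⟩ => ⟨y'⁻¹ * z * y, by
          calc _ = y'⁻¹ * (y' * h3.τ c' * y'⁻¹) * y' := by group
            _ = _ := by rw [h]; group⟩⟩
    refine this.trans ⟨fun ⟨z, h⟩ => ?_, fun ⟨z, h⟩ => ⟨ι z, by simp [← h]⟩⟩
    obtain ⟨a, ha, e⟩ := X.conj_fix (h5 g hg) (s := ι g) (by rw [← map_pow, pow_orderOf_eq_one, map_one])
      ((G.frob_fix hD F _).2 ⟨g, rfl⟩) (h ▸ (G.frob_fix hD F _).2 ⟨g', rfl⟩)
    obtain ⟨a, rfl⟩ := (G.frob_fix hD F _).1 ha
    exact ⟨a, hι (by rw [map_mul, map_mul, map_inv, h]; exact e)⟩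

omit [Fintype F] in
theorem exists_stEquiv (h : Function.Injective (pw Fˣ (cartanM D))) :
    ∃ e : D.SteinbergGroup F ≃* D.group F, ∀ g, (e g : GL D.Idx F) = (G.st F).π g := by
  refine ⟨MulEquiv.ofBijective ((G.st F).π.codRestrict (D.group F) fun g =>
    (G.group_eq F).ge ((G.st F).π_mem_Gr (G.mem_st g))) ⟨(injective_iff_map_eq_one _).2 fun g hg => ?_, fun g => ?_⟩,
    fun _ => rfl⟩
  · have h1 : (G.st F).π g = 1 := congrArg Subtype.val hg
    obtain ⟨c, rfl⟩ := (G.st_R3 F).exists_τ ((G.st F).mem_HH_of_π_eq_one (G.mem_st g) h1)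
    rw [h ((G.st_R3 F).π_τ_eq_one.1 h1 |>.trans (map_one _).symm), map_one]
  · obtain ⟨a, -, e⟩ := (G.st F).exists_π ((G.group_eq F).le g.2)
    exact ⟨a, Subtype.ext e⟩

include hD G in
theorem card_ss' (p : ℕ) [Fact p.Prime] [CharP F p] (h : Nat.card (pw Fˣ (cartanM D)).ker = 1) :
    Nat.card {c : ConjClasses (D.group F) // ∃ g, ConjClasses.mk g = c ∧ (orderOf g).Coprime p} =
      Fintype.card F ^ D.rank := by
  obtain ⟨e, -⟩ := G.exists_stEquiv F ((MonoidHom.ker_eq_bot_iff _).1 (Subgroup.card_eq_one.1 h))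
  rw [← G.card_ss hD F p]
  refine card_eq_of_rel (fun C C' => ∃ g, ConjClasses.mk (e g) = C.1 ∧ ConjClasses.mk g = C'.1) ?_ ?_ ?_
  · rintro ⟨_, g, rfl, hg⟩
    exact ⟨⟨_, e.symm g, rfl, by simpa using hg⟩, _, by simp, rfl⟩
  · rintro ⟨_, g, rfl, hg⟩
    exact ⟨⟨_, e g, rfl, by simpa using hg⟩, _, rfl, rfl⟩
  · rintro C C' B B' ⟨g, h1, h2⟩ ⟨g', h3, h4⟩
    rw [Subtype.ext_iff, Subtype.ext_iff, ← h1, ← h2, ← h3, ← h4, ConjClasses.mk_eq_mk_iff_isConj,
      ConjClasses.mk_eq_mk_iff_isConj]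
    exact ⟨fun h => by simpa using e.symm.toMonoidHom.map_isConj h, e.toMonoidHom.map_isConj⟩

end Good

end CfsgH6
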