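import Mathlib
import Cfsg.Agent.H6.SSCount

/-! Centralizers of the diagonal elements attached to the vertices of the fundamental alcove. -/

set_option autoImplicit false

namespace CfsgH6

open Cfsg.Lie

variable {D : ChevalleyDatum}

theorem Cover.card_cent {G : Good D} {F : Type*} [Field F] [Finite F] {Γ : Type*} [Group Γ] (C : Cover G F Γ)
    (h3 : C.R3) {t : Γ} (ht : t ∈ C.HH) {c : Fin D.rank → Fˣ} (hc : (C.π t : Matrix D.Idx D.Idx F) = G.hd c)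
    {W' : Subgroup (Equiv.Perm (Fin D.nroots))} (hle : W' ≤ G.W)
    (hW : ∀ m ∈ C.NN, ∀ w ∈ G.W, C.Mon m w → (t * m * t⁻¹ = m ↔ w ∈ W')) {Ψ : Set (Fin D.nroots)}
    (hΨ : ∀ r, r ∈ Ψ ↔ Good.chr c (G.vec r) = 1) :
    Nat.card ↥(C.Gr ⊓ Subgroup.centralizer {t}) = Nat.card F ^ Nat.card {r | G.Pos r ∧ r ∈ Ψ} * Nat.card C.HH *
      ∑ᶠ w : W', Nat.card F ^ Nat.card {r | r ∈ (G.invSet w : Set (Fin D.nroots)) ∧ r ∈ Ψ} := by
  classical
  simp only [hΨ]
  choose m hm hw using fun w : W' => C.exists_NN (hle w.2)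
  have hc' : ∀ g, g ∈ Subgroup.centralizer {t} ↔ t * g * t⁻¹ = g := fun g => by
    rw [Subgroup.mem_centralizer_singleton_iff, mul_inv_eq_iff_eq_mul, eq_comm]
  have hnil := fun w : W' => (Good.nil_invSet (hw w).1).nil_chr c
  have h1 : ∀ {S : Set (Fin D.nroots)} {u}, u ∈ C.US {r | r ∈ S ∧ Good.chr c (G.vec r) = 1} →
      u ∈ C.Gr ⊓ Subgroup.centralizer {t} := fun hu =>
    ⟨C.US_le_Gr _ hu, (hc' _).2 (C.conj_of_chr ht hc (fun r hr => hr.2) hu)⟩
  have h2 : ∀ (k : C.HH) w, C.Mon (k * m w) w := fun k w => by simpa using (C.mon_HH k.2).mul (hw w)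
  have e : (C.US {r | G.Pos r ∧ Good.chr c (G.vec r) = 1} × C.HH) ×
      (Σ w : W', C.US {r | r ∈ (G.invSet w : Set (Fin D.nroots)) ∧ Good.chr c (G.vec r) = 1}) ≃
      ↥(C.Gr ⊓ Subgroup.centralizer {t}) := Equiv.ofBijective
    (fun p => ⟨p.1.1 * (p.1.2 * m p.2.1) * p.2.2, mul_mem (mul_mem (h1 (S := {r | G.Pos r}) p.1.1.2)
      ⟨C.NN_le_Gr (mul_mem (C.HH_le_NN p.1.2.2) (hm _)), (hc' _).2 ((hW _ (mul_mem (C.HH_le_NN p.1.2.2) (hm _)) _
        (hle p.2.1.2) (h2 _ _)).2 p.2.1.2)⟩) (h1 p.2.2.2)⟩) ⟨by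
      rintro ⟨⟨u, k⟩, w, v⟩ ⟨⟨u', k'⟩, w', v'⟩ h
      obtain ⟨e1, e2, e3⟩ := C.canonical_unique' (C.US_mono (fun r hr => hr.1) u.2) (C.US_mono (fun r hr => hr.1) u'.2)
        (mul_mem (C.HH_le_NN k.2) (hm w)) (mul_mem (C.HH_le_NN k'.2) (hm w')) (h2 k w) (h2 k' w')
        (C.US_mono (fun r hr => hr.1) v.2) (C.US_mono (fun r hr => hr.1) v'.2) (congrArg Subtype.val h)
      obtain rfl : w = w' := Subtype.ext ((h2 k w).unique (e2 ▸ h2 k' w'))
      obtain rfl : u = u' := Subtype.ext e1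
      obtain rfl : k = k' := Subtype.ext (mul_right_cancel e2)
      obtain rfl : v = v' := Subtype.ext e3
      rfl, by
      rintro ⟨g, hg⟩
      obtain ⟨u, hu, n, hn, w, hw', h, e, v, hv, rfl⟩ := C.cent_diag ht hc hg.1 ((hc' g).1 hg.2)
      have h4 := (hW n hn w hw' h).1 e
      exact ⟨⟨⟨⟨u, hu⟩, ⟨_, C.mul_inv_mem_HH hn (hm ⟨w, h4⟩) h (hw _)⟩⟩, ⟨w, h4⟩, ⟨v, hv⟩⟩, Subtype.ext (by simp)⟩⟩
  have := Fintype.ofFinite W'
  have := fun w : W' => Nat.finite_of_card_ne_zero ((C.card_US (hnil w)).trans_ne (pow_ne_zero _ Nat.card_pos.ne'))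
  rw [← Nat.card_congr e, Nat.card_prod, Nat.card_prod, Nat.card_sigma, finsum_eq_sum_of_fintype]
  exact congrArg₂ _ (congrArg₂ _ (C.card_US (G.nil_pos.nil_chr c)) rfl)
    (Finset.sum_congr rfl fun w _ => C.card_US (hnil w))

namespace Good

variable (G : Good D)

/-- the stabiliser of a vertex -/
def Wv (i : Fin D.rank) (n : ℤ) : Subgroup (Equiv.Perm (Fin D.nroots)) where
  carrier := {w | w ∈ G.W ∧ ∀ r, n ∣ G.vec (w r) i - G.vec r i}
  one_mem' := ⟨one_mem _, by simp⟩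
  mul_mem' := fun {a b} ha hb => ⟨mul_mem ha.1 hb.1, fun r => by simpa using (ha.2 (b r)).add (hb.2 r)⟩
  inv_mem' := fun {a} ha => ⟨inv_mem ha.1, fun r => by simpa using (ha.2 (a⁻¹ r)).neg_right⟩

theorem add_vec (i : Fin D.rank) : G.Add fun r => G.vec r i := fun r => by simp [G.vec_sm]

/-- unimodular Cartan matrix -/
def Uni : Prop := ∀ z : Fin D.nroots → ℤ, G.Add z → ∃ y, z = G.pr y

theorem uni_of {N : Matrix (Fin D.rank) (Fin D.rank) ℤ} (h : cartanM D * N = 1) : G.Uni := fun z hz =>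
  ⟨Matrix.vecMul (fun i => z (G.sm i)) N, funext fun r => by
    rw [hz r, G.add_pr _ r]
    refine Finset.sum_congr rfl fun j _ => congrArg _ ?_
    have := congrFun (Matrix.vecMul_vecMul (fun i => z (G.sm i)) N (cartanM D)) j
    rw [mul_eq_one_comm.1 h, Matrix.vecMul_one] at this
    simpa [pr, Matrix.vecMul, dotProduct, G.cartanM_apply] using this.symm⟩

/-- the fundamental roots of the subsystem -/
def dl (i : Fin D.rank) (β : Fin D.nroots) (j : Fin D.rank) : Fin D.nroots := if j = i then β else G.sm j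

/-- values of a functional -/
def evL (μ : List ℤ) (r : Fin D.nroots) : ℤ := ∑ k, G.vec r k * μ.getD k 0

/-- a reflection carries `μ` to `ν` -/
def Stp (d : Fin D.nroots) (μ ν : List ℤ) : Prop := ∀ k : Fin D.rank, ν.getD k 0 = μ.getD k 0 - G.A d (G.sm k) * G.evL μ d

instance decStp (d : Fin D.nroots) (μ ν : List ℤ) : Decidable (G.Stp d μ ν) := Nat.decidableForallFin _

/-- connectedness of the table -/
def Cn (i : Fin D.rank) (β : Fin D.nroots) : List (List ℤ × ℕ) → Prop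
  | [] => True
  | p :: L => ((∀ k : Fin D.rank, p.1.getD k 0 = if i = k then 1 else 0) ∨
    ∃ p' ∈ L, ∃ j, G.Stp (G.dl i β j) p'.1 p.1) ∧ Cn i β L

instance decCn (i : Fin D.rank) (β : Fin D.nroots) : ∀ L, Decidable (G.Cn i β L)
  | [] => isTrue trivial
  | _ :: L => @instDecidableAnd _ _ inferInstance (decCn i β L)

/-- the checks -/
def VOK (i : Fin D.rank) (n : ℤ) (β : Fin D.nroots) (L : List (List ℤ × ℕ)) : Prop :=
  0 < n ∧ G.vec β i = n ∧ (∀ r, G.vec r i ≤ n ∧ (G.vec r i = n → ∀ j, G.vec β j ≤ G.vec r j)) ∧ L ≠ [] ∧ G.Cn i β L ∧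
  (∀ p ∈ L, ∀ j, ∃ p' ∈ L, G.Stp (G.dl i β j) p.1 p'.1) ∧ (L.map fun p => fun k : Fin D.rank => p.1.getD k 0).Nodup ∧
  ∀ p ∈ L, p.2 = (Finset.univ.filter fun r => G.Pos r ∧ n ∣ G.vec r i ∧ G.evL p.1 r < 0).card

instance decVOK (i : Fin D.rank) (n : ℤ) (β : Fin D.nroots) (L : List (List ℤ × ℕ)) : Decidable (G.VOK i n β L) :=
  @instDecidableAnd _ _ inferInstance (@instDecidableAnd _ _ inferInstance (@instDecidableAnd _ _ inferInstance
    (@instDecidableAnd _ _ inferInstance (@instDecidableAnd _ _ inferInstance (@instDecidableAnd _ _ inferInstance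
    (@instDecidableAnd _ _ inferInstance inferInstance))))))

variable {G}

theorem Wv_free (hu : G.Uni) {i : Fin D.rank} {n : ℤ} (hn : 0 < n) {w : Equiv.Perm (Fin D.nroots)} (hw : w ∈ G.Wv i n)
    (h : ∀ r, G.Pos r → n ∣ G.vec r i → G.Pos (w r)) : w = 1 := by
  choose z hz using hw.2
  obtain ⟨μ, hμ⟩ := hu (fun r => - z r) fun r => mul_left_cancel₀ hn.ne' (by
    simp only [mul_neg, ← hz, Finset.mul_sum, mul_left_comm n, Int.cast_id, (lin_W hw.1) r i, mul_sub,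
      Finset.sum_neg_distrib, Finset.sum_sub_distrib, G.vec_sm]
    simp)
  exact (G.add_vec i).stab_eq_one hn hw.1 μ (fun r => by rw [← congrFun hμ r, mul_neg, ← hz]; ring) h

theorem rf_mem_Wv {i : Fin D.rank} {n : ℤ} {r : Fin D.nroots} (h : n ∣ G.vec r i) : G.rf r ∈ G.Wv i n :=
  ⟨G.rf_mem r, fun s => by rw [G.rf_vec]; simpa using h.mul_left _⟩

theorem poin_vertex (hu : G.Uni) {i : Fin D.rank} {n : ℤ} {β : Fin D.nroots} {L : List (List ℤ × ℕ)}
    (h : G.VOK i n β L) {R : Type*} [CommSemiring R] (q : R) :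
    ∑ᶠ w : G.Wv i n, q ^ Nat.card {r | r ∈ (G.invSet w : Set (Fin D.nroots)) ∧ r ∈ {r | n ∣ G.vec r i}} =
      (L.map fun p => q ^ p.2).sum * ∑ᶠ v : G.WJ {j | j ≠ i}, q ^ G.N v := by
  classical
  obtain ⟨hn, h1, h2, h0, h3, h4, h5, h6⟩ := h
  have hd : ∀ j, G.Pos (G.dl i β j) ∧ n ∣ G.vec (G.dl i β j) i := fun j => by
    unfold dl
    split_ifs with e
    exacts [⟨G.pos_of_lt (h1 ▸ hn), h1 ▸ dvd_rfl⟩, ⟨G.pos_sm j, by simp [G.vec_sm, Ne.symm e]⟩]
  let Rp : List ℤ → Equiv.Perm (Fin D.nroots) → Prop := fun μ w => ∀ k, G.vec (w (G.sm k)) i = μ.getD k 0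
  have e1 : ∀ μ w, w ∈ G.W → Rp μ w → ∀ r, G.vec (w r) i = G.evL μ r := fun μ w hw h r => by
    rw [lin_W hw r i]; exact Finset.sum_congr rfl fun k _ => by rw [h k]
  have e2 : ∀ μ ν w d, w ∈ G.W → Rp μ w → G.Stp d μ ν → Rp ν (w * G.rf d) := fun μ ν w d hw h h' k => by
    rw [h' k, ← h k, ← e1 μ w hw h]
    exact ((G.add_vec i).comp (lin_W hw)).rf d _
  have e3 : ∀ L', G.Cn i β L' → ∀ p ∈ L', ∃ w ∈ G.Wv i n, Rp p.1 w := fun L' => by
    induction L' with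
    | nil => simp
    | cons p L' ih =>
      rintro ⟨h | ⟨p', hp', j, h⟩, h'⟩ <;> rw [List.forall_mem_cons] <;> refine ⟨?_, ih h'⟩
      · exact ⟨1, one_mem _, fun k => by rw [h k]; exact G.vec_sm k i⟩
      · obtain ⟨w, hw, e⟩ := ih h' p' hp'
        exact ⟨_, mul_mem hw (rf_mem_Wv (hd j).2), e2 _ _ _ _ hw.1 e h⟩
  have e4 : ∀ w ∈ G.Wv i n, w = 1 ∨ ∃ j, ¬ G.Pos (w (G.dl i β j)) := fun w hw => by
    refine or_iff_not_imp_right.2 fun h => Wv_free hu hn hw fun r hr e => ?_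
    push Not at h
    have h7 : ∀ j, j ≠ i → G.Pos (w (G.sm j)) := fun j hj => by simpa [dl, hj] using h j
    by_cases e' : G.vec r i = 0
    · exact (lin_W hw.1).pos_of_sm hr fun j hj => h7 j fun e => hj (e ▸ e')
    have h8 : G.vec r i = n := (h2 r).1.antisymm (Int.le_of_dvd ((hr i).lt_of_ne' e') e)
    intro k
    have h9 : G.vec (w r) k = G.vec (w β) k + ∑ j, (G.vec r j - G.vec β j) * G.vec (w (G.sm j)) k := by
      simp [lin_W hw.1 r k, lin_W hw.1 β k, sub_mul]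
    rw [h9]
    refine add_nonneg (by simpa [dl] using h i k) (Finset.sum_nonneg fun j _ => ?_)
    by_cases hj : j = i
    · simp [hj, h8, h1]
    · exact mul_nonneg (sub_nonneg.2 ((h2 r).2 h8 j)) (h7 j hj k)
  have e5 : ∀ u ∈ G.Wv i n, ∀ p ∈ L, ∀ w ∈ G.W, Rp p.1 w → ∃ p' ∈ L, Rp p'.1 (w * u) := fun u hu => by
    induction hN : G.N u using Nat.strong_induction_on generalizing u with
    | _ N ih =>
    intro p hp w hw e
    rcases e4 u hu with rfl | ⟨j, hj⟩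
    · exact ⟨p, hp, by simpa using e⟩
    have h7 := mul_mem hu (rf_mem_Wv (hd j).2)
    have h8 := N_lt_rf h7.1 (hd j).1 (by rwa [Equiv.Perm.mul_apply, G.rf_self, rev_W hu.1, G.pos_rev])
    rw [mul_assoc, G.rf_mul_self, mul_one] at h8
    obtain ⟨p', hp', e'⟩ := ih _ (hN ▸ h8) _ h7 rfl p hp w hw e
    obtain ⟨p'', hp'', e''⟩ := h4 p' hp' j
    refine ⟨p'', hp'', ?_⟩
    simpa [mul_assoc, G.rf_mul_self] using e2 _ _ _ _ (mul_mem hw h7.1) e' e''
  have e6 : ∀ v ∈ G.WJ {j | j ≠ i}, ∀ r, G.vec (v r) i = G.vec r i := fun v hv r => vec_WJ hv r (by simp)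
  have e7 : ∀ v ∈ G.WJ {j | j ≠ i}, v ∈ G.Wv i n := fun v hv => ⟨G.WJ_le _ hv, fun r => by simp [e6 v hv]⟩
  have e8 : ∀ p : {p // p ∈ L}, ∃ d ∈ G.Wv i n, Rp p.1.1 d ∧ G.Red {j | j ≠ i} d⁻¹ := fun p => by
    obtain ⟨w, hw, e⟩ := e3 L h3 p.1 p.2
    obtain ⟨v, hv, e'⟩ := G.fold.exists_red (J := {j | j ≠ i}) (inv_mem hw.1)
    have : G.fold.un {j | j ≠ i} = {j | j ≠ i} := by ext; simp [Fold.un, fold]
    replace hv := hv.2
    rw [this] at hv e'
    exact ⟨v * w, mul_mem (e7 v hv) hw, fun k => (e6 v hv _).trans (e k), by rwa [mul_inv_rev]⟩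
  choose d hd1 hd2 hd3 using e8
  have h5' : L.Nodup := h5.of_map _
  let e : {p // p ∈ L} × G.WJ {j | j ≠ i} ≃ G.Wv i n := Equiv.ofBijective
    (fun a => ⟨a.2 * d a.1, mul_mem (e7 _ a.2.2) (hd1 _)⟩) ⟨by
      rintro ⟨p, v⟩ ⟨p', v'⟩ e
      replace e : v.1 * d p = v'.1 * d p' := congrArg Subtype.val e
      obtain rfl : p = p' := Subtype.ext (List.inj_on_of_nodup_map h5 p.2 p'.2 (funext fun k => by
        rw [← hd2 p k, ← hd2 p' k, ← e6 _ v.2, ← e6 _ v'.2 (d p' _), ← Equiv.Perm.mul_apply, e]; rfl))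
      obtain rfl : v = v' := Subtype.ext (mul_right_cancel e)
      rfl, by
      rintro ⟨w, hw⟩
      obtain ⟨p0, hp0⟩ := List.exists_mem_of_ne_nil L h0
      obtain ⟨p, hp, e⟩ := e5 _ (mul_mem (inv_mem (hd1 ⟨p0, hp0⟩)) hw) p0 hp0 _ (hd1 ⟨p0, hp0⟩).1 (hd2 ⟨p0, hp0⟩)
      rw [mul_inv_cancel_left] at e
      have h7 := (G.add_vec i).mem_WJ (fun j => G.pos_sm j i) (mul_mem hw.1 (inv_mem (hd1 ⟨p, hp⟩).1)) fun j => by
        rw [Equiv.Perm.mul_apply, e1 _ _ hw.1 e, ← e1 _ _ (hd1 ⟨p, hp⟩).1 (hd2 _), perm_apply_inv]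
        exact G.pos_sm j i
      exact ⟨⟨⟨p, hp⟩, _, G.WJ_mono (K := {j | j ≠ i}) (fun j hj e => by simp [e, G.vec_sm] at hj) h7⟩,
        Subtype.ext (inv_mul_cancel_right _ _)⟩⟩
  have := Fintype.ofFinite (G.Wv i n)
  have := Fintype.ofFinite (G.WJ {j | j ≠ i})
  rw [finsum_eq_sum_of_fintype, finsum_eq_sum_of_fintype, ← e.sum_comp, Fintype.sum_prod_type,
    ← List.sum_toFinset _ h5', Finset.sum_subtype L.toFinset (p := fun p => p ∈ L) (fun _ => List.mem_toFinset),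
    Finset.sum_mul_sum]
  refine Finset.sum_congr rfl fun p _ => Finset.sum_congr rfl fun v _ => ?_
  rw [← pow_add]
  congr 1
  change Nat.card {r | r ∈ (G.invSet (v * d p) : Set (Fin D.nroots)) ∧ n ∣ G.vec r i} = p.1.2 + _
  have hv := G.WJ_le _ v.2
  have e9 : ∀ s, G.InJ {j | j ≠ i} s ↔ G.vec s i = 0 := fun s => by simp [InJ]
  have e10 : ∀ s, G.vec s i = 0 → (G.Pos ((d p)⁻¹ s) ↔ G.Pos s) := fun s hs => by
    have h7 := lin_W (inv_mem (hd1 p).1)
    refine ⟨fun h => by_contra fun h' => ?_, fun h => (hd3 p).pos h7 h ((e9 s).2 hs)⟩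
    have := (hd3 p).pos h7 (G.pos_rev.2 h') (G.inJ_rev.2 ((e9 s).2 hs))
    rw [h7.rev, G.pos_rev] at this
    exact this h
  rw [h6 p.1 p.2, N, ← Finset.card_image_of_injective (G.invSet v) (d p)⁻¹.injective, ← Finset.card_union_of_disjoint,
    ← Nat.card_eq_finsetCard]
  · refine Nat.card_congr (Equiv.subtypeEquivRight fun r => ?_)
    obtain ⟨s, rfl⟩ := (d p)⁻¹.surjective r
    simp only [Set.mem_setOf_eq, Finset.mem_coe, mem_invSet, Equiv.Perm.mul_apply, perm_apply_inv, Finset.mem_union,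
      Finset.mem_filter, Finset.mem_univ, true_and, (d p)⁻¹.injective.mem_finset_image, ← e1 _ _ (hd1 p).1 (hd2 p)]
    have h7 := (hd1 p).2 ((d p)⁻¹ s)
    rw [perm_apply_inv] at h7
    rcases lt_trichotomy (G.vec s i) 0 with h | h | h
    · simp [h, G.not_pos_of_lt h, G.not_pos_of_lt ((e6 _ v.2 s).trans_lt h)]
    · have := e10 s h
      have : n ∣ G.vec ((d p)⁻¹ s) i := by simpa [h] using h7
      simp only [h, lt_self_iff_false]
      tauto
    · simp [h.not_gt, G.pos_of_lt (h.trans_eq (e6 _ v.2 s).symm)]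
  · rw [Finset.disjoint_right]
    intro r hr hr'
    obtain ⟨s, hs, rfl⟩ := Finset.mem_image.1 hr
    rw [G.mem_invSet] at hs
    have := (Finset.mem_filter.1 hr').2.2.2
    rw [← e1 _ _ (hd1 p).1 (hd2 p), perm_apply_inv] at this
    exact G.not_pos_of_lt this hs.1

theorem Uni.pw_injective (hu : G.Uni) (A : Type*) [CommGroup A] : Function.Injective (pw A (cartanM D)) := by
  choose y hy using fun i => hu _ (G.add_vec i)
  refine CfsgH6.pw_injective (N := Matrix.of y) (mul_eq_one_comm.1 (Matrix.ext fun i j => ?_))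
  simpa [pr, Matrix.mul_apply, G.cartanM_apply, G.vec_sm, Matrix.one_apply] using (congrFun (hy i) (G.sm j)).symm

theorem zpow_ext (hu : G.Uni) {F : Type*} [Field F] {ζ : Fˣ} {y z : Fin D.rank → ℤ}
    (h : ∀ j, ζ ^ G.pr y (G.sm j) = ζ ^ G.pr z (G.sm j)) : (fun j => ζ ^ y j) = fun j => ζ ^ z j :=
  hu.pw_injective Fˣ (funext fun j => by rw [← G.chr_sm (pw _ _ _), G.chr_pr, h, ← G.chr_pr, G.chr_sm])

end Good

namespace Cover

variable {G : Good D} {F : Type*} [Field F] {Γ : Type*} [Group Γ] (C : Cover G F Γ) (h3 : C.R3)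

theorem τ_injective_of_uni (hu : G.Uni) : Function.Injective h3.τ :=
  (injective_iff_map_eq_one _).2 fun c h => hu.pw_injective Fˣ
    ((h3.π_τ_eq_one.1 (by rw [h, map_one])).trans (map_one _).symm)

theorem card_cent_vertex [Finite F] (hu : G.Uni) {i : Fin D.rank} {n : ℕ} {β : Fin D.nroots} {L : List (List ℤ × ℕ)}
    (h : G.VOK i n β L) {ζ : Fˣ} (hζ : orderOf ζ = n) {y : Fin D.rank → ℤ} (hy : ∀ r, G.pr y r = G.vec r i) :
    Nat.card ↥(C.Gr ⊓ Subgroup.centralizer {h3.τ fun j => ζ ^ y j}) =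
      Nat.card F ^ (Finset.univ.filter fun r => G.Pos r ∧ (n : ℤ) ∣ G.vec r i).card * (Nat.card F - 1) ^ D.rank *
        ((L.map fun p => Nat.card F ^ p.2).sum * G.fold.poin (Nat.card F) {j | j ≠ i}) := by
  have hτ := C.τ_injective_of_uni h3 hu
  rw [C.card_cent h3 (h3.τ_mem _) (h3.π_τ _) (W' := G.Wv i n) (fun _ h => h.1) (Ψ := {r | (n : ℤ) ∣ G.vec r i})
    (fun m hm w hw h => ⟨fun e => ⟨hw, fun r => ?_⟩, fun e => ?_⟩) fun r => ?_, Good.poin_vertex hu h,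
    ← h3.τ_range, ← Nat.card_congr (MonoidHom.ofInjective hτ).toEquiv, Nat.card_fun, Nat.card_units, Nat.card_fin,
    ← Nat.card_eq_finsetCard, Fold.poin, Fold.WK_eq_closure]
  · congr 3
    exact Nat.card_congr (Equiv.subtypeEquivRight (by simp))
  · have := h.chr_eq (h3.τ_mem _) (h3.π_τ _) e r
    rwa [G.chr_pr, G.chr_pr, hy, hy, ← orderOf_dvd_sub_iff_zpow_eq_zpow, hζ] at this
  · rw [mul_inv_eq_iff_eq_mul, eq_comm, ← mul_inv_eq_iff_eq_mul, C.mon_conj_τ h3 hm h, pw_zpow]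
    refine congrArg _ (Good.zpow_ext hu fun j => ?_)
    rw [← perm_apply_inv w (G.sm j), Good.pr_vecMul hw, hy, hy, eq_comm, ← orderOf_dvd_sub_iff_zpow_eq_zpow, hζ]
    exact e.2 _
  · rw [G.chr_pr, hy, ← orderOf_dvd_iff_zpow_eq_one, hζ]; rfl

/-- conjugation into the fundamental alcove -/
theorem conj_alcove {ζ : Fˣ} {n : ℕ} (hn : 0 < n) (hζ : ζ ^ n = 1) (y : Fin D.rank → ℤ) :
    ∃ m ∈ C.NN, ∃ y' : Fin D.rank → ℤ, m * h3.τ (fun j => ζ ^ y j) * m⁻¹ = h3.τ (fun j => ζ ^ y' j) ∧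
      (∀ i, 0 ≤ G.pr y' (G.sm i)) ∧ ∀ r, G.pr y' r ≤ n := by
  obtain ⟨v, hv, μ, h1, h2⟩ := (G.add_pr y).exists_alcove (n := n) (by exact_mod_cast hn)
  obtain ⟨m, hm, h⟩ := C.exists_NN (inv_mem hv)
  have h4 : ∀ r, G.pr (Matrix.vecMul y (G.cM v⁻¹) + (n : ℤ) • μ) r = G.pr y (v r) + n * G.pr μ r := fun r => by
    rw [G.pr_add, G.pr_smul, Good.pr_W hv]
  refine ⟨m, hm, _, ?_, fun i => h4 _ ▸ h1 i, fun r => h4 _ ▸ h2 r⟩
  rw [C.mon_conj_τ h3 hm h, pw_zpow]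
  simp [zpow_add, zpow_mul, hζ]

theorem not_conj_vertex {n : ℕ} {ζ : Fˣ} (hζ : orderOf ζ = n) {y y' : Fin D.rank → ℤ} {g : Γ} (hg : g ∈ C.Gr)
    (e : g * h3.τ (fun j => ζ ^ y j) * g⁻¹ = h3.τ fun j => ζ ^ y' j) :
    (Finset.univ.filter fun r => (n : ℤ) ∣ G.pr y r).card = (Finset.univ.filter fun r => (n : ℤ) ∣ G.pr y' r).card := by
  obtain ⟨m, hm, e⟩ := C.HH_fusion (h3.τ_mem _) (h3.τ_mem _) hg e
  obtain ⟨w, hw, h⟩ := C.exists_mon hm
  rw [C.mon_conj_τ h3 hm h, pw_zpow] at e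
  refine Finset.card_equiv w fun r => ?_
  have h1 := (h3.τ_conj _ (w r) 1).symm.trans (e ▸ h3.τ_conj _ (w r) 1)
  have h2 := Units.ext (mul_right_cancel₀ one_ne_zero (C.x_inj h1))
  rw [G.chr_pr, G.chr_pr, Good.pr_vecMul hw] at h2
  simp only [Finset.mem_filter, Finset.mem_univ, true_and, ← hζ, orderOf_dvd_iff_zpow_eq_one, h2]

end Cover

namespace Good

variable {G : Good D} (hD : D ∈ [chevG2, chevB2, chevD4, chevF4, chevE6, chevE7, chevE8]) (F : Type*) [Field F]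
  [Fintype F]

theorem exists_grp_hom (h : Function.Injective (pw Fˣ (cartanM D))) :
    ∃ j : D.group F →* D.SteinbergGroup (AlgebraicClosure F), Function.Injective j ∧
      (∀ r t, j ((G.grp F).x r t) = (G.st _).x r (algebraMap F _ t)) ∧
        ∀ g, (G.frob hD F).σ _ g = g ↔ g ∈ j.range := by
  obtain ⟨e, he⟩ := G.exists_stEquiv F h
  refine ⟨(G.stMap (algebraMap F _)).comp e.symm.toMonoidHom, (G.stMap_injective hD _).comp e.symm.injective, fun r t => ?_,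
    fun g => ?_⟩
  · rw [show (G.grp F).x r t = e ((G.st F).x r t) from Subtype.ext ((he _).trans ((G.st F).π_x' r t)).symm]
    simp [G.stMap_x]
  · rw [G.frob_fix, MonoidHom.range_comp, (MonoidHom.range_eq_top (f := e.symm.toMonoidHom)).2 e.symm.surjective, ← MonoidHom.range_eq_map]

variable {F}

include hD in
theorem inv_class (hu : G.Uni) (hF : Odd (Fintype.card F)) {θ : Fin D.nroots} (hθ : ∀ i, 2 ≤ G.vec θ i)
    {y : Fin D.rank → Fin D.rank → ℤ} (hy : ∀ i r, G.pr (y i) r = G.vec r i) {s : D.group F} (hs : orderOf s = 2) :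
    ∃ i, G.vec θ i = 2 ∧ IsConj s ((G.grp_R3 F).τ fun j => (-1) ^ y i j) := by
  let k := AlgebraicClosure F
  obtain ⟨j, h1, h2, h4⟩ := exists_grp_hom (G := G) hD F (hu.pw_injective Fˣ)
  have h3 := G.st_R3 k
  have hτ := τ_injective_of_mem k hD G
  have h0 : ((2 : ℕ) : k) ≠ 0 := by
    rw [← map_natCast (algebraMap F k), map_ne_zero]
    intro e
    have : CharP F 2 := (CharP.charP_iff_prime_eq_zero Nat.prime_two).2 e
    exact hF.not_two_dvd_nat (by simpa [Nat.dvd_iff_mod_eq_zero] using FiniteField.even_card_of_char_two (ringChar.eq F 2))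
  have h5 : j s ^ 2 = 1 := by rw [← map_pow, ← hs, pow_orderOf_eq_one, map_one]
  obtain ⟨g, hg⟩ := G.exists_conj_HH hD h0 h5
  obtain ⟨c, hc⟩ := h3.exists_τ hg
  have h6 : c ^ 2 = 1 := hτ (by rw [map_pow, hc, map_one]; simpa [h5] using conj_pow (i := 2) (a := g⁻¹) (b := j s))
  choose z hz using fun i => show ∃ z : ℤ, c i = (-1) ^ z from
    (sq_eq_one_iff.1 (show (c i : k) ^ 2 = 1 by simpa using congrArg Units.val (congrFun h6 i))).elim
      (fun h => ⟨0, Units.ext (by simpa using h)⟩) fun h => ⟨1, Units.ext (by simpa using h)⟩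
  obtain rfl : c = _ := funext hz
  obtain ⟨m, -, a, e, h7, h8⟩ := (G.st k).conj_alcove h3 two_pos (neg_one_sq) z
  obtain ⟨i, hi⟩ : ∃ i, G.pr a (G.sm i) ≠ 0 := by
    by_contra! h
    rw [zpow_ext hu (y := a) (z := 0) fun j => by rw [h]; simp [pr], hc] at e
    have : j s = 1 := by
      simpa [show (fun _ => 1 : Fin D.rank → kˣ) = 1 from rfl, conj_eq_one_iff, mul_eq_one_comm (a := g⁻¹ * j s)] using e
    rw [(injective_iff_map_eq_one j).1 h1 s this] at hs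
    simp at hs
  have h9 := h8 θ
  rw [G.add_pr a θ, ← Finset.add_sum_erase _ _ (Finset.mem_univ i)] at h9
  have h10 : ∀ l ∈ Finset.univ.erase i, 0 ≤ ((G.vec θ l : ℤ) : ℤ) * G.pr a (G.sm l) := fun l _ =>
    mul_nonneg (by have := hθ l; simp; omega) (h7 l)
  have h11 := Finset.sum_nonneg h10
  have h12 := hθ i
  have h13 := (h7 i).lt_of_ne' hi
  simp only [Int.cast_id, Nat.cast_ofNat] at h9 h10 h11
  have h14 : G.vec θ i = 2 := by nlinarith
  have h15 : G.pr a (G.sm i) = 1 := by nlinarith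
  have h16 := (Finset.sum_eq_zero_iff_of_nonneg h10).1 (by rw [h14, h15] at h9; omega)
  rw [zpow_ext hu (y := a) (z := y i) fun l => by
    rw [hy, G.vec_sm]
    split_ifs with h
    · rw [← h, h15]
    · rw [(mul_eq_zero.1 (h16 l (by simpa using Ne.symm h))).resolve_left (by have := hθ l; omega)], hc] at e
  have h17 : j ((G.grp_R3 F).τ fun j => (-1) ^ y i j) = h3.τ fun j => (-1) ^ y i j := by
    rw [(G.grp F).fmap_τ (G.st k) h2 _ h3]; simp
  have h18 : m * g⁻¹ * j s * (m * g⁻¹)⁻¹ = j ((G.grp_R3 F).τ fun j => (-1) ^ y i j) := by rw [h17, ← e]; group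
  obtain ⟨b, hb, e'⟩ := (G.frob hD F).conj_fix h0 h5 ((h4 _).2 ⟨s, rfl⟩) (h18 ▸ (h4 _).2 ⟨_, rfl⟩)
  obtain ⟨b, rfl⟩ := (h4 _).1 hb
  exact ⟨i, h14, isConj_iff.2 ⟨b, h1 (by rw [← h18, ← e']; simp)⟩⟩

theorem orderOf_neg_one' (hF : Odd (Fintype.card F)) : orderOf (-1 : Fˣ) = 2 := by
  refine orderOf_eq_prime neg_one_sq fun e => ?_
  have : CharP F 2 := (CharP.charP_iff_prime_eq_zero Nat.prime_two).2 (by
    have := congrArg Units.val e
    simp only [Units.val_neg, Units.val_one] at this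
    push_cast
    linear_combination -this)
  exact hF.not_two_dvd_nat (by simpa [Nat.dvd_iff_mod_eq_zero] using FiniteField.even_card_of_char_two (ringChar.eq F 2))

theorem orderOf_inv (hF : Odd (Fintype.card F)) {i : Fin D.rank} {y : Fin D.rank → ℤ} (hy : ∀ r, G.pr y r = G.vec r i) :
    orderOf ((G.grp_R3 F).τ fun j => (-1) ^ y j) = 2 := by
  refine orderOf_eq_prime (by
    rw [← map_pow, ← map_one (G.grp_R3 F).τ]
    exact congrArg _ (funext fun j => by rw [Pi.pow_apply, sq, ← mul_zpow]; simp)) fun e => ?_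
  have := (G.grp_R3 F).τ_conj (fun j => (-1) ^ y j) (G.sm i) 1
  rw [e, G.chr_pr, hy, G.vec_sm, if_pos rfl, one_mul, inv_one, mul_one, mul_one, zpow_one] at this
  have h := orderOf_neg_one' hF
  rw [show (-1 : Fˣ) = 1 from Units.ext ((G.grp F).x_inj this).symm] at h
  simp at h

end Good

end CfsgH6
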