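import Mathlib
import Cfsg.Agent.H6.Vertex
import Cfsg.Agent.H6.SL2
import Cfsg.Agent.H6.Order
import Cfsg.Agent.H6.Cent
import Cfsg.Agent.H1.Basic
import Cfsg.Agent.H5.SLBasic

/-! Involutions of the groups of type G2, F4, E8 in odd characteristic. -/

set_option autoImplicit false

namespace CfsgH6

open Cfsg.Lie

set_option maxRecDepth 100000

theorem uniG2 : goodG2.Uni := goodG2.uni_of (N := lm _ [[2, 3], [1, 2]])
  (Matrix.ext (show MEq _ _ by decide +kernel))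

theorem uniF4 : goodF4.Uni := goodF4.uni_of (N := lm _ [[2, 3, 4, 2], [3, 6, 8, 4], [2, 4, 6, 3], [1, 2, 3, 2]])
  (Matrix.ext (show MEq _ _ by decide +kernel))

theorem uniE8 : goodE8.Uni := goodE8.uni_of (N := lm _ [[4, 5, 7, 10, 8, 6, 4, 2], [5, 8, 10, 15, 12, 9, 6, 3], [7, 10, 14, 20, 16, 12, 8, 4], [10, 15, 20, 30, 24, 18, 12, 6], [8, 12, 16, 24, 20, 15, 10, 5], [6, 9, 12, 18, 15, 12, 8, 4], [4, 6, 8, 12, 10, 8, 6, 3], [2, 3, 4, 6, 5, 4, 3, 2]])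
  (Matrix.ext (show MEq _ _ by decide +kernel))

theorem vG2 : goodG2.VOK ⟨1, by decide⟩ (2 : ℕ) ⟨11, by decide⟩ [([0, -1], 1), ([0, 1], 0)] := by
  decide +kernel

theorem vG2' : (Finset.univ.filter fun r => goodG2.Pos r ∧ ((2 : ℕ) : ℤ) ∣ goodG2.vec r ⟨1, by decide⟩).card = 2 := by
  decide +kernel

theorem vF4a : goodF4.VOK ⟨0, by decide⟩ (2 : ℕ) ⟨41, by decide⟩ [([-1, 0, 0, 0], 7), ([1, 0, 0, -2], 6), ([1, 0, -2, 2], 5), ([1, -2, 2, 0], 4), ([-1, 2, -2, 0], 3), ([-1, 0, 2, -2], 2), ([-1, 0, 0, 2], 1), ([1, 0, 0, 0], 0)] := by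
  decide +kernel

theorem vF4a' : (Finset.univ.filter fun r => goodF4.Pos r ∧ ((2 : ℕ) : ℤ) ∣ goodF4.vec r ⟨0, by decide⟩).card = 16 := by
  decide +kernel

theorem vF4b : goodF4.VOK ⟨3, by decide⟩ (2 : ℕ) ⟨47, by decide⟩ [([0, 0, 0, -1], 1), ([0, 0, 0, 1], 0)] := by
  decide +kernel

theorem vF4b' : (Finset.univ.filter fun r => goodF4.Pos r ∧ ((2 : ℕ) : ℤ) ∣ goodF4.vec r ⟨3, by decide⟩).card = 10 := by
  decide +kernel

theorem vE8a : goodE8.VOK ⟨0, by decide⟩ (2 : ℕ) ⟨226, by decide⟩ [([-1, 0, 0, 0, 0, 0, 0, 0], 14), ([1, 0, 0, 0, 0, 0, 0, -2], 13), ([1, 0, 0, 0, 0, 0, -2, 2], 12), ([1, 0, 0, 0, 0, -2, 2, 0], 11), ([1, 0, 0, 0, -2, 2, 0, 0], 10), ([1, 0, 0, -2, 2, 0, 0, 0], 9), ([1, -2, -2, 2, 0, 0, 0, 0], 8), ([1, 2, -2, 0, 0, 0, 0, 0], 7), ([-1, -2, 2, 0, 0, 0, 0, 0], 7), ([-1, 2, 2, -2, 0, 0, 0, 0], 6), ([-1, 0, 0, 2, -2, 0, 0, 0], 5), ([-1, 0, 0, 0, 2, -2, 0, 0], 4), ([-1, 0, 0, 0, 0, 2, -2,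 0], 3), ([-1, 0, 0, 0, 0, 0, 2, -2], 2), ([-1, 0, 0, 0, 0, 0, 0, 2], 1), ([1, 0, 0, 0, 0, 0, 0, 0], 0)] := by
  decide +kernel

theorem vE8a' : (Finset.univ.filter fun r => goodE8.Pos r ∧ ((2 : ℕ) : ℤ) ∣ goodE8.vec r ⟨0, by decide⟩).card = 56 := by
  decide +kernel

theorem vE8b : goodE8.VOK ⟨7, by decide⟩ (2 : ℕ) ⟨239, by decide⟩ [([0, 0, 0, 0, 0, 0, 0, -1], 1), ([0, 0, 0, 0, 0, 0, 0, 1], 0)] := by
  decide +kernel

theorem vE8b' : (Finset.univ.filter fun r => goodE8.Pos r ∧ ((2 : ℕ) : ℤ) ∣ goodE8.vec r ⟨7, by decide⟩).card = 64 := by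
  decide +kernel

/-- orbit table -/
def orbF4y : Orb where
  l := 4
  cm := 0xa7887a7886a7887a
  lam := 0x9888
  cl := [([1], [1], 1), ([2], [2], 1), ([3], [3], 1)]
  O := [0x9888, 0x17988, 0x28798, 0x38979, 0x49789, 0x57889]

theorem poinF4y (G : Good chevF4) {R : Type*} [CommSemiring R] (q : R) :
    G.fold.poin q {c | c ∈ ([⟨1, by decide⟩, ⟨2, by decide⟩, ⟨3, by decide⟩] : List (Fin chevF4.rank))} = (q ^ 0 + q ^ 1 + q ^ 2 + q ^ 3 + q ^ 4 + q ^ 5) *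
      G.fold.poin q {c | c ∈ ([⟨1, by decide⟩, ⟨2, by decide⟩] : List (Fin chevF4.rank))} := by
  rw [G.poin_step orbF4y rfl cmF4 [⟨1, by decide⟩, ⟨2, by decide⟩] [⟨1, by decide⟩, ⟨2, by decide⟩, ⟨3, by decide⟩] (by decide +kernel) rfl (by decide +kernel)
    (by decide +kernel) (by decide +kernel) (by decide +kernel) q]
  congr 1
  have : orbF4y.O.map orbF4y.hi = [0, 1, 2, 3, 4, 5] := by decide +kernel
  rw [show (fun x => q ^ orbF4y.hi x) = (fun n => q ^ n) ∘ orbF4y.hi from rfl, ← List.map_map, this]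
  simp only [List.map_cons, List.map_nil, List.sum_cons, List.sum_nil]
  ring

/-- orbit table -/
def orbE8y7 : Orb where
  l := 8
  cm := 0xa78888887a78888887a78888887a78888887a77888887a87888878a88888878a
  lam := 0x98888888
  cl := [([1], [1], 1), ([2], [2], 1), ([3], [3], 1), ([4], [4], 1), ([5], [5], 1), ([6], [6], 1), ([7], [7], 1)]
  O := [0x98888888, 0x179888888, 0x287988888, 0x388798888, 0x488879888, 0x588887998, 0x688888978, 0x688888799,
    0x788889779, 0x888897889, 0x988978889, 0xa89788889, 0xb97888889, 0xc78888889]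

theorem poinE8y7 (G : Good chevE8) {R : Type*} [CommSemiring R] (q : R) :
    G.fold.poin q {c | c ∈ ([⟨1, by decide⟩, ⟨2, by decide⟩, ⟨3, by decide⟩, ⟨4, by decide⟩, ⟨5, by decide⟩, ⟨6, by decide⟩, ⟨7, by decide⟩] : List (Fin chevE8.rank))} = (q ^ 0 + q ^ 1 + q ^ 2 + q ^ 3 + q ^ 4 + q ^ 5 + 2 * q ^ 6 + q ^ 7 + q ^ 8 + q ^ 9 + q ^ 10 + q ^ 11 + q ^ 12) *
      G.fold.poin q {c | c ∈ ([⟨1, by decide⟩, ⟨2, by decide⟩, ⟨3, by decide⟩, ⟨4, by decide⟩, ⟨5, by decide⟩, ⟨6, by decide⟩] : List (Fin chevE8.rank))} := by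
  rw [G.poin_step orbE8y7 rfl cmE8 [⟨1, by decide⟩, ⟨2, by decide⟩, ⟨3, by decide⟩, ⟨4, by decide⟩, ⟨5, by decide⟩, ⟨6, by decide⟩] [⟨1, by decide⟩, ⟨2, by decide⟩, ⟨3, by decide⟩, ⟨4, by decide⟩, ⟨5, by decide⟩, ⟨6, by decide⟩, ⟨7, by decide⟩] (by decide +kernel) rfl (by decide +kernel)
    (by decide +kernel) (by decide +kernel) (by decide +kernel) q]
  congr 1
  have : orbE8y7.O.map orbE8y7.hi = [0, 1, 2, 3, 4, 5, 6, 6, 7, 8, 9, 10, 11, 12] := by decide +kernel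
  rw [show (fun x => q ^ orbE8y7.hi x) = (fun n => q ^ n) ∘ orbE8y7.hi from rfl, ← List.map_map, this]
  simp only [List.map_cons, List.map_nil, List.sum_cons, List.sum_nil]
  ring

/-- orbit table -/
def orbE8y6 : Orb where
  l := 8
  cm := 0xa78888887a78888887a78888887a78888887a77888887a87888878a88888878a
  lam := 0x89888888
  cl := [([1], [1], 1), ([2], [2], 1), ([3], [3], 1), ([4], [4], 1), ([5], [5], 1), ([6], [6], 1)]
  O := [0x89888888, 0x197988888, 0x298798888, 0x398879888, 0x498887998, 0x598888978, 0x598888799, 0x698889779,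
    0x798897889, 0x898978889, 0x999788889, 0xaa7888889]

theorem poinE8y6 (G : Good chevE8) {R : Type*} [CommSemiring R] (q : R) :
    G.fold.poin q {c | c ∈ ([⟨1, by decide⟩, ⟨2, by decide⟩, ⟨3, by decide⟩, ⟨4, by decide⟩, ⟨5, by decide⟩, ⟨6, by decide⟩] : List (Fin chevE8.rank))} = (q ^ 0 + q ^ 1 + q ^ 2 + q ^ 3 + q ^ 4 + 2 * q ^ 5 + q ^ 6 + q ^ 7 + q ^ 8 + q ^ 9 + q ^ 10) *
      G.fold.poin q {c | c ∈ ([⟨1, by decide⟩, ⟨2, by decide⟩, ⟨3, by decide⟩, ⟨4, by decide⟩, ⟨5, by decide⟩] : List (Fin chevE8.rank))} := by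
  rw [G.poin_step orbE8y6 rfl cmE8 [⟨1, by decide⟩, ⟨2, by decide⟩, ⟨3, by decide⟩, ⟨4, by decide⟩, ⟨5, by decide⟩] [⟨1, by decide⟩, ⟨2, by decide⟩, ⟨3, by decide⟩, ⟨4, by decide⟩, ⟨5, by decide⟩, ⟨6, by decide⟩] (by decide +kernel) rfl (by decide +kernel)
    (by decide +kernel) (by decide +kernel) (by decide +kernel) q]
  congr 1
  have : orbE8y6.O.map orbE8y6.hi = [0, 1, 2, 3, 4, 5, 5, 6, 7, 8, 9, 10] := by decide +kernel
  rw [show (fun x => q ^ orbE8y6.hi x) = (fun n => q ^ n) ∘ orbE8y6.hi from rfl, ← List.map_map, this]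
  simp only [List.map_cons, List.map_nil, List.sum_cons, List.sum_nil]
  ring

/-- orbit table -/
def orbE8y5 : Orb where
  l := 8
  cm := 0xa78888887a78888887a78888887a78888887a77888887a87888878a88888878a
  lam := 0x88988888
  cl := [([1], [1], 1), ([2], [2], 1), ([3], [3], 1), ([4], [4], 1), ([5], [5], 1)]
  O := [0x88988888, 0x189798888, 0x289879888, 0x389887998, 0x489888978, 0x489888799, 0x589889779, 0x689897889,
    0x789978889, 0x88a788889]

theorem poinE8y5 (G : Good chevE8) {R : Type*} [CommSemiring R] (q : R) :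
    G.fold.poin q {c | c ∈ ([⟨1, by decide⟩, ⟨2, by decide⟩, ⟨3, by decide⟩, ⟨4, by decide⟩, ⟨5, by decide⟩] : List (Fin chevE8.rank))} = (q ^ 0 + q ^ 1 + q ^ 2 + q ^ 3 + 2 * q ^ 4 + q ^ 5 + q ^ 6 + q ^ 7 + q ^ 8) *
      G.fold.poin q {c | c ∈ ([⟨1, by decide⟩, ⟨2, by decide⟩, ⟨3, by decide⟩, ⟨4, by decide⟩] : List (Fin chevE8.rank))} := by
  rw [G.poin_step orbE8y5 rfl cmE8 [⟨1, by decide⟩, ⟨2, by decide⟩, ⟨3, by decide⟩, ⟨4, by decide⟩] [⟨1, by decide⟩, ⟨2, by decide⟩, ⟨3, by decide⟩, ⟨4, by decide⟩, ⟨5, by decide⟩] (by decide +kernel) rfl (by decide +kernel)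
    (by decide +kernel) (by decide +kernel) (by decide +kernel) q]
  congr 1
  have : orbE8y5.O.map orbE8y5.hi = [0, 1, 2, 3, 4, 4, 5, 6, 7, 8] := by decide +kernel
  rw [show (fun x => q ^ orbE8y5.hi x) = (fun n => q ^ n) ∘ orbE8y5.hi from rfl, ← List.map_map, this]
  simp only [List.map_cons, List.map_nil, List.sum_cons, List.sum_nil]
  ring

theorem cast_pow_sub {q : ℕ} (h : 0 < q) (k : ℕ) : ((q ^ k - 1 : ℕ) : ℤ) = q ^ k - 1 := by
  rw [Nat.cast_sub (Nat.one_le_pow _ _ h)]; simp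

theorem Cover.R3.h_eq_τ {D : ChevalleyDatum} {G : Good D} {F : Type*} [Field F] {Γ : Type*} [Group Γ]
    {C : Cover G F Γ} (h3 : C.R3) (r : Fin D.nroots) (u : Fˣ) : C.h r u = h3.τ fun j => u ^ cov D r j := by
  obtain ⟨w, hw, i, rfl⟩ := G.exists_W_sm r
  obtain ⟨m, hm, h⟩ := C.exists_NN hw
  obtain ⟨c, -, hc⟩ := h.conj_n (G.sm i)
  have h1 := C.mon_conj_τ h3 hm h (Pi.mulSingle i u)
  rw [h3.τ_single, Cover.h, ← conj_mul, hc, hc, mul_neg_one, C.n_mul_n_neg, h3 _ _ _ c.ne_zero u.ne_zero,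
    (h3.comm _ _ c.ne_zero u.ne_zero).eq, mul_inv_cancel_right] at h1
  rw [h1]
  congr 1
  funext j
  rw [pw_apply, Finset.prod_eq_single i (fun b _ hb => by simp [hb]) (by simp)]
  simp [Good.cM]

variable {F : Type*} [Field F] [Fintype F] (hF : Odd (Fintype.card F))
include hF

theorem cent_vG2 {y : Fin chevG2.rank → ℤ} (hy : ∀ r, goodG2.pr y r = goodG2.vec r ⟨1, by decide⟩) :
    Nat.card (Subgroup.centralizer {(goodG2.grp_R3 F).τ fun j => (-1) ^ y j}) =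
      Fintype.card F ^ 2 * (Fintype.card F ^ 2 - 1) ^ 2 := by
  have h := (goodG2.grp F).card_cent_vertex (goodG2.grp_R3 F) uniG2 vG2 (Good.orderOf_neg_one' hF) hy
  rw [Good.grp_Gr, top_inf_eq, vG2', Nat.card_eq_fintype_card (α := F),
    show {j | j ≠ _} = {c | c ∈ ([⟨0, by decide⟩] : List (Fin chevG2.rank))} from
      Set.ext (by decide +kernel), poinG2x1] at h
  have h0 := Fintype.card_pos (α := F)
  rw [h, show ∀ a : ℕ, a ^ chevG2.rank = a ^ 2 from fun _ => rfl]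
  simp only [List.not_mem_nil, Set.ofPred_false, Fold.poin_empty, List.map_cons, List.map_nil, List.sum_cons,
    List.sum_nil, Finset.prod_Icc_succ_top, Nat.reduceLeDiff, Nat.reduceAdd, Nat.reduceMul, Finset.Icc_self,
    Finset.prod_singleton]
  refine Nat.cast_injective (R := ℤ) ?_
  push_cast [cast_pow_sub h0, Nat.cast_sub h0]
  ring

theorem cent_vF4a {y : Fin chevF4.rank → ℤ} (hy : ∀ r, goodF4.pr y r = goodF4.vec r ⟨0, by decide⟩) :
    Nat.card (Subgroup.centralizer {(goodF4.grp_R3 F).τ fun j => (-1) ^ y j}) =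
      Fintype.card F ^ 16 * (Fintype.card F ^ 2 - 1) * (Fintype.card F ^ 4 - 1) * (Fintype.card F ^ 6 - 1) * (Fintype.card F ^ 8 - 1) := by
  have h := (goodF4.grp F).card_cent_vertex (goodF4.grp_R3 F) uniF4 vF4a (Good.orderOf_neg_one' hF) hy
  rw [Good.grp_Gr, top_inf_eq, vF4a', Nat.card_eq_fintype_card (α := F),
    show {j | j ≠ _} = {c | c ∈ ([⟨1, by decide⟩, ⟨2, by decide⟩, ⟨3, by decide⟩] : List (Fin chevF4.rank))} from
      Set.ext (by decide +kernel), poinF4y, poinF4x2, poinF4x3] at h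
  have h0 := Fintype.card_pos (α := F)
  rw [h, show ∀ a : ℕ, a ^ chevF4.rank = a ^ 4 from fun _ => rfl]
  simp only [List.not_mem_nil, Set.ofPred_false, Fold.poin_empty, List.map_cons, List.map_nil, List.sum_cons,
    List.sum_nil, Finset.prod_Icc_succ_top, Nat.reduceLeDiff, Nat.reduceAdd, Nat.reduceMul, Finset.Icc_self,
    Finset.prod_singleton]
  refine Nat.cast_injective (R := ℤ) ?_
  push_cast [cast_pow_sub h0, Nat.cast_sub h0]
  ring

theorem cent_vF4b {y : Fin chevF4.rank → ℤ} (hy : ∀ r, goodF4.pr y r = goodF4.vec r ⟨3, by decide⟩) :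
    Nat.card (Subgroup.centralizer {(goodF4.grp_R3 F).τ fun j => (-1) ^ y j}) =
      Fintype.card F ^ 10 * (Fintype.card F ^ 2 - 1) ^ 2 * (Fintype.card F ^ 4 - 1) * (Fintype.card F ^ 6 - 1) := by
  have h := (goodF4.grp F).card_cent_vertex (goodF4.grp_R3 F) uniF4 vF4b (Good.orderOf_neg_one' hF) hy
  rw [Good.grp_Gr, top_inf_eq, vF4b', Nat.card_eq_fintype_card (α := F),
    show {j | j ≠ _} = {c | c ∈ ([⟨0, by decide⟩, ⟨1, by decide⟩, ⟨2, by decide⟩] : List (Fin chevF4.rank))} from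
      Set.ext (by decide +kernel), poinF4x1, poinF4x2, poinF4x3] at h
  have h0 := Fintype.card_pos (α := F)
  rw [h, show ∀ a : ℕ, a ^ chevF4.rank = a ^ 4 from fun _ => rfl]
  simp only [List.not_mem_nil, Set.ofPred_false, Fold.poin_empty, List.map_cons, List.map_nil, List.sum_cons,
    List.sum_nil, Finset.prod_Icc_succ_top, Nat.reduceLeDiff, Nat.reduceAdd, Nat.reduceMul, Finset.Icc_self,
    Finset.prod_singleton]
  refine Nat.cast_injective (R := ℤ) ?_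
  push_cast [cast_pow_sub h0, Nat.cast_sub h0]
  ring

theorem cent_vE8a {y : Fin chevE8.rank → ℤ} (hy : ∀ r, goodE8.pr y r = goodE8.vec r ⟨0, by decide⟩) :
    Nat.card (Subgroup.centralizer {(goodE8.grp_R3 F).τ fun j => (-1) ^ y j}) =
      Fintype.card F ^ 56 * (Fintype.card F ^ 8 - 1) * ∏ i ∈ Finset.Icc 1 7, (Fintype.card F ^ (2 * i) - 1) := by
  have h := (goodE8.grp F).card_cent_vertex (goodE8.grp_R3 F) uniE8 vE8a (Good.orderOf_neg_one' hF) hy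
  rw [Good.grp_Gr, top_inf_eq, vE8a', Nat.card_eq_fintype_card (α := F),
    show {j | j ≠ _} = {c | c ∈ ([⟨1, by decide⟩, ⟨2, by decide⟩, ⟨3, by decide⟩, ⟨4, by decide⟩, ⟨5, by decide⟩, ⟨6, by decide⟩, ⟨7, by decide⟩] : List (Fin chevE8.rank))} from
      Set.ext (by decide +kernel), poinE8y7, poinE8y6, poinE8y5, poinE8x4, poinE8x5, poinE8x6, poinE8x7] at h
  have h0 := Fintype.card_pos (α := F)
  rw [h, show ∀ a : ℕ, a ^ chevE8.rank = a ^ 8 from fun _ => rfl]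
  simp only [List.not_mem_nil, Set.ofPred_false, Fold.poin_empty, List.map_cons, List.map_nil, List.sum_cons,
    List.sum_nil, Finset.prod_Icc_succ_top, Nat.reduceLeDiff, Nat.reduceAdd, Nat.reduceMul, Finset.Icc_self,
    Finset.prod_singleton]
  refine Nat.cast_injective (R := ℤ) ?_
  push_cast [cast_pow_sub h0, Nat.cast_sub h0]
  ring

theorem cent_vE8b {y : Fin chevE8.rank → ℤ} (hy : ∀ r, goodE8.pr y r = goodE8.vec r ⟨7, by decide⟩) :
    Nat.card (Subgroup.centralizer {(goodE8.grp_R3 F).τ fun j => (-1) ^ y j}) =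
      Fintype.card F ^ 64 * (Fintype.card F ^ 2 - 1) ^ 2 * (Fintype.card F ^ 6 - 1) * (Fintype.card F ^ 8 - 1) * (Fintype.card F ^ 10 - 1) * (Fintype.card F ^ 12 - 1) *
        (Fintype.card F ^ 14 - 1) * (Fintype.card F ^ 18 - 1) := by
  have h := (goodE8.grp F).card_cent_vertex (goodE8.grp_R3 F) uniE8 vE8b (Good.orderOf_neg_one' hF) hy
  rw [Good.grp_Gr, top_inf_eq, vE8b', Nat.card_eq_fintype_card (α := F),
    show {j | j ≠ _} = {c | c ∈ ([⟨0, by decide⟩, ⟨1, by decide⟩, ⟨2, by decide⟩, ⟨3, by decide⟩, ⟨4, by decide⟩, ⟨5, by decide⟩, ⟨6, by decide⟩] : List (Fin chevE8.rank))} from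
      Set.ext (by decide +kernel), poinE8x1, poinE8x2, poinE8x3, poinE8x4, poinE8x5, poinE8x6, poinE8x7] at h
  have h0 := Fintype.card_pos (α := F)
  rw [h, show ∀ a : ℕ, a ^ chevE8.rank = a ^ 8 from fun _ => rfl]
  simp only [List.not_mem_nil, Set.ofPred_false, Fold.poin_empty, List.map_cons, List.map_nil, List.sum_cons,
    List.sum_nil, Finset.prod_Icc_succ_top, Nat.reduceLeDiff, Nat.reduceAdd, Nat.reduceMul, Finset.Icc_self,
    Finset.prod_singleton]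
  refine Nat.cast_injective (R := ℤ) ?_
  push_cast [cast_pow_sub h0, Nat.cast_sub h0]
  ring

theorem Good.two_classes {D : ChevalleyDatum} {G : Good D}
    (hD : D ∈ [chevG2, chevB2, chevD4, chevF4, chevE6, chevE7, chevE8]) (hu : G.Uni) {θ : Fin D.nroots}
    {a b : Fin D.rank} (hθ : ∀ i, 2 ≤ G.vec θ i ∧ (G.vec θ i = 2 → i = a ∨ i = b))
    (h : (Finset.univ.filter fun r => (2 : ℤ) ∣ G.vec r a).card ≠ (Finset.univ.filter fun r => (2 : ℤ) ∣ G.vec r b).card)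
    {A B : ℕ} (ha : ∀ {y : Fin D.rank → ℤ}, (∀ r, G.pr y r = G.vec r a) →
      Nat.card (Subgroup.centralizer {(G.grp_R3 F).τ fun j => (-1) ^ y j}) = A)
    (hb : ∀ {y : Fin D.rank → ℤ}, (∀ r, G.pr y r = G.vec r b) →
      Nat.card (Subgroup.centralizer {(G.grp_R3 F).τ fun j => (-1) ^ y j}) = B) :
    ∃ s t : D.group F, orderOf s = 2 ∧ orderOf t = 2 ∧ ¬ IsConj s t ∧
      (∀ u : D.group F, orderOf u = 2 → IsConj u s ∨ IsConj u t) ∧ Nat.card (Subgroup.centralizer {s}) = A ∧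
        Nat.card (Subgroup.centralizer {t}) = B := by
  choose y hy using fun i => hu _ (G.add_vec i)
  replace hy := fun i r => (congrFun (hy i) r).symm
  refine ⟨_, _, Good.orderOf_inv hF (hy a), Good.orderOf_inv hF (hy b), fun e => h ?_, fun u h => ?_, ha (hy a), hb (hy b)⟩
  · obtain ⟨g, e⟩ := isConj_iff.1 e
    simpa only [hy, Nat.cast_ofNat] using (G.grp F).not_conj_vertex (G.grp_R3 F) (Good.orderOf_neg_one' hF)
      (G.grp_Gr F ▸ Subgroup.mem_top g) e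
  · obtain ⟨i, hi, e⟩ := Good.inv_class hD hu hF (fun i => (hθ i).1) hy h
    rcases (hθ i).2 hi with rfl | rfl
    exacts [Or.inl e, Or.inr e]

theorem inv_G2 {y : Fin chevG2.rank → ℤ} (hy : ∀ r, goodG2.pr y r = goodG2.vec r ⟨1, by decide⟩)
    {s : chevG2.group F} (hs : orderOf s = 2) : IsConj s ((goodG2.grp_R3 F).τ fun j => (-1) ^ y j) := by
  choose z hz using fun i => uniG2 _ (goodG2.add_vec i)
  replace hz := fun i r => (congrFun (hz i) r).symm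
  have h : ∀ i, 2 ≤ goodG2.vec ⟨11, by decide⟩ i ∧ (goodG2.vec ⟨11, by decide⟩ i = 2 → i = ⟨1, by decide⟩) := by
    decide +kernel
  obtain ⟨i, hi, e⟩ := Good.inv_class (by simp) uniG2 hF (fun i => (h i).1) hz hs
  rwa [(h i).2 hi, Good.zpow_ext uniG2 (y := z _) (z := y) fun j => by rw [hz, hy]] at e

theorem struct_G2 {t : chevG2.group F} (ht : orderOf t = 2) :
    Nat.card (Subgroup.centralizer {t}) = Fintype.card F ^ 2 * (Fintype.card F ^ 2 - 1) ^ 2 ∧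
    ∃ L₁ L₂ : Subgroup (chevG2.group F), Nonempty (L₁ ≃* Matrix.SpecialLinearGroup (Fin 2) F) ∧
      Nonempty (L₂ ≃* Matrix.SpecialLinearGroup (Fin 2) F) ∧ (∀ x ∈ L₁, ∀ y ∈ L₂, x * y = y * x) ∧
      L₁ ⊓ L₂ = Subgroup.zpowers t ∧ L₁ ⊔ L₂ ≤ Subgroup.centralizer {t} ∧
      (L₁ ⊔ L₂).relIndex (Subgroup.centralizer {t}) = 2 := by
  obtain ⟨y, hy⟩ := uniG2 _ (goodG2.add_vec ⟨1, by decide⟩)
  replace hy := fun r => (congrFun hy r).symm
  set C := goodG2.grp F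
  have h3 := goodG2.grp_R3 F
  obtain ⟨g, e⟩ := isConj_iff.1 (inv_G2 hF hy ht).symm
  have h1 := cent_vG2 hF hy
  have h2 : ∀ r, (∀ j, (2 : ℤ) ∣ goodG2.A r (goodG2.sm j) - goodG2.vec (goodG2.sm j) ⟨1, by decide⟩) →
      ∃ φ : Matrix.SpecialLinearGroup (Fin 2) F →* chevG2.group F, Function.Injective φ ∧ φ (-1) = t ∧
        φ.range = (C.US {r, r.rev}).map (MulAut.conj g).toMonoidHom := fun r hr => by
    obtain ⟨φ, a, b⟩ := C.exists_sl2 h3 r
    have h4 : C.h r (-1) = h3.τ fun j => (-1) ^ y j := (h3.h_eq_τ r (-1)).trans (congrArg _ (Good.zpow_ext uniG2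
      fun j => by rw [← orderOf_dvd_sub_iff_zpow_eq_zpow, Good.orderOf_neg_one' hF, hy, goodG2.pr_cov]; exact hr j))
    refine ⟨(MulAut.conj g).toMonoidHom.comp φ, (MulAut.conj g).injective.comp (Cover.sl2_injective a b fun h => ?_),
      by simp [Cover.sl2_neg a b, h4, e], by rw [MonoidHom.range_comp, Cover.sl2_range a b]⟩
    rw [← e, ← h4, h] at ht
    simp at ht
  obtain ⟨φ, a1, a2, a3⟩ := h2 ⟨7, by decide⟩ (by decide +kernel)
  obtain ⟨ψ, b1, b2, b3⟩ := h2 ⟨11, by decide⟩ (by decide +kernel)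
  have h4 : ∀ x ∈ φ.range, ∀ y ∈ ψ.range, x * y = y * x := by
    rw [a3, b3]
    rintro _ ⟨x, hx, rfl⟩ _ ⟨z, hz, rfl⟩
    refine (Commute.map (C.commute_US (fun r hr s => (C.commute_US (fun r' hr' s' =>
      C.comm_of_cm (p := 0) Int.cast_zero ?_ _ _) hz).symm) hx) _).eq
    rcases hr with rfl | rfl <;> rcases hr' with rfl | rfl <;> decide +kernel
  have h5 : Nat.card (Subgroup.centralizer {t}) = Fintype.card F ^ 2 * (Fintype.card F ^ 2 - 1) ^ 2 := by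
    rw [← h1, ← e]
    exact (Nat.card_congr ((MulAut.conj g).toEquiv.subtypeEquiv fun a => by
      simp only [Subgroup.mem_centralizer_singleton_iff, MulEquiv.toEquiv_eq_coe, EquivLike.coe_coe,
        MulAut.conj_apply, conj_mul, mul_left_inj, mul_right_inj])).symm
  have h6 : φ.range ⊓ ψ.range = Subgroup.zpowers t := by
    refine le_antisymm ?_ (Subgroup.zpowers_le.2 ⟨⟨_, a2⟩, ⟨_, b2⟩⟩)
    rintro _ ⟨⟨a, rfl⟩, h⟩
    rcases CfsgH1.sl2_center (Subgroup.mem_center_iff.2 fun b => a1 (by simpa using h4 _ ⟨b, rfl⟩ _ h)) with rfl | rfl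
    exacts [by simp, a2 ▸ Subgroup.mem_zpowers _]
  have h7 : φ.range ⊔ ψ.range ≤ Subgroup.centralizer {t} := sup_le
    (fun x hx => Subgroup.mem_centralizer_singleton_iff.2 (h4 x hx t ⟨_, b2⟩))
    fun x hx => Subgroup.mem_centralizer_singleton_iff.2 (h4 t ⟨_, a2⟩ x hx).symm
  refine ⟨h5, φ.range, ψ.range, ⟨(MonoidHom.ofInjective a1).symm⟩, ⟨(MonoidHom.ofInjective b1).symm⟩, h4, h6, h7, ?_⟩
  have h8 := CfsgH1.card_sup_mul_card_inf (H := ψ.range) (N := φ.range)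
    ((show ψ.range ≤ Subgroup.centralizer φ.range from fun y hy x hx => h4 x hx y hy).trans
      (Subgroup.centralizer_le_normalizer _))
  rw [h6, Nat.card_zpowers, ht, ← Nat.card_congr (MonoidHom.ofInjective a1).toEquiv,
    ← Nat.card_congr (MonoidHom.ofInjective b1).toEquiv, CfsgH5.card_SL2] at h8
  refine Nat.eq_of_mul_eq_mul_left (Nat.card_pos (α := ↥(φ.range ⊔ ψ.range))) ?_
  rw [CfsgH1.card_mul_relIndex h7, h5, h8]
  ring

end CfsgH6
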