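import Mathlib
import Cfsg.Agent.H8.GL2b
import Cfsg.Agent.H1.KW

set_option autoImplicit false
open Subgroup Matrix CfsgH8

namespace CfsgH6.Nc

section gen
variable {Γ : Type*} [Group Γ]

/-- a nilpotent minimal cover, pulled back along the central quotient -/
structure NC (G : Subgroup Γ) (𝓒 : Set (Subgroup Γ)) : Prop where
  nil : ∀ A ∈ 𝓒, Group.IsNilpotent (A.map (QuotientGroup.mk' (center Γ)))
  cen : ∀ A ∈ 𝓒, center Γ ≤ A
  pro : ∀ A ∈ 𝓒, ¬ G ≤ A
  cov : ∀ g ∈ G, ∃ A ∈ 𝓒, g ∈ A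
  min : ∀ A0 ∈ 𝓒, ∀ φ : Subgroup Γ → Subgroup Γ, (∀ A ∈ 𝓒, center Γ ≤ φ A ∧ ¬ G ≤ φ A) →
    ¬ ∀ g ∈ G, ∃ A ∈ 𝓒, A ≠ A0 ∧ g ∈ φ A

theorem up (G : Subgroup (Γ ⧸ center Γ)) (h : ∃ 𝓐 : Finset (Subgroup ↥G), ((∀ A ∈ 𝓐, A ≠ ⊤) ∧
    (∀ g : ↥G, ∃ A ∈ 𝓐, g ∈ A)) ∧ (∀ 𝓑 : Finset (Subgroup ↥G), (∀ A ∈ 𝓑, A ≠ ⊤) ∧
      (∀ g : ↥G, ∃ A ∈ 𝓑, g ∈ A) → 𝓐.card ≤ 𝓑.card) ∧ (∀ A ∈ 𝓐, Group.IsNilpotent ↥A)) :
    ∃ 𝓒, NC (G.comap (QuotientGroup.mk' (center Γ))) 𝓒 := by
  classical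
  obtain ⟨𝓐, ⟨h1, h2⟩, h3, h4⟩ := h
  have sj := QuotientGroup.mk'_surjective (center Γ)
  refine ⟨(fun A : Subgroup G => (A.map G.subtype).comap (QuotientGroup.mk' (center Γ))) '' 𝓐, ?_, ?_, ?_,
    fun g hg => ?_, ?_⟩
  · rintro _ ⟨A, hA, rfl⟩
    haveI := h4 A hA
    rw [map_comap_eq_self_of_surjective sj]
    exact Group.nilpotent_of_mulEquiv (A.equivMapOfInjective _ G.subtype_injective)
  · rintro _ ⟨A, -, rfl⟩
    exact (QuotientGroup.ker_mk' _).ge.trans (ker_le_comap _ _)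
  · rintro _ ⟨A, hA, rfl⟩ h5
    refine h1 A hA (top_le_iff.1 fun x _ => ?_)
    obtain ⟨y, hy, e⟩ := comap_le_comap_of_surjective sj |>.1 h5 x.2
    exact Subtype.ext e ▸ hy
  · obtain ⟨A, hA, h5⟩ := h2 ⟨_, hg⟩
    exact ⟨_, ⟨A, hA, rfl⟩, _, h5, rfl⟩
  · rintro _ ⟨A0, hA0, rfl⟩ φ hφ H
    refine (h3 ((𝓐.erase A0).image fun A => ((φ ((A.map G.subtype).comap
      (QuotientGroup.mk' (center Γ)))).map (QuotientGroup.mk' (center Γ))).comap G.subtype)
      ⟨fun B hB => ?_, fun x => ?_⟩).not_gt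
      (Finset.card_image_le.trans_lt (Finset.card_erase_lt_of_mem hA0))
    · obtain ⟨A, hA, rfl⟩ := Finset.mem_image.1 hB
      obtain ⟨k1, k2⟩ := hφ _ ⟨A, Finset.mem_of_mem_erase hA, rfl⟩
      refine fun e => k2 fun g hg => ?_
      rw [← comap_map_eq_self ((QuotientGroup.ker_mk' _).le.trans k1)]
      exact e.ge (mem_top (⟨_, hg⟩ : G))
    · obtain ⟨g, hg⟩ := sj x.1
      obtain ⟨_, ⟨A, hA, rfl⟩, k1, k2⟩ := H g (by rw [mem_comap, hg]; exact x.2)
      exact ⟨_, Finset.mem_image_of_mem _ (Finset.mem_erase.2 ⟨fun e => k1 (by rw [e]), hA⟩), g, k2, hg⟩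

variable {G : Subgroup Γ} {𝓒 : Set (Subgroup Γ)}

theorem NC.pair (h : NC G 𝓒) {A B M : Subgroup Γ} (hA : A ∈ 𝓒) (hB : B ∈ 𝓒) (ne : A ≠ B)
    (h1 : A ≤ M) (h2 : B ≤ M) : G ≤ M := by
  classical
  by_contra h3
  refine h.min B hB (fun C => if C = A then M else C) (fun C hC => ?_) fun g hg => ?_
  · split_ifs
    exacts [⟨(h.cen A hA).trans h1, h3⟩, ⟨h.cen C hC, h.pro C hC⟩]
  · obtain ⟨C, hC, h4⟩ := h.cov g hg
    by_cases e : C = B
    · exact ⟨A, hA, ne, by simpa using h2 (e ▸ h4)⟩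
    · refine ⟨C, hC, e, ?_⟩
      split_ifs with e'
      exacts [h1 (e' ▸ h4), h4]

theorem NC.nil' (h : NC G 𝓒) {A : Subgroup Γ} (hA : A ∈ 𝓒) : Group.IsNilpotent A := by
  haveI := h.nil A hA
  refine Subgroup.isNilpotent_of_ker_le_center ((QuotientGroup.mk' (center Γ)).subgroupMap A)
    fun a ha => mem_center_iff.2 fun b => Subtype.ext ?_
  exact mem_center_iff.1 ((QuotientGroup.eq_one_iff _).1 (congrArg Subtype.val ha)) b

end gen

variable {F : Type*} [Field F] [Fintype F]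

section big
variable {n : ℕ}

theorem line {A : Type*} [Group A] [Finite A] [Group.IsNilpotent A] (p : ℕ) [Fact p.Prime] [CharP F p]
    (ρ : A →* Matrix (Fin n) (Fin n) F) {u : A} {k : ℕ} (hu : u ^ p ^ k = 1) {i : Fin n}
    (hi : ∀ v, ρ u *ᵥ v = v → ∀ j ≠ i, v j = 0) (a : A) {j : Fin n} (hj : j ≠ i) : ρ a j i = 0 := by
  letI : MulAction A (Fin n → F) :=
    { smul := fun a v => ρ a *ᵥ v
      one_smul := fun v => by change ρ 1 *ᵥ v = v; simp
      mul_smul := fun a b v => by change ρ (a * b) *ᵥ v = ρ a *ᵥ (ρ b *ᵥ v); simp }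
  obtain ⟨P, hP⟩ := (IsPGroup.of_card_dvd_pow (p := p) (G := zpowers u) (n := k) (by
    rw [Nat.card_zpowers]; exact orderOf_dvd_of_pow_eq_one hu)).exists_le_sylow
  obtain ⟨v, hv, v0⟩ := P.2.exists_fixed_point_of_prime_dvd_card_of_fixed_point (Fin n → F) (by
    obtain ⟨m, -, hm⟩ := FiniteField.card F p
    rw [Nat.card_eq_fintype_card, Fintype.card_fun, hm, Fintype.card_fin]
    exact dvd_pow (dvd_pow_self _ m.ne_zero) i.pos.ne') (a := 0) fun a => mulVec_zero _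
  have h1 := hi v (hv ⟨u, hP (mem_zpowers u)⟩)
  have h2 := hi (ρ a *ᵥ v) (by
    have : ρ (a⁻¹ * u * a) *ᵥ v = v :=
      hv ⟨_, by simpa using (inferInstance : (P : Subgroup A).Normal).conj_mem u (hP (mem_zpowers u)) a⁻¹⟩
    conv_rhs => rw [← this]
    simp [← map_mul, ← mul_assoc]) j hj
  rw [mulVec, dotProduct, Finset.sum_eq_single i (fun l _ hl => by rw [h1 l hl, mul_zero])
    (by simp)] at h2
  refine (mul_eq_zero.1 h2).resolve_right fun h3 => v0 (funext fun l => ?_)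
  by_cases hl : l = i
  exacts [(hl ▸ h3).symm, (h1 l hl).symm]

variable (F) in
/-- regular unipotent matrices -/
def JJ (σ : Equiv.Perm (Fin n)) : Matrix (Fin n) (Fin n) F :=
  1 + Matrix.of fun i j => if (σ i : ℕ) + 1 = σ j then 1 else 0

omit [Fintype F] in
theorem JJ_eq (σ : Equiv.Perm (Fin n)) : JJ F σ = reindexAlgEquiv F F σ.symm (JJ F 1) := by
  rw [JJ, JJ, map_add, map_one]; rfl

omit [Fintype F] in
theorem tri_N : (Matrix.of fun i j : Fin n => if (i : ℕ) + 1 = j then (1 : F) else 0).IsUpperTriangular :=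
  fun i j h => if_neg (by have : (j : ℕ) < i := h; omega)

omit [Fintype F] in
theorem det_JJ (σ : Equiv.Perm (Fin n)) : (JJ F σ).det = 1 := by
  rw [JJ_eq, det_reindexAlgEquiv, JJ, det_of_isUpperTriangular (blockTriangular_one.add tri_N)]
  simp

omit [Fintype F] in
theorem pow_JJ (p : ℕ) [Fact p.Prime] [CharP F p] [NeZero n] (σ : Equiv.Perm (Fin n)) :
    JJ F σ ^ p ^ n = 1 := by
  have h1 := aeval_self_charpoly (Matrix.of fun i j : Fin n => if (i : ℕ) + 1 = j then (1 : F) else 0)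
  rw [charpoly_of_isUpperTriangular _ tri_N] at h1
  simp at h1
  rw [JJ_eq, ← map_pow, JJ, add_pow_char_pow_of_commute _ _ (Commute.one_left _), one_pow,
    pow_eq_zero_of_le (Nat.lt_pow_self (Fact.out : p.Prime).one_lt).le (by exact h1), add_zero,
    map_one]

omit [Fintype F] in
theorem fix_JJ (σ : Equiv.Perm (Fin n)) {v : Fin n → F} (hv : JJ F σ *ᵥ v = v) {j : Fin n}
    (hj : (σ j : ℕ) ≠ 0) : v j = 0 := by
  rw [JJ, add_mulVec, one_mulVec, add_eq_left] at hv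
  have := congrFun hv (σ.symm ⟨σ j - 1, by omega⟩)
  rwa [mulVec, dotProduct, Finset.sum_eq_single j (fun l _ hl => by
    rw [of_apply, if_neg, zero_mul]
    exact fun e => hl (σ.injective (Fin.ext (by simp at e; omega)))) (by simp), of_apply,
    if_pos (by simp; omega), one_mul] at this

omit [Fintype F] in
theorem JJ_tr (σ : Equiv.Perm (Fin n)) : (JJ F σ)ᵀ = JJ F (σ.trans Fin.revPerm) := by
  rw [JJ, JJ, transpose_add, transpose_one]
  congr 1
  ext i j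
  simp only [transpose_apply, of_apply, Equiv.trans_apply, Fin.revPerm_apply, Fin.val_rev]
  exact if_congr (by omega) rfl rfl

variable (F) in
/-- regular unipotent elements -/
noncomputable def UU (σ : Equiv.Perm (Fin n)) : GL (Fin n) F :=
  GeneralLinearGroup.mkOfDetNeZero (JJ F σ) (by rw [det_JJ]; exact one_ne_zero)

theorem three {G : Subgroup (GL (Fin (n + 3)) F)} (hG : ∀ g : GL (Fin (n + 3)) F, g.1.det = 1 → g ∈ G)
    {𝓒 : Set (Subgroup (GL (Fin (n + 3)) F))} (h : NC G 𝓒) : False := by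
  obtain ⟨p, _⟩ := CharP.exists F
  haveI := Fact.mk (CharP.char_is_prime F p)
  have pw : ∀ σ, UU F σ ^ p ^ (n + 3) = 1 := fun σ => Units.ext (pow_JJ p σ)
  let M : Subgroup (GL (Fin (n + 3)) F) := ⟨⟨⟨{g | ∃ c : F, g.1 *ᵥ Pi.single 0 1 = c • Pi.single 0 1},
    by rintro a b ⟨c, hc⟩ ⟨d, hd⟩
       exact ⟨d * c, by rw [Units.val_mul, ← mulVec_mulVec, hd, mulVec_smul, hc, mul_smul]⟩⟩,
    ⟨1, by rw [Units.val_one, one_mulVec, one_smul]⟩⟩, by
      rintro a ⟨c, hc⟩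
      have := congrArg (a⁻¹.1 *ᵥ ·) hc
      simp only [mulVec_mulVec, Units.inv_mul, one_mulVec, mulVec_smul] at this
      have c0 : c ≠ 0 := by rintro rfl; simpa using congrFun this 0
      exact ⟨c⁻¹, by conv_rhs => rw [this, inv_smul_smul₀ c0]⟩⟩
  have le : ∀ σ : Equiv.Perm (Fin (n + 3)), σ 0 = 0 → ∀ A ∈ 𝓒, UU F σ ∈ A → A ≤ M :=
    fun σ h0 A hA hu a ha => by
      haveI := h.nil' hA
      refine ⟨a.1 0 0, funext fun j => ?_⟩
      by_cases hj : j = 0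
      · simp [hj]
      · simpa [hj] using line p ((Units.coeHom _).comp A.subtype) (u := ⟨_, hu⟩) (Subtype.ext (pw σ))
          (i := 0) (fun v hv j hj => fix_JJ σ hv fun e => hj (σ.injective (Fin.ext (by rw [e, h0]; rfl))))
          ⟨a, ha⟩ hj
  obtain ⟨A, hA, h1⟩ := h.cov _ (hG (UU F 1) (det_JJ _))
  obtain ⟨B, hB, h2⟩ := h.cov _ (hG (UU F (Equiv.swap 1 (Fin.last _))) (det_JJ _))
  have l1 : (1 : Fin (n + 3)) ≠ Fin.last _ := by simp [Fin.ext_iff]
  refine (fun ne : A ≠ B => ?_) ?_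
  · obtain ⟨c, hc⟩ := h.pair hA hB ne (le _ rfl A hA h1)
      (le _ (Equiv.swap_apply_of_ne_of_ne zero_ne_one (Fin.last_pos.ne)) B hB h2)
      (hG (UU F (Equiv.swap 0 1)) (det_JJ _))
    simpa [UU, JJ] using congrFun hc 1
  · rintro rfl
    haveI := h.nil' hA
    let ρ : A →* Matrix (Fin (n + 3)) (Fin (n + 3)) F :=
      ⟨⟨fun a => (a.1⁻¹.1)ᵀ, by simp⟩, fun a b => by simp⟩
    have e2 : Fin.last (n + 2) ≠ Equiv.swap 1 (Fin.last _) ⟨2, by omega⟩ := fun e => by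
      rw [eq_comm, Equiv.swap_apply_eq_iff, Equiv.swap_apply_right] at e
      simp [Fin.ext_iff] at e
    have := line p ρ (u := (⟨_, h1⟩ : A)⁻¹) (by rw [inv_pow, inv_eq_one]; exact Subtype.ext (pw 1))
      (i := Fin.last _) (fun v hv j hj => fix_JJ (Equiv.trans (1 : Equiv.Perm (Fin (n + 3))) Fin.revPerm) (by
        change (((UU F _)⁻¹)⁻¹.1)ᵀ *ᵥ v = v at hv
        rw [← JJ_tr]; rwa [inv_inv] at hv) fun e => hj (Fin.ext (by
          simp [Fin.val_rev] at e ⊢; omega))) (⟨_, h2⟩ : A)⁻¹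
      e2.symm
    change (((UU F _)⁻¹)⁻¹.1)ᵀ _ _ = 0 at this
    rw [inv_inv] at this
    simp [UU, JJ, one_apply_ne e2] at this

end big

section two
local notation "GL2" => GL (Fin 2) F
local notation "q" => Fintype.card F
variable {G : Subgroup (GL (Fin 2) F)} {𝓒 : Set (Subgroup (GL (Fin 2) F))}

omit [Fintype F] in
theorem cen_iff {g : GL2} : g ∈ center GL2 ↔ IsSc g.1 := by
  refine ⟨fun h => ?_, fun h => mem_center_iff.2 fun a => Units.ext (h.comm _).symm⟩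
  obtain ⟨a, ha⟩ := GeneralLinearGroup.mem_center_iff_val_mem_range_scalar.1 h
  simp [← ha, IsSc]

theorem NC.ab (h : NC G 𝓒) {A : Subgroup GL2} (hA : A ∈ 𝓒) {r : ℕ} (hr : r.Prime)
    (h2 : ∀ a : Fˣ, a ^ 2 = 1 → a ^ r = 1 → a = 1) {x : GL2} (hx : x ∈ A) (x1 : ¬ IsSc x.1)
    (xr : x ^ r = 1) : A ≤ centralizer {x} ∧ centralizer A = centralizer {x} := by
  haveI := Fact.mk hr
  obtain ⟨_, ⟨⟨y, hy, rfl⟩, h3⟩, h4⟩ := CfsgH1.exists_center_prime (h.nil A hA) hr (by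
    rw [← orderOf_eq_prime (p := r) (x := QuotientGroup.mk' (center GL2) x) (by rw [← map_pow, xr, map_one])
      fun e => x1 (cen_iff.1 ((QuotientGroup.eq_one_iff _).1 e))]
    exact Subgroup.orderOf_dvd_natCard _ (mem_map_of_mem _ hx))
  have y1 : ¬ IsSc y.1 := fun e => hr.one_lt.ne' (by
    rw [← h4, orderOf_eq_one_iff]; exact (QuotientGroup.eq_one_iff _).2 (cen_iff.2 e))
  have y2 : y ^ r ∈ center GL2 := (QuotientGroup.eq_one_iff _).1 (by
    rw [← h4]; exact pow_orderOf_eq_one (QuotientGroup.mk' (center GL2) y))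
  have h5 : ∀ g ∈ A, g.1 * y.1 = y.1 * g.1 := fun g hg => by
    have k1 : g * y * g⁻¹ * y⁻¹ ∈ center GL2 := (QuotientGroup.eq_one_iff _).1 (by
      have := h3 _ (mem_map_of_mem _ hg)
      simp only [QuotientGroup.mk'_apply] at this
      simp [this])
    obtain ⟨a, ha⟩ := (cen_iff.1 k1).exists_sc
    have k2 := congrArg GeneralLinearGroup.det ha
    have k3 : (g * y * g⁻¹) ^ r = (sc a * y) ^ r := by rw [← ha]; simp
    rw [conj_pow, mem_center_iff.1 y2 g, mul_inv_cancel_right, Commute.mul_pow (sc_comm a y),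
      right_eq_mul, ← map_pow, ← map_one sc, eq_comm] at k3
    rw [h2 a (Units.ext (by simpa [sq, det_fin_two, Units.ext_iff, eq_comm] using k2))
      (sc_injective k3.symm), map_one, mul_inv_eq_one, mul_inv_eq_iff_eq_mul] at ha
    exact congrArg Units.val ha
  have h6 : A ≤ centralizer {x} := fun g hg => mem_centralizer_gl.2 (comm_of_comm y1 (h5 g hg) (h5 x hx))
  exact ⟨h6, le_antisymm (centralizer_le (Set.singleton_subset_iff.2 hx)) fun g hg a ha => Units.ext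
    (comm_of_comm x1 (mem_centralizer_gl.1 (h6 ha)) (mem_centralizer_gl.1 hg))⟩

omit [Fintype F] in
theorem conj_iff {k x y : GL2} : k * y * k⁻¹ ∈ centralizer {k * x * k⁻¹} ↔ y ∈ centralizer {x} := by
  simp only [mem_centralizer_singleton_iff, ← mul_assoc, inv_mul_cancel_right, mul_left_inj]
  simp [mul_assoc]

omit [Fintype F] in
theorem norm_iff {x g : GL2} (x1 : ¬ IsSc x.1) :
    g ∈ normalizer (centralizer {x} : Subgroup GL2) ↔ g * x * g⁻¹ ∈ centralizer {x} := by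
  refine ⟨fun h => (mem_normalizer_iff.1 h x).1 (mem_centralizer_singleton_iff.2 rfl), fun h =>
    mem_normalizer_iff.2 fun a => ?_⟩
  conv_rhs => rw [← centralizer_eq_of_not_isSc x1 (mt (isSc_iff_of_isConj (isConj_iff.2 ⟨g, rfl⟩)).2 x1) h]
  exact conj_iff.symm

theorem two (h4 : 4 ≤ q) (hG : ∀ g : GL2, g.1.det = 1 → g ∈ G) (h : NC G 𝓒) : False := by
  classical
  obtain ⟨p, _⟩ := CharP.exists F
  have hp := CharP.char_is_prime F p
  haveI := Fact.mk hp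
  have u1 : ∀ k : GL2, ¬ IsSc (k * tri 1 1 1 * k⁻¹).1 := fun k e => by
    simpa using isSc_tri.1 ((isSc_iff_of_isConj (isConj_iff.2 ⟨k, rfl⟩)).2 e)
  have u2 : ∀ k : GL2, (k * tri 1 1 1 * k⁻¹).1.det = 1 := fun k => by
    rw [← det_eq_of_isConj (isConj_iff.2 ⟨k, rfl⟩)]; simp [det_fin_two]
  have u3 : ∀ k : GL2, ∀ A ∈ 𝓒, k * tri 1 1 1 * k⁻¹ ∈ A → A ≤ centralizer {k * tri 1 1 1 * k⁻¹} ∧
      centralizer A = centralizer {k * tri 1 1 1 * k⁻¹} := fun k A hA hu => by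
    refine h.ab hA hp (fun a _ e => Units.ext ?_) hu (u1 k) ?_
    · exact frobenius_inj F p (by simpa [frobenius_def] using congrArg Units.val e)
    · have : ∀ j : ℕ, tri (1 : Fˣ) 1 1 ^ j = tri 1 (j : F) 1 := fun j => by
        induction j with
        | zero => simp [tri_one]
        | succ j ih => rw [pow_succ, ih, tri_mul]; simp [add_comm]
      rw [conj_pow, this, CharP.cast_eq_zero, tri_one]; simp
  have l1 : mk2 (1 : F) 0 1 1 (by simp) ∈ G := hG _ (by simp [det_fin_two])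
  have t1 : ∀ a : Fˣ, a ^ 2 ≠ 1 → a ≠ a⁻¹ := fun a ha e => ha (by rw [sq]; exact mul_eq_one_iff_eq_inv.2 e)
  have t2 : ∀ a : Fˣ, tri a 0 a⁻¹ ∈ G := fun a => hG _ (by simp [det_fin_two])
  have od : ∀ r : ℕ, Odd r → ∀ a : Fˣ, a ^ 2 = 1 → a ^ r = 1 → a = 1 := by
    rintro _ ⟨j, rfl⟩ a h1 h2
    rwa [pow_succ, pow_mul, h1, one_pow, one_mul] at h2
  by_cases hA : ∃ r : ℕ, r.Prime ∧ r ∣ q - 1 ∧ Odd r
  · obtain ⟨r, hr, h1, h2⟩ := hA
    haveI := Fact.mk hr
    obtain ⟨a, ha⟩ := exists_prime_orderOf_dvd_card' (G := Fˣ) r (natCard_units_eq (F := F) ▸ h1)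
    have a2 : a ≠ a⁻¹ := t1 a fun e => hr.one_lt.ne' (by
      rw [← ha, od r h2 a e (ha ▸ pow_orderOf_eq_one a), orderOf_one])
    obtain ⟨A, hA, h3⟩ := h.cov _ (t2 a)
    obtain ⟨B, hB, h5⟩ := h.cov _ (hG _ (u2 1))
    have h6 := (h.ab hA hr (od r h2) h3 (by rw [isSc_tri]; simp [a2]) (by
      have : ∀ j : ℕ, tri a 0 a⁻¹ ^ j = tri (a ^ j) 0 (a ^ j)⁻¹ := fun j => by
        induction j with
        | zero => simp [tri_one]
        | succ j ih => rw [pow_succ, ih, tri_mul]; simp [pow_succ, mul_comm]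
      rw [this, ← ha, pow_orderOf_eq_one, inv_one, tri_one])).1
    have h7 := (u3 1 B hB h5).1
    simp only [one_mul, inv_one, mul_one] at h5 h7
    have := h.pair (M := Cfsg.upperTriangularGL 2 F) hA hB
      (by rintro rfl; simpa using ((mem_centralizer_diag a2).1 (h6 h5)).1)
      (fun g hg => mem_B2.2 ((mem_centralizer_diag a2).1 (h6 hg)).2)
      (fun g hg => mem_B2.2 (mem_ZU.1 (h7 hg)).1) l1
    simpa using mem_B2.1 this
  have q1 : 4 ∣ q - 1 := (Nat.four_dvd_or_exists_odd_prime_and_dvd_of_two_lt (by omega)).resolve_right hA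
  obtain ⟨r, hr, h1, h2⟩ := (Nat.four_dvd_or_exists_odd_prime_and_dvd_of_two_lt (n := q + 1)
    (by omega)).resolve_left (by omega)
  haveI := Fact.mk hr
  haveI := Fact.mk Nat.prime_two
  have r1 : ∀ a : Fˣ, a ^ r = 1 → a = 1 := fun a e => by
    by_contra a1
    exact hA ⟨r, hr, by rw [← orderOf_eq_prime e a1, ← natCard_units_eq]; exact orderOf_dvd_natCard a, h2⟩
  obtain ⟨a, ha⟩ := IsCyclic.exists_ofOrder_eq_natCard (α := Fˣ)
  have a2 : a ≠ a⁻¹ := t1 a fun e => by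
    have := Nat.le_of_dvd two_pos (orderOf_dvd_of_pow_eq_one e)
    rw [ha, natCard_units_eq] at this; omega
  obtain ⟨A0, hA0, h3⟩ := h.cov _ (t2 a)
  refine h.min A0 hA0 (fun A => if ∃ k : GL2, k * tri 1 1 1 * k⁻¹ ∈ A then
    normalizer (centralizer A : Subgroup GL2) else if ∃ s ∈ A, ¬ IsSc s.1 ∧ s ^ r = 1 then centralizer A
      else A) (fun A hA => ?_) fun g hg => ?_
  · split_ifs with k1 k2
    · obtain ⟨k, hk⟩ := k1
      refine ⟨center_le_normalizer _, fun e => ?_⟩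
      have := e (hG (k * mk2 (1 : F) 0 1 1 (by simp) * k⁻¹) (by
        rw [← det_eq_of_isConj (isConj_iff.2 ⟨k, rfl⟩)]; simp [det_fin_two]))
      rw [(u3 k A hA hk).2, norm_iff (u1 k), show ∀ l u : GL2, k * l * k⁻¹ * (k * u * k⁻¹) *
        (k * l * k⁻¹)⁻¹ = k * (l * u * l⁻¹) * k⁻¹ from fun l u => by group, conj_iff,
        show mk2 (1 : F) 0 1 1 (by simp) * tri 1 1 1 * (mk2 (1 : F) 0 1 1 (by simp))⁻¹ =
          mk2 (0 : F) 1 (-1) 2 (by simp) from mul_inv_eq_of_eq_mul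
          (gl2_ext (by simp [gl2_mul]) (by simp [gl2_mul]) (by simp [gl2_mul]; norm_num)
            (by simp [gl2_mul]; norm_num))] at this
      simpa using (mem_ZU.1 this).1
    · obtain ⟨s, hs, s1, s2⟩ := k2
      refine ⟨center_le_centralizer _, fun e => s1 ?_⟩
      have e1 := mem_ZU.1 (mem_centralizer_singleton_iff.2 (e (hG (tri 1 1 1) (by simp [det_fin_two])) s hs))
      have e2 := congrArg (fun g : GL2 => g.1 0 0) (e l1 s hs)
      exact ⟨by simpa [gl2_mul] using e2, e1.1, e1.2⟩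
    · exact ⟨h.cen A hA, h.pro A hA⟩
  · rcases ell_or_isConj_tri g with k1 | ⟨b, x, d, k1⟩
    · obtain ⟨⟨s, hs⟩, h5⟩ := exists_prime_orderOf_dvd_card' (G := centralizer ({g} : Set GL2)) r (by
        rw [card_centralizer_ell k1, ← one_pow 2, Nat.sq_sub_sq]; exact h1.mul_right _)
      replace h5 : orderOf s = r := (orderOf_coe _).trans h5
      have s2 : s ^ r = 1 := h5 ▸ pow_orderOf_eq_one s
      have s1 : ¬ IsSc s.1 := fun e => by
        obtain ⟨c, rfl⟩ := e.exists_sc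
        rw [← map_pow, ← map_one sc] at s2
        rw [r1 c (sc_injective s2), map_one, orderOf_one] at h5
        exact hr.one_lt.ne h5
      have s3 := k1.of_comm (mem_centralizer_gl.1 hs) s1
      obtain ⟨A, hA, h6⟩ := h.cov s (hG s (congrArg Units.val (r1 (GeneralLinearGroup.det s) (by
        rw [← map_pow, s2, map_one]))))
      obtain ⟨h7, h8⟩ := h.ab hA hr (od r h2) h6 s1 s2
      refine ⟨A, hA, ?_, ?_⟩
      · rintro rfl
        exact not_ell_tri _ _ _ (s3.of_comm (mem_centralizer_gl.1 (h7 h3)) (by rw [isSc_tri]; simp [a2]))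
      · rw [if_neg, if_pos ⟨s, h6, s1, s2⟩, h8]
        · exact mem_centralizer_gl.2 (mem_centralizer_gl.1 hs).symm
        · rintro ⟨k, hk⟩
          exact not_ell_tri _ _ _ ((ell_iff_of_isConj (isConj_iff.2 ⟨k, rfl⟩)).2
            (s3.of_comm (mem_centralizer_gl.1 (h7 hk)) (u1 k)))
    · obtain ⟨k, rfl⟩ := isConj_iff.1 k1.symm
      obtain ⟨A, hA, h6⟩ := h.cov _ (hG _ (u2 k))
      obtain ⟨h7, h8⟩ := u3 k A hA h6
      refine ⟨A, hA, ?_, ?_⟩
      · rintro rfl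
        have e1 := (mem_centralizer_diag a2).1 (mem_centralizer_singleton_iff.2
          (mem_centralizer_singleton_iff.1 (h7 h3)).symm)
        have e2 := u2 k
        have e3 := trace_eq_of_isConj (isConj_iff.2 ⟨k, rfl⟩ : IsConj (tri (1 : Fˣ) 1 1) _)
        refine u1 k ⟨e1.1, e1.2, ?_⟩
        rw [det_fin_two, e1.1] at e2
        rw [trace_fin_two, trace_fin_two] at e3
        simp only [tri_val, of_apply, cons_val', cons_val_zero, cons_val_one, cons_val_fin_one,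
          Units.val_one] at e3
        exact sub_eq_zero.1 (pow_eq_zero_iff two_ne_zero |>.1 (by
          linear_combination (-(k * tri 1 1 1 * k⁻¹).1 0 0 - (k * tri 1 1 1 * k⁻¹).1 1 1 - 2) * e3 - 4 * e2))
      · rw [if_pos ⟨k, h6⟩, h8, norm_iff (u1 k), show ∀ l u : GL2, k * l * k⁻¹ * (k * u * k⁻¹) *
          (k * l * k⁻¹)⁻¹ = k * (l * u * l⁻¹) * k⁻¹ from fun l u => by group, conj_iff,
          show tri b x d * tri 1 1 1 * (tri b x d)⁻¹ = tri 1 ((b : F) / d) 1 from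
            mul_inv_eq_of_eq_mul (by simp [tri_mul, add_comm])]
        exact tri_mem_ZU _ _

end two

theorem main (n : ℕ) (hn : 3 ≤ n ∨ (n = 2 ∧ 4 ≤ Fintype.card F))
    (G : Subgroup (GL (Fin n) F ⧸ Subgroup.center (GL (Fin n) F)))
    (hG : ((Matrix.SpecialLinearGroup.toGL : Matrix.SpecialLinearGroup (Fin n) F →* GL (Fin n) F).range).map
      (QuotientGroup.mk' (Subgroup.center (GL (Fin n) F))) ≤ G) {𝓒 : Set (Subgroup (GL (Fin n) F))}
    (h : NC (G.comap (QuotientGroup.mk' (center (GL (Fin n) F)))) 𝓒) : False := by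
  have k : ∀ g : GL (Fin n) F, g.1.det = 1 → g ∈ G.comap (QuotientGroup.mk' (center (GL (Fin n) F))) :=
    fun g hg => hG ⟨g, ⟨⟨g.1, hg⟩, Units.ext rfl⟩, rfl⟩
  rcases hn with hn | ⟨rfl, hn⟩
  · obtain ⟨m, rfl⟩ := Nat.exists_eq_add_of_le' hn
    exact three k h
  · exact two hn k h

end CfsgH6.Nc
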