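import Cfsg.Agent.H6.Af1
import Cfsg.Agent.H3.Burnside

set_option autoImplicit false

/-! A solvable and a non-solvable group of the same order type. -/

namespace CfsgH6.Ot
open CfsgH8 Finset
open scoped commutatorElement

/-- the number of solutions of `x ^ n = 1` -/
noncomputable def F (G : Type*) [Group G] (n : ℕ) : ℕ := Nat.card {g : G // g ^ n = 1}

theorem F_prod (G H : Type*) [Group G] [Group H] (n : ℕ) : F (G × H) n = F G n * F H n := by
  rw [F, F, F, ← Nat.card_prod]
  exact Nat.card_congr ((Equiv.subtypeEquivRight fun _ => Prod.ext_iff).trans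
    (Equiv.subtypeProdEquivProd (p := fun g : G => g ^ n = 1) (q := fun h : H => h ^ n = 1)))

theorem F_eq (G : Type*) [Group G] [Fintype G] [DecidableEq G] (n : ℕ) : F G n = #{g : G | g ^ n = 1} := by
  rw [F, Nat.card_eq_fintype_card, Fintype.card_subtype]

theorem F_gcd {G : Type*} [Group G] [Finite G] {e : ℕ} (h : F G 0 = F G e) (n : ℕ) : F G n = F G (n.gcd e) := by
  have : ∀ g : G, g ^ e = 1 := fun g => by
    have := Set.eq_of_subset_of_ncard_le (s := {g : G | g ^ e = 1}) (t := {g : G | g ^ 0 = 1})
      (fun _ _ => pow_zero _) h.le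
    exact this.ge (pow_zero g)
  exact Nat.card_congr (Equiv.subtypeEquivRight fun g => by rw [pow_gcd_eq_one, and_iff_left (this g)])

theorem of_F {G H : Type*} [Group G] [Group H] [Finite G] [Finite H] (h : ∀ n, F G n = F H n) (n : ℕ) :
    Nat.card {g : G // orderOf g = n} = Nat.card {g : H // orderOf g = n} := by
  classical
  have := Fintype.ofFinite G
  have := Fintype.ofFinite H
  simp only [Nat.card_eq_fintype_card, Fintype.card_subtype]
  induction n using Nat.strong_induction_on with
  | _ n ih =>
  rcases eq_or_ne n 0 with rfl | hn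
  · simp [(orderOf_pos _).ne']
  have := h n
  rw [F_eq, F_eq, ← sum_card_orderOf_eq_card_pow_eq_one (G := G) hn,
    ← sum_card_orderOf_eq_card_pow_eq_one (G := H) hn,
    ← Nat.cons_self_properDivisors hn, sum_cons, sum_cons,
    sum_congr rfl fun m hm => ih m (Nat.mem_properDivisors.1 hm).2] at this
  exact Nat.add_right_cancel this

section aff
variable {G : Type*} [Group G] (V W : Type*) [AddCommGroup V] [DistribMulAction G V] [AddCommGroup W]
  [DistribMulAction G W]

/-- the size of the kernel of the norm map -/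
noncomputable def cnt (x : G) (n : ℕ) : ℕ := Nat.card {v : V // ∑ i ∈ range n, x ^ i • v = 0}

theorem F_aff [Fintype G] [DecidableEq G] [Finite V] {c : G → ℕ → ℕ}
    (h : ∀ (x : G) n, x ^ n = 1 → cnt V x n = c x n) (n : ℕ) :
    F (Aff G V) n = ∑ x : G, if x ^ n = 1 then c x n else 0 := by
  have e : {w : Aff G V // w ^ n = 1} ≃ Σ x : G, {v : V // x ^ n = 1 ∧ ∑ i ∈ range n, x ^ i • v = 0} :=
    { toFun w := ⟨w.1.right, w.1.left.toAdd, (map_pow SemidirectProduct.rightHom w.1 n).symm.trans
        (by rw [w.2, map_one]), (Af.pow_left w.1 n).symm.trans (by rw [w.2]; rfl)⟩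
      invFun p := ⟨⟨.ofAdd p.2.1, p.1⟩, SemidirectProduct.ext ((Af.pow_left (V := V) _ n).trans p.2.2.2)
        ((map_pow SemidirectProduct.rightHom _ n).trans p.2.2.1)⟩
      left_inv _ := rfl
      right_inv _ := rfl }
  rw [F, Nat.card_congr e, Nat.card_sigma]
  refine sum_congr rfl fun x _ => ?_
  split_ifs with k
  · simp only [k, true_and]
    exact h x n k
  · simp [k]

theorem cnt_prod (x : G) (n : ℕ) : cnt (V × W) x n = cnt V x n * cnt W x n := by
  rw [cnt, cnt, cnt, ← Nat.card_prod]
  exact Nat.card_congr ((Equiv.subtypeEquivRight fun _ => by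
    simp [Prod.ext_iff, Prod.fst_sum, Prod.snd_sum]).trans (Equiv.subtypeProdEquivProd
      (p := fun v : V => ∑ i ∈ range n, x ^ i • v = 0) (q := fun v : W => ∑ i ∈ range n, x ^ i • v = 0)))

instance solAff [Group.IsSolvable G] : Group.IsSolvable (Aff G V) :=
  Group.isSolvable_of_ker_le_range SemidirectProduct.inl SemidirectProduct.rightHom
    SemidirectProduct.range_inl_eq_ker_rightHom.ge

variable {p : ℕ} [Fact p.Prime]

/-- a one-dimensional module -/
def Sd (_ : G →* ZMod p) := ZMod p

variable (χ : G →* ZMod p)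

instance addSd : AddCommGroup (Sd χ) := inferInstanceAs (AddCommGroup (ZMod p))
instance actSd : DistribMulAction G (Sd χ) := DistribMulAction.compHom (ZMod p) χ
instance finSd : Finite (Sd χ) := inferInstanceAs (Finite (ZMod p))

/-- the weight -/
def wt (x : G) (n : ℕ) : ℕ := if χ x ≠ 1 ∨ p ∣ n then p else 1

theorem cnt_Sd {x : G} {n : ℕ} (h : x ^ n = 1) : cnt (Sd χ) x n = wt χ x n := by
  have : (χ x ≠ 1 ∨ p ∣ n) ↔ ∑ i ∈ range n, χ x ^ i = 0 := by
    by_cases e : χ x = 1
    · simp [e, ZMod.natCast_eq_zero_iff]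
    · rw [geom_sum_eq e, ← map_pow, h]
      simp [e]
  change Nat.card {v : ZMod p // ∑ i ∈ range n, χ (x ^ i) * v = 0} = _
  simp only [wt, this, map_pow, ← sum_mul]
  split_ifs with k <;> simp [k]

end aff

/-- a group given by a table -/
def Tb (n _T : ℕ) := Fin (n + 1)

/-- the multiplication -/
def tm (n T : ℕ) (a b : Fin (n + 1)) : Fin (n + 1) := Fin.ofNat _ (T >>> (5 * ((n + 1) * a + b)) % 32)

/-- the group axioms -/
abbrev Val (n T : ℕ) : Prop := (∀ a b c, tm n T (tm n T a b) c = tm n T a (tm n T b c)) ∧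
  (∀ a, tm n T 0 a = a) ∧ ∀ a, ∃ b, tm n T b a = 0

variable {n T : ℕ}

instance finTb : Fintype (Tb n T) := inferInstanceAs (Fintype (Fin (n + 1)))
instance decTb : DecidableEq (Tb n T) := inferInstanceAs (DecidableEq (Fin (n + 1)))

noncomputable instance grpTb [h : Fact (Val n T)] : Group (Tb n T) :=
  @Group.ofLeftAxioms _ ⟨tm n T⟩ ⟨fun a => (h.out.2.2 a).choose⟩ ⟨(0 : Fin (n + 1))⟩ h.out.1 h.out.2.1
    fun a => (h.out.2.2 a).choose_spec

theorem solTb [Fact (Val n T)] {p q a b : ℕ} (hp : p.Prime) (hq : q.Prime) (h : n + 1 = p ^ a * q ^ b) :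
    Group.IsSolvable (Tb n T) :=
  CfsgH3.burnside_paqb p q a b hp hq (h ▸ (Nat.card_fin _).dvd)

/-- a sign function -/
def sf (p m : ℕ) (x : Fin (n + 1)) : ZMod p := if m.testBit x then -1 else 1

/-- a sign character -/
def sg (T p m : ℕ) [Fact (Val n T)] (h : sf (n := n) p m 0 = 1 ∧
    ∀ a b, sf p m (tm n T a b) = sf p m a * sf p m b) : Tb n T →* ZMod p := ⟨⟨sf p m, h.1⟩, h.2⟩

/-- the group of order three -/
abbrev C3 := Multiplicative (ZMod 3)

/-- a cubic character -/
def cube : C3 →* ZMod 7 := ⟨⟨fun z => 2 ^ z.toAdd.val, rfl⟩, by decide⟩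

/-- a multiplication table -/
def tD : ℕ := 0x443214c74254b635cf6b16a4a0e629062081ee73c0110c8531d0952d8d5a928398a4188207b9ac635cf00443214c74254b4a0e629062081ee6b16a52d8d73c0110c8531d09398a4188207b9ac5a9284254b635cf00443214c729062081ee6b16a4a0e631d0952d8d73c0110c85188207b9ac5a928398a4214c74254b635cf00443081ee6b16a4a0e62906210c8531d0952d8d73c017b9ac5a928398a418820

instance okD : Fact (Val 15 tD) := ⟨by decide +kernel⟩
/-- a multiplication table -/
def tS : ℕ := 0x42443634c70054b215cf6b16a4a0e629062081ee31c0152c8573d0910d8d5a928398a4188207b9ac215cf42443634c70054b4a0e629062081ee6b16a10d8d31c0152c8573d09398a4188207b9ac5a9280054b215cf42443634c729062081ee6b16a4a0e673d0910d8d31c0152c85188207b9ac5a928398a4634c70054b215cf42443081ee6b16a4a0e62906252c8573d0910d8d31c017b9ac5a928398a418820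

instance okS : Fact (Val 15 tS) := ⟨by decide +kernel⟩
/-- a multiplication table -/
def tQ : ℕ := 0x204c301447625cb4354f29062080e66b16a4a1ee11c8130c0553d8972d0d18820398a45a9287b9ac01447204c34354f625cb080e6290624a1ee6b16a30c0511c8172d0d53d89398a4188207b9ac5a928625cb4354f204c3014476b16a4a1ee29062080e653d8972d0d11c8130c055a9287b9ac18820398a44354f625cb01447204c34a1ee6b16a080e62906272d0d53d8930c0511c817b9ac5a928398a418820

instance okQ : Fact (Val 15 tQ) := ⟨by decide +kernel⟩
/-- a multiplication table -/
def tP : ℕ := 0xc4121cc55250b7358f18820398a44a16a6b1ee104033148742d4963dcd08062290e65a9287b9ac31487104037358f5250b290e6080626b1ee4a16a21cc500c4163dcd42d49398a4188207b9ac5a92842d4963dcd10403314875a9287b9ac08062290e65250b7358f00c4121cc54a16a6b1ee18820398a47358f5250b31487104036b1ee4a16a290e60806263dcd42d4921cc500c417b9ac5a928398a418820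

instance okP : Fact (Val 15 tP) := ⟨by decide +kernel⟩
/-- a multiplication table -/
def tV : ℕ := 0x104035250b314877358f08062290e64a16a6b1ee00c4142d4921cc563dcd18820398a45a9287b9ac314877358f104035250b290e6080626b1ee4a16a21cc563dcd00c4142d49398a4188207b9ac5a9285250b104037358f314874a16a6b1ee08062290e642d4900c4163dcd21cc55a9287b9ac18820398a47358f314875250b104036b1ee4a16a290e60806263dcd21cc542d4900c417b9ac5a928398a418820

instance okV : Fact (Val 15 tV) := ⟨by decide +kernel⟩
/-- a multiplication table -/
def tC : ℕ := 0x104033148708062290e600c4121cc518820398a43148710403290e60806221cc500c41398a418820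

instance okC : Fact (Val 7 tC) := ⟨by decide +kernel⟩
/-- a multiplication table -/
def tF : ℕ := 0x73220f890656b1c1009495ce54639a641c020be304ad43292549c60f7358b5250731483104149c8832b58e0804a4ae72a1cc883e295a86524a93639a641c020be307358b5250731483104149ca307840252573950e6441f120cad638c8380417c6095a86524a93639ab5250731483104149ca307b9ac9ca873220f890656b1c10094958ca49526c734c8380417c6095a90731483104149ca307b9ac5a9307c4832b58e0804a4ae72a1cc80082f8c12b50ca49526c734c839483104149ca307b9ac5a928399ac7040252573950e6441f120cb2a4d8e699070082f8c12b50ca4104149ca307b9ac5a928398a41a92b9ca873220f890656b1c1009f18256a19492a4d8e69907008349ca307b9ac5a928398a418820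

instance okF : Fact (Val 20 tF) := ⟨by decide +kernel⟩

/-- the field with eight elements, additively -/
def V8 := Fin 8

instance finV8 : Fintype V8 := inferInstanceAs (Fintype (Fin 8))
instance decV8 : DecidableEq V8 := inferInstanceAs (DecidableEq (Fin 8))

/-- the addition -/
def xr (a b : Fin 8) : Fin 8 := Fin.ofNat _ (a.1 ^^^ b.1)

instance addV8 : AddCommGroup V8 :=
  { @AddGroup.ofLeftAxioms V8 ⟨xr⟩ ⟨id⟩ ⟨(0 : Fin 8)⟩ (by decide +kernel) (by decide +kernel) (by decide +kernel) with
    add_comm := by decide +kernel }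

/-- the semilinear action -/
def ac (g : Fin 21) (v : Fin 8) : Fin 8 := Fin.ofNat _ (0xea1ce8873ea8cfa868c5573855cc7873157874f8b03e277089d3f09ee458b919d8467b985bb360ecd5a0356ee02f4bd0d2f2d0bcbd10b1af886beb08fac688 >>> (3 * (8 * g.1 + v.1)))

instance actV8 : DistribMulAction (Tb 20 tF) V8 where
  smul := ac
  one_smul := show ∀ v, ac 0 v = v by decide +kernel
  mul_smul := show ∀ a b v, ac (tm 20 tF a b) v = ac a (ac b v) by decide +kernel
  smul_zero := show ∀ a, ac a 0 = 0 by decide +kernel
  smul_add := show ∀ a v w, ac a (xr v w) = xr (ac a v) (ac a w) by decide +kernel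

/-- the norm map -/
def nm (x : Fin 21) (v : Fin 8) : ℕ → Fin 8
  | 0 => 0
  | k + 1 => xr (ac x (nm x v k)) v

theorem cnt_V8 (x : Tb 20 tF) (n : ℕ) : cnt V8 x n = #{v | nm x v n = 0} := by
  have : ∀ v : V8, ∑ i ∈ range n, x ^ i • v = nm x v n := fun v => by
    induction n with
    | zero => rfl
    | succ n ih =>
      simp only [sum_range_succ', pow_succ', mul_smul, ← smul_sum, ih, pow_zero, one_smul]
      rfl
  simp only [cnt, this]
  exact (Nat.card_eq_fintype_card (α := {v : Fin 8 // nm x v n = 0})).trans (Fintype.card_subtype _)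

/-- decoding of a map -/
def ap (c : ℕ) (i : Fin 8) : Fin 8 := Fin.ofNat _ (c >>> (3 * i.1))

/-- the elements of the projective group -/
def CL : List (Fin 8 → Fin 8) := List.map ap
  [6175624, 13228488, 9272641, 2773435, 7581000, 11366152, 15321985, 3137890, 13093584, 10034136, 11607099,
  5895008, 12436592, 5945793, 9092216, 3078544, 12369154, 12304922, 13609001, 4637087, 705523, 10910872,
  16096528, 14522914, 7685048, 13727336, 7810817, 15673952, 2838360, 13675459, 14053907, 11157041, 6779220,
  1012522, 3832514, 10282832, 12101880, 9743391, 13349700, 3913000, 9425584, 16135238, 10081337, 5364807,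
  945105, 9977674, 6805890, 7960589, 10440794, 14899409, 6152489, 414967, 12388761, 9768563, 4346846, 3656835,
  15783320, 13942432, 16300564, 11412359, 3549168, 15360744, 10200645, 16082465, 8219204, 777497, 16001419,
  4616003, 5623310, 15917139, 8580761, 7426545, 517804, 13733713, 16353386, 6546197, 15931202, 8329384, 4675384,
  13965511, 2751532, 12973317, 7533190, 11485369, 13808655, 6507466, 8844850, 15413517, 2025674, 12089105,
  2045281, 9210810, 11568823, 2278654, 10234609, 11546206, 10392963, 5414640, 6743520, 12164740, 2968119,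
  10831814, 6243013, 13299937, 12527116, 4390155, 15156267, 9347534, 1269387, 13911513, 1222585, 15240547,
  14451948, 2324133, 15744169, 14432341, 7401002, 15526021, 380282, 7347095, 2811655, 15536556, 4701221,
  6365030, 3397142, 7757967, 10643066, 16040178, 571823, 2895165, 650853, 14124810, 8096417, 14804300, 11278834,
  9705150, 4441969, 15796942, 6084659, 8969926, 359331, 6036828, 3102148, 9015671, 6695486, 4299197, 4088861,
  6017228, 12833891, 10023083, 831348, 2636774, 874622, 12191179, 5639417, 8476559, 13115179, 16258277, 6452649,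
  10325133, 12988906, 9379349, 2243927, 7033383, 8167845, 14722862, 12456150, 1525335, 13652730, 1449882,
  6622511, 13435877, 4406892, 7634018, 13400716, 2219826, 7637462, 685902, 10985779, 15374366, 2337692, 5169724,
  5288318, 8435189, 13865117, 1766492, 12346019, 1808723, 4557812, 11109182, 6465655, 5786235, 11029711,
  2189803, 5803805, 1033613, 3785173, 12698287, 12136551, 1906485, 4487406, 1886878, 10126039, 3313114,
  10538899, 12855143, 7873516, 14857122, 11504724, 442134, 7061614, 3502366, 10580724, 14000252, 1152494,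
  6573749, 1113301, 16188060, 4131603, 12646746, 10761660, 5518135, 8594299, 13240927, 469469, 5140597, 1716925,
  9200751, 1682191, 2853109, 8881502, 14817971, 3692703, 8674771, 4254439, 3737468, 1954708, 15061158, 10301998,
  1549030, 15226484, 1392076, 3018414, 15075221, 8625386, 3436244, 14969626, 6347964, 3507623, 1139551, 8741117,
  15835701, 7537789, 5179727, 12663609, 8942493, 3175795, 10687775, 13011131, 727804, 4108468, 11334694,
  4041030, 6194790, 6983564, 10595809, 15483734, 3950506, 12752852, 10948322, 957607, 3350767, 13157949,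
  3227525, 5269453, 6842745, 14765149, 5473195, 1369403, 11067868, 7836724, 5217030, 15022448, 8148238, 5005217,
  8518230, 8258418, 1628130, 13422871, 5903919, 6954437, 8761256, 12725965, 9111529, 1977451, 5706211, 12934684,
  5568388, 6880048, 10729614, 15631665, 1292914, 8032570, 10872855, 7914823, 5033448, 1658601, 14500171,
  3845667, 15117508, 11245472, 1439921, 11661706, 3618874, 8862343, 13505912, 16392537, 9169419, 16339715,
  4021472, 9941393, 15621130, 9823170, 3271352, 5470745, 11237443, 14590744, 8309777, 13553218, 11744208,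
  11789505, 5761112, 14571137, 8019536, 9925832, 16434824]

/-- a generator -/
def g0 : Equiv.Perm (Fin 8) := Function.Involutive.toPerm (ap 9925832) (by unfold Function.Involutive; decide)
/-- a generator -/
def g1 : Equiv.Perm (Fin 8) := Function.Involutive.toPerm (ap 8019536) (by unfold Function.Involutive; decide)
/-- a generator -/
def g2 : Equiv.Perm (Fin 8) := Function.Involutive.toPerm (ap 14571137) (by unfold Function.Involutive; decide)

/-- the projective group -/
def PG : Subgroup (Equiv.Perm (Fin 8)) := Subgroup.closure {s | s ∈ [g0, g1, g2]}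

/-- reachability check -/
def rch : List (Fin 8 → Fin 8) → Bool
  | [] => true
  | f :: l => (decide (f = id) || l.any fun g => [g0, g1, g2].any fun s => decide (f = g ∘ s)) && rch l

theorem of_rch : ∀ l, rch l → ∀ f ∈ l, ∃ g ∈ PG, ⇑g = f
  | [], _, _, h => absurd h List.not_mem_nil
  | f :: l, h, g, hg => by
    simp only [rch, Bool.and_eq_true, Bool.or_eq_true, List.any_eq_true, decide_eq_true_eq] at h
    rcases List.mem_cons.1 hg with rfl | e
    · rcases h.1 with rfl | ⟨u, hu, s, hs, rfl⟩
      · exact ⟨1, one_mem _, rfl⟩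
      · obtain ⟨v, a, rfl⟩ := of_rch l h.2 u hu
        exact ⟨v * s, mul_mem a (Subgroup.subset_closure hs), rfl⟩
    · exact of_rch l h.2 g e

theorem mem_CL {g : Equiv.Perm (Fin 8)} (h : g ∈ PG) : ⇑g ∈ CL := by
  have k : CL.all fun f => [g0, g1, g2].all fun s => decide (f ∘ s ∈ CL) := by decide +kernel
  have i : [g0, g1, g2].all fun s => decide (s⁻¹ = s) := by decide +kernel
  simp only [List.all_eq_true, decide_eq_true_eq] at k i
  induction h using Subgroup.closure_induction_right with
  | one => exact show id ∈ CL by decide +kernel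
  | mul_right x _ s hs ih => exact k _ ih s hs
  | mul_inv_cancel x _ s hs ih => rw [i s hs]; exact k _ ih s hs

theorem F_PG (n : ℕ) : F PG n = (CL.filter fun f => ∀ i, f^[n] i = i).length := by
  have e : ∀ g : PG, g ^ n = 1 ↔ ∀ i, g.1^[n] i = i := fun g => by
    rw [Subtype.ext_iff, Equiv.ext_iff, Equiv.Perm.iterate_eq_pow]
    rfl
  rw [F, ← Nat.card_range_of_injective (f := fun g : {g : PG // g ^ n = 1} => ⇑g.1.1) fun a b h =>
    Subtype.ext (Subtype.ext (DFunLike.coe_injective h)), show Set.range _ =
      ((CL.filter fun f => ∀ i, f^[n] i = i).toFinset : Set (Fin 8 → Fin 8)) from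
        Set.ext fun A => ⟨?_, fun h => ?_⟩, Nat.card_coe_set_eq, Set.ncard_coe_finset,
    List.toFinset_card_of_nodup ((show CL.Nodup by decide +kernel).filter _)]
  · rintro ⟨g, rfl⟩
    exact List.mem_toFinset.2 (List.mem_filter.2 ⟨mem_CL g.1.2, decide_eq_true ((e _).1 g.2)⟩)
  · obtain ⟨a, b⟩ := List.mem_filter.1 (List.mem_toFinset.1 h)
    obtain ⟨g, hg, rfl⟩ := of_rch CL (by decide +kernel) A a
    exact ⟨⟨⟨g, hg⟩, (e _).2 (of_decide_eq_true b)⟩, rfl⟩

theorem not_sol : ¬ Group.IsSolvable PG := by
  let a : PG := ⟨g0, Subgroup.subset_closure (by simp)⟩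
  let b : PG := ⟨g1, Subgroup.subset_closure (by simp)⟩
  let c : PG := ⟨g2, Subgroup.subset_closure (by simp)⟩
  have key : a * c = (b * a * b * a * b * a * c * b * a * b * a) * ⁅a * c, b * (a * c) * b⁻¹⁆ *
      (b * a * b * a * b * a * c * b * a * b * a)⁻¹ := Subtype.ext (by decide +kernel)
  refine not_isSolvable_of_mem_derivedSeries (show a * c ≠ 1 by decide +kernel) fun n => ?_
  induction n with
  | zero => exact Subgroup.mem_top _
  | succ n ih =>
    rw [key]
    exact (derivedSeries_normal _ _).conj_mem _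
      (Subgroup.commutator_mem_commutator ih ((derivedSeries_normal _ _).conj_mem _ ih _)) _

end CfsgH6.Ot
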