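import Cfsg.Agent.H5.SLBasic

set_option autoImplicit false

open Matrix

namespace CfsgH6.R3

variable {F : Type*} [Field F]

section gen
variable {ι : Type*} [Fintype ι] [DecidableEq ι] (H : Subgroup (SpecialLinearGroup ι F))

/-- matrices of elements of `H` -/
def In (M : Matrix ι ι F) : Prop := ∃ g ∈ H, g.1 = M

/-- the transvection given by a vector and a form lies in `H` -/
def P (v f : ι → F) : Prop := In H (1 + vecMulVec v f)

/-- all the transvections with form `f` lie in `H` -/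
def Phi (f : ι → F) : Prop := ∀ v, f ⬝ᵥ v = 0 → P H v f

variable {H}

theorem In.mul {A B : Matrix ι ι F} (hA : In H A) (hB : In H B) : In H (A * B) := by
  obtain ⟨a, ha, rfl⟩ := hA
  obtain ⟨b, hb, rfl⟩ := hB
  exact ⟨a * b, H.mul_mem ha hb, rfl⟩

theorem In.ex {A : Matrix ι ι F} (hA : In H A) : ∃ B, In H B ∧ A * B = 1 ∧ B * A = 1 := by
  obtain ⟨a, ha, rfl⟩ := hA
  refine ⟨(a⁻¹).1, ⟨_, H.inv_mem ha, rfl⟩, ?_, ?_⟩
  · exact congrArg Subtype.val (mul_inv_cancel a)
  · exact congrArg Subtype.val (inv_mul_cancel a)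

theorem In.inv {A B : Matrix ι ι F} (hA : In H A) (h : A * B = 1) : In H B := by
  obtain ⟨C, hC, -, h2⟩ := hA.ex
  have : C = B := by rw [← mul_one C, ← h, ← mul_assoc, h2, one_mul]
  exact this ▸ hC

theorem tv_mul {v v' f : ι → F} (h : f ⬝ᵥ v' = 0) :
    (1 + vecMulVec v f) * (1 + vecMulVec v' f) = 1 + vecMulVec (v + v') f := by
  rw [add_mul, one_mul, mul_add, mul_one, vecMulVec_mul_vecMulVec, h, zero_smul, vecMulVec_zero,
    add_zero, add_vecMulVec]
  abel

theorem tv_inv {v f : ι → F} (h : f ⬝ᵥ v = 0) :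
    (1 + vecMulVec v f) * (1 + vecMulVec (-v) f) = 1 := by
  rw [tv_mul (by rw [dotProduct_neg, h, neg_zero]), add_neg_cancel, zero_vecMulVec, add_zero]

theorem P.zero (f : ι → F) : P H 0 f := ⟨1, H.one_mem, by simp⟩

theorem P.add {v v' f : ι → F} (h : P H v f) (h' : P H v' f) (h0 : f ⬝ᵥ v' = 0) :
    P H (v + v') f := by
  rw [P, ← tv_mul h0]; exact In.mul h h'

theorem P.neg {v f : ι → F} (h : P H v f) (h0 : f ⬝ᵥ v = 0) : P H (-v) f :=
  In.inv h (tv_inv h0)

theorem P.sub {v v' f : ι → F} (h : P H v f) (h' : P H v' f) (h0 : f ⬝ᵥ v' = 0) :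
    P H (v - v') f := by
  rw [sub_eq_add_neg]
  exact h.add (h'.neg h0) (by rw [dotProduct_neg, h0, neg_zero])

theorem P.conj {v f : ι → F} (h : P H v f) {A B : Matrix ι ι F} (hA : In H A) (hAB : A * B = 1) :
    P H (A *ᵥ v) (f ᵥ* B) := by
  have := (hA.mul h).mul (hA.inv hAB)
  rwa [mul_add, mul_one, add_mul, hAB, mul_vecMulVec, vecMulVec_mul] at this

theorem tv_mulVec (v f x : ι → F) : (1 + vecMulVec v f) *ᵥ x = x + (f ⬝ᵥ x) • v := by
  rw [add_mulVec, one_mulVec, vecMulVec_mulVec]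
  simp

theorem vecMul_tv (v f x : ι → F) : x ᵥ* (1 + vecMulVec v f) = x + (x ⬝ᵥ v) • f := by
  rw [vecMul_add, vecMul_one, vecMul_vecMulVec]

theorem P.comm {v f v' f' : ι → F} (h : P H v f) (h' : P H v' f') (h1 : f ⬝ᵥ v = 0)
    (h2 : f' ⬝ᵥ v' = 0) (h3 : f' ⬝ᵥ v = 0) : P H ((f ⬝ᵥ v') • v) f' := by
  have := h'.conj h (tv_inv h1)
  rw [tv_mulVec, vecMul_tv, dotProduct_neg, h3, neg_zero, zero_smul, add_zero] at this
  simpa using this.sub h' h2

theorem Phi.act {f : ι → F} (h : Phi H f) {A : Matrix ι ι F} (hA : In H A) : Phi H (f ᵥ* A) := by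
  intro v hv
  obtain ⟨B, hB, -, h2⟩ := hA.ex
  have := (h (A *ᵥ v) (by rwa [dotProduct_mulVec])).conj hB h2
  rwa [mulVec_mulVec, h2, one_mulVec] at this

theorem Phi.smul {f : ι → F} (h : Phi H f) (s : F) : Phi H (s • f) := by
  intro v hv
  have := h (s • v) (by rw [dotProduct_smul, ← smul_dotProduct, hv])
  rwa [P, smul_vecMulVec, ← vecMulVec_smul] at this

theorem top_of (h : ∀ j, Phi H (Pi.single j 1)) : H = ⊤ := by
  refine CfsgH5.SL_eq_top_of_transvections H fun i j hij c => ?_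
  obtain ⟨g, hg, e⟩ := h j (Pi.single i c) (by simp [hij.symm])
  convert hg using 1
  refine Subtype.ext ?_
  rw [e]
  change transvection i j c = _
  rw [transvection]
  congr 1
  ext a b
  simp [vecMulVec_apply, Pi.single_apply, single_apply]
  grind

end gen

end CfsgH6.R3
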