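import Cfsg.Agent.H6.R3a

set_option autoImplicit false

open Matrix

namespace CfsgH6.R3

variable {F : Type*} [Field F] {m : ℕ}

/-- basis vectors -/
abbrev ee (k : Fin (m + 3)) : Fin (m + 3) → F := Pi.single k 1

theorem P.sum {ι : Type*} [Fintype ι] [DecidableEq ι] {H : Subgroup (SpecialLinearGroup ι F)}
    {κ : Type*} (s : Finset κ) (v : κ → ι → F) {f : ι → F} (h : ∀ k, P H (v k) f)
    (h0 : ∀ k, f ⬝ᵥ v k = 0) : P H (∑ k ∈ s, v k) f := by
  classical
  induction s using Finset.induction_on with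
  | empty => simpa using P.zero f
  | insert k s hk ih => rw [Finset.sum_insert hk, add_comm]; exact ih.add (h k) (h0 k)

theorem beta_ne {W W' : Matrix (Fin (m + 3)) (Fin (m + 3)) F} {a : Fin (m + 2) → F}
    (ha : ∀ k, a k ≠ 0) (hWW : W * W' = 1)
    (w1 : ∀ k : Fin (m + 2), W *ᵥ ee k.castSucc = ee k.castSucc + a k • ee k.succ) :
    (ee (Fin.last _) ᵥ* W') 0 ≠ 0 := by
  intro h0
  have h1 : (ee (Fin.last _) ᵥ* W') ᵥ* W = ee (Fin.last _) := by
    rw [vecMul_vecMul, mul_eq_one_comm.1 hWW, vecMul_one]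
  generalize ee (Fin.last _) ᵥ* W' = f at h0 h1
  have h2 : ∀ k, f k = 0 := by
    intro k
    induction k using Fin.induction with
    | zero => exact h0
    | succ k ih =>
      have : f ⬝ᵥ W *ᵥ ee k.castSucc = 0 := by
        rw [dotProduct_mulVec, h1]; simp [(Fin.castSucc_ne_last k).symm]
      rw [w1] at this
      simpa [ih, ha k] using this
  have := congrFun h1 (Fin.last _)
  rw [show f = 0 from funext h2] at this
  simp at this

theorem main (H : Subgroup (SpecialLinearGroup (Fin (m + 3)) F))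
    {U W W' : Matrix (Fin (m + 3)) (Fin (m + 3)) F} {a : Fin (m + 2) → F}
    (ha : ∀ k, a k ≠ 0) (hU : In H U) (hW : In H W) (hWW : W * W' = 1)
    (u0 : U *ᵥ ee 0 = ee 0) (u1 : U *ᵥ ee 1 = ee 1 + ee 0)
    (uL : ee (Fin.last _) ᵥ* U = ee (Fin.last _))
    (w1 : ∀ k : Fin (m + 2), W *ᵥ ee k.castSucc = ee k.castSucc + a k • ee k.succ)
    (w2 : ∀ k : Fin (m + 2), ee k.succ ᵥ* W = ee k.succ + a k • ee k.castSucc) {c : F}
    (hc : ∀ x : F, x ≠ 0 → ∃ k : ℕ, x = ((ee (Fin.last _) ᵥ* W') 0 * a 0 * c) ^ (k + 1))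
    (ht : P H (c • ee 0) (ee (Fin.last _))) : H = ⊤ := by
  have hβ := beta_ne ha hWW w1
  set β := (ee (Fin.last _) ᵥ* W') 0 with hβe
  have hL0 : Fin.last (m + 2) ≠ 0 := by simp
  have hL1 : Fin.last (m + 2) ≠ 1 := fun e => by simpa using congrArg Fin.val e
  have step : ∀ (s : F) v, P H (s • ee 0) (ee (Fin.last _)) → P H v (ee (Fin.last _)) →
      ee (Fin.last _) ⬝ᵥ v = 0 → ee (Fin.last _) ⬝ᵥ W *ᵥ v = 0 →
      P H ((s * β) • W *ᵥ v) (ee (Fin.last _)) := by
    intro s v hs hv h1 h2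
    have := (hv.conj hW hWW).comm hs (by
      rw [dotProduct_mulVec, vecMul_vecMul, mul_eq_one_comm.1 hWW, vecMul_one, h1])
      (by simp [hL0]) h2
    rwa [dotProduct_smul, dotProduct_single, mul_one, smul_eq_mul] at this
  have w0 : W *ᵥ ee 0 = ee 0 + a 0 • ee 1 := w1 0
  have mul : ∀ s s' : F, P H (s • ee 0) (ee (Fin.last _)) → P H (s' • ee 0) (ee (Fin.last _)) →
      P H ((s * s' * (β * a 0)) • ee 0) (ee (Fin.last _)) := by
    intro s s' hs hs'
    have h1 := step s _ hs hs' (by simp [hL0]) (by rw [mulVec_smul, w0]; simp [hL0, hL1])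
    obtain ⟨B, -, hB, -⟩ := hU.ex
    have h2 := h1.conj hU hB
    rw [show ee (Fin.last _) ᵥ* B = ee (Fin.last _) by
      rw [← uL, vecMul_vecMul, hB, vecMul_one, uL]] at h2
    have h3 := h2.sub h1 (by rw [mulVec_smul, w0]; simp [hL0, hL1])
    convert h3 using 1
    rw [mulVec_smul, mulVec_smul, w0, mulVec_smul, mulVec_add, mulVec_smul, u0, u1]
    module
  have hκ : β * a 0 ≠ 0 := mul_ne_zero hβ (ha 0)
  have all0 : ∀ s : F, P H (s • ee 0) (ee (Fin.last _)) := by
    intro s
    by_cases hs : s = 0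
    · rw [hs, zero_smul]; exact P.zero _
    obtain ⟨k, hk⟩ := hc (β * a 0 * s) (mul_ne_zero hκ hs)
    rw [show s = (β * a 0)⁻¹ * (β * a 0 * c) ^ (k + 1) by rw [← hk, inv_mul_cancel_left₀ hκ]]
    clear hk
    induction k with
    | zero => rwa [zero_add, pow_one, inv_mul_cancel_left₀ hκ]
    | succ k ih => convert mul _ _ ih ht using 2; ring
  have all : ∀ (k : Fin (m + 2)) (s : F), P H (s • ee k.castSucc) (ee (Fin.last _)) := by
    intro k
    induction k using Fin.induction with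
    | zero => exact all0
    | succ k ih =>
      intro s
      have n1 : Fin.last (m + 2) ≠ k.castSucc.castSucc := (Fin.castSucc_ne_last _).symm
      have n2 : Fin.last (m + 2) ≠ k.castSucc.succ := by
        rw [Fin.succ_castSucc]; exact (Fin.castSucc_ne_last _).symm
      have h1 := step β⁻¹ _ (all0 _) (ih (s * (a k.castSucc)⁻¹)) (by simp [n1])
        (by rw [mulVec_smul, w1]; simp [n1, n2])
      have h2 := h1.sub (ih (s * (a k.castSucc)⁻¹)) (by simp [n1])
      convert h2 using 1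
      rw [inv_mul_cancel₀ hβ, one_smul, mulVec_smul, w1, smul_add, add_sub_cancel_left, smul_smul,
        inv_mul_cancel_right₀ (ha _), Fin.succ_castSucc]
  have phiL : Phi H (ee (Fin.last (m + 2)) : _ → F) := by
    intro v hv
    have h1 := P.sum Finset.univ (fun k : Fin (m + 2) => v k.castSucc • ee k.castSucc)
      (fun k => all k _) (fun k => by simp [(Fin.castSucc_ne_last k).symm])
    convert h1 using 1
    conv_lhs => rw [pi_eq_sum_univ' v, Fin.sum_univ_castSucc]
    rw [show v (Fin.last _) = 0 by simpa using hv, zero_smul, add_zero]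
  refine top_of fun j => ?_
  induction j using Fin.reverseInduction with
  | last => exact phiL
  | cast k ih =>
    have n1 : k.succ ≠ k.castSucc := (Fin.castSucc_lt_succ).ne'
    have h1 := (ih.act hW).act (ih (-(a k)⁻¹ • ee k.castSucc) (by simp [n1]))
    rw [vecMul_tv, w2] at h1
    convert h1.smul (a k)⁻¹ using 1
    have : (ee k.succ + a k • ee k.castSucc : _ → F) ⬝ᵥ (-(a k)⁻¹ • ee k.castSucc) = -1 := by
      simp [n1, n1.symm, ha k]
    rw [this, neg_one_smul, add_neg_cancel_comm, smul_smul, inv_mul_cancel₀ (ha k), one_smul]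

end CfsgH6.R3
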