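import Cfsg.Agent.H6.R3b

set_option autoImplicit false

open Matrix

namespace CfsgH6.R3

variable {F : Type*} [Field F] {m : ℕ}

variable (F m) in
/-- the nilpotent Jordan block -/
def NN : Matrix (Fin (m + 3)) (Fin (m + 3)) F := Matrix.of fun i j => if (i : ℕ) + 1 = j then 1 else 0

variable (F m) in
/-- the antidiagonal matrix -/
def RR : Matrix (Fin (m + 3)) (Fin (m + 3)) F := (1 : Matrix _ _ F).submatrix Fin.revPerm id

theorem tri : (NN F m).IsUpperTriangular :=
  fun i j h => if_neg (by have : (j : ℕ) < i := h; omega)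

theorem det_U : (1 + NN F m).det = 1 := by
  rw [det_of_isUpperTriangular (blockTriangular_one.add tri)]
  simp [NN]

theorem nil_N : IsNilpotent (NN F m) := by
  have h1 := aeval_self_charpoly (NN F m)
  rw [charpoly_of_isUpperTriangular _ tri] at h1
  simp [NN] at h1
  exact ⟨_, h1⟩

theorem N_succ (k : Fin (m + 2)) : NN F m *ᵥ ee k.succ = ee k.castSucc := by
  ext i
  simp [NN, Pi.single_apply, Fin.ext_iff]

theorem N_zero : NN F m *ᵥ ee 0 = 0 := by
  ext i
  simp [NN]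

theorem cast_N (k : Fin (m + 2)) : ee k.castSucc ᵥ* NN F m = ee k.succ := by
  ext i
  simp [NN, Pi.single_apply, Fin.ext_iff, eq_comm]

theorem last_N : ee (Fin.last _) ᵥ* NN F m = 0 := by
  ext i
  simp [NN]
  omega

theorem N_pow (k : Fin (m + 3)) : NN F m ^ (k : ℕ) *ᵥ ee k = ee 0 := by
  induction k using Fin.induction with
  | zero => rw [Fin.val_zero, pow_zero, one_mulVec]
  | succ k ih => rw [Fin.val_succ, pow_succ, ← mulVec_mulVec, N_succ]; exact ih

theorem R_e (k : Fin (m + 3)) : RR F m *ᵥ ee k = ee k.rev := by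
  ext i
  simp [RR, Pi.single_apply, one_apply, Fin.rev_eq_iff]

theorem e_R (k : Fin (m + 3)) : ee k ᵥ* RR F m = ee k.rev := by
  ext i
  simp [RR, Pi.single_apply, one_apply, eq_comm]

theorem R_R : RR F m * RR F m = 1 := by
  ext i j
  have := congrFun (show (RR F m * RR F m) *ᵥ ee j = ee j by
    rw [← mulVec_mulVec, R_e, R_e, Fin.rev_rev]) i
  simpa [Pi.single_apply, one_apply] using this

theorem D_e (d : Fin (m + 3) → F) (k : Fin (m + 3)) : diagonal d *ᵥ ee k = d k • ee k := by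
  ext i
  by_cases h : i = k <;> simp [h, mulVec_diagonal]

theorem e_D (d : Fin (m + 3) → F) (k : Fin (m + 3)) : ee k ᵥ* diagonal d = d k • ee k := by
  ext i
  by_cases h : i = k <;> simp [h, vecMul_diagonal]

theorem det_tv {v f : Fin (m + 3) → F} (h : f ⬝ᵥ v = 0) : (1 + vecMulVec v f).det = 1 := by
  rw [vecMulVec_eq Unit, det_one_add_replicateCol_mul_replicateRow, h, add_zero]

theorem final [Fintype F] : ∃ u g h : SpecialLinearGroup (Fin (m + 3)) F, u.1 = 1 + NN F m ∧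
    Subgroup.closure ({u, g * u * g⁻¹, h * u * h⁻¹} : Set (SpecialLinearGroup (Fin (m + 3)) F)) = ⊤ := by
  have hε : (RR F m).det * (RR F m).det = 1 := by rw [← det_mul, R_R, det_one]
  obtain ⟨d, hd, hd'⟩ : ∃ d : Fin (m + 3) → F, (∀ k, d k * d k = 1) ∧ ∏ k, d k = (RR F m).det :=
    ⟨Function.update 1 0 (RR F m).det, fun k => by
      by_cases h : k = 0 <;> simp [h, hε], by simp [Finset.prod_update_of_mem]⟩
  have hd0 : ∀ k, d k ≠ 0 := fun k e => by simpa [e] using hd k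
  have hDD : diagonal d * diagonal d = 1 := by rw [diagonal_mul_diagonal]; simp [hd]
  let u : SpecialLinearGroup (Fin (m + 3)) F := ⟨1 + NN F m, det_U⟩
  let h : SpecialLinearGroup (Fin (m + 3)) F :=
    ⟨diagonal d * RR F m, by rw [det_mul, det_diagonal, hd', hε]⟩
  let h' : SpecialLinearGroup (Fin (m + 3)) F :=
    ⟨RR F m * diagonal d, by rw [det_mul, det_diagonal, hd', hε]⟩
  have hh : h⁻¹ = h' := inv_eq_of_mul_eq_one_right (Subtype.ext (by
    change diagonal d * RR F m * (RR F m * diagonal d) = 1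
    rw [mul_assoc, ← mul_assoc (RR F m), R_R, one_mul, hDD]))
  have hW : (h * u * h⁻¹).1 = diagonal d * RR F m * (1 + NN F m) * (RR F m * diagonal d) := by
    rw [hh]; rfl
  have hWW : (h * u * h⁻¹).1 * ((h * u * h⁻¹)⁻¹).1 = 1 := 
    congrArg Subtype.val (mul_inv_cancel (h * u * h⁻¹))
  have w1 : ∀ k : Fin (m + 2), (h * u * h⁻¹).1 *ᵥ ee k.castSucc =
      ee k.castSucc + (d k.castSucc * d k.succ) • ee k.succ := by
    intro k
    simp only [hW, ← mulVec_mulVec, D_e, mulVec_smul, R_e, add_mulVec, one_mulVec, Fin.rev_castSucc,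
      N_succ, mulVec_add, Fin.rev_succ, Fin.rev_rev, smul_add, smul_smul, hd, one_smul]
  have w2 : ∀ k : Fin (m + 2), ee k.succ ᵥ* (h * u * h⁻¹).1 =
      ee k.succ + (d k.castSucc * d k.succ) • ee k.castSucc := by
    intro k
    simp only [hW, ← vecMul_vecMul, e_D, smul_vecMul, e_R, vecMul_add, vecMul_one, Fin.rev_castSucc,
      cast_N, add_vecMul, Fin.rev_succ, Fin.rev_rev, smul_add, smul_smul, hd, one_smul,
      mul_comm (d k.succ)]
  have ha : ∀ k : Fin (m + 2), d k.castSucc * d k.succ ≠ 0 := fun k => mul_ne_zero (hd0 _) (hd0 _)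
  have hκ := mul_ne_zero (beta_ne ha hWW w1) (ha 0)
  obtain ⟨γ, hγ⟩ := IsCyclic.exists_monoid_generator (α := Fˣ)
  obtain ⟨c, hc⟩ : ∃ c, (ee (Fin.last _) ᵥ* ((h * u * h⁻¹)⁻¹).1) 0 *
      (d (0 : Fin (m + 2)).castSucc * d (0 : Fin (m + 2)).succ) * c = γ :=
    ⟨_, mul_inv_cancel_left₀ hκ _⟩
  have hL1 : Fin.last (m + 2) ≠ 1 := fun e => by simpa using congrArg Fin.val e
  have hL0 : Fin.last (m + 2) ≠ 0 := by simp
  have e1 : ee (Fin.last _) ⬝ᵥ (c • ee 1 : Fin (m + 3) → F) = 0 := by simp [hL1]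
  have e1' : ee (Fin.last _) ⬝ᵥ (-(c • ee 1) : Fin (m + 3) → F) = 0 := by simp [hL1]
  let g : SpecialLinearGroup (Fin (m + 3)) F := ⟨_, det_tv e1'⟩
  let g' : SpecialLinearGroup (Fin (m + 3)) F := ⟨_, det_tv e1⟩
  have hg : g⁻¹ = g' := inv_eq_of_mul_eq_one_left (Subtype.ext (tv_inv e1))
  have u0 : (1 + NN F m) *ᵥ ee 0 = ee 0 := by rw [add_mulVec, one_mulVec, N_zero, add_zero]
  have u1 : (1 + NN F m) *ᵥ ee 1 = ee 1 + ee 0 := by
    rw [add_mulVec, one_mulVec]; exact congrArg _ (N_succ 0)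
  have uL : ee (Fin.last _) ᵥ* (1 + NN F m) = ee (Fin.last _) := by
    rw [vecMul_add, vecMul_one, last_N, add_zero]
  refine ⟨u, g, h, rfl, ?_⟩
  have hU : In (Subgroup.closure {u, g * u * g⁻¹, h * u * h⁻¹}) (1 + NN F m) :=
    ⟨u, Subgroup.subset_closure (by simp), rfl⟩
  refine main _ ha hU ⟨_, Subgroup.subset_closure (by simp), rfl⟩ hWW u0 u1 uL w1 w2 (c := c)
    (fun x hx => ?_) ?_
  · obtain ⟨k, hk⟩ := hγ (Units.mk0 x hx * γ⁻¹)
    refine ⟨k, ?_⟩
    rw [hc, ← Units.val_pow_eq_pow_val, pow_succ]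
    change γ ^ k = _ at hk
    rw [hk, inv_mul_cancel_right]; rfl
  · obtain ⟨B, hB, -, h2⟩ := hU.ex
    have h3 := hB.mul ⟨g * u * g⁻¹, Subgroup.subset_closure (by simp), rfl⟩
    have h4 : (g * u * g⁻¹).1 = (1 + NN F m) * (1 + vecMulVec (c • ee 0) (ee (Fin.last _))) := by
      rw [hg]
      change (1 + vecMulVec _ _) * (1 + NN F m) * (1 + vecMulVec _ _) = _
      generalize 1 + NN F m = U at u0 u1 uL
      rw [add_mul 1 _ U, one_mul, vecMulVec_mul, uL, add_mul, mul_add, mul_add, mul_add, mul_one,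
        mul_one, mul_vecMulVec U, mul_vecMulVec U, vecMulVec_mul_vecMulVec, e1, zero_smul,
        vecMulVec_zero, add_zero, mulVec_smul, mulVec_smul, u0, u1, add_assoc, ← add_vecMulVec]
      congr 2
      module
    rwa [h4, ← mul_assoc, h2, one_mul] at h3

end CfsgH6.R3
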