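import Cfsg.Agent.H6.TwF4
import Cfsg.Agent.H6.TwWG2
import Cfsg.Agent.H6.MapG2

/-! The twisted group of type G2. -/

set_option autoImplicit false

namespace CfsgH6

open Cfsg.Lie
open scoped commutatorElement

set_option maxRecDepth 100000

/-- coefficient of a basis vector -/
def coefT (a : ℕ) (M : List Tm) : ℤ := (M.map fun t => if t.1 = a then t.2.2.2 else 0).sum

theorem semL_coef {D : ChevalleyDatum} {R : Type*} [CommRing R] (a : Fin D.nroots) (M : List Tm) :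
    semL D (1 : R) 1 M (.inr a) = coefT a M := by
  induction M with
  | nil => simp [semL, coefT]
  | cons t M ih =>
    rw [semL_cons, Pi.add_apply, ih, coefT, coefT, List.map_cons, List.sum_cons, Int.cast_add, add_left_inj]
    unfold bvec
    split_ifs with h1 h2 h3 h4 h5 <;> simp_all [ev, Pi.single_apply, Fin.ext_iff, eq_comm]

theorem Checked.entry {D : ChevalleyDatum} {C : Fast} (H : Checked D C) {R : Type*} [CommRing R]
    {w : List (ℕ × ℤ × ℕ × ℕ)} (hw : ∀ p ∈ w, p.1 < C.n) (a b : Fin D.nroots) {c : ℤ}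
    (h : C.actW w [(b, 0, 0, 1)] (fun M => decide (coefT a M = c)) = true) :
    wordR D R (w.map fun p => (p.1, (p.2.1 : R))) (.inr a) (.inr b) = c := by
  obtain ⟨M, h1, h2, -⟩ := H.ok.actW_sound H.croot_lt (1 : R) 1 w hw _ (by have := H.ok.lt_n b; simp; omega) _ h
  have := congrFun h2 (.inr a)
  rw [semL_coef, of_decide_eq_true h1] at this
  simpa [semW, semL, bvec, ev] using this

/-- the diagram symmetry -/
def pG2 : Equiv.Perm (Fin chevG2.rank) where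
  toFun i := ⟨[1, 0].getD i 0, by revert i; decide +kernel⟩
  invFun i := ⟨[1, 0].getD i 0, by revert i; decide +kernel⟩
  left_inv := by decide +kernel
  right_inv := by decide +kernel

theorem feG2 : ∀ r : Fin chevG2.nroots, mapG2.fe r = 1 ∨ mapG2.fe r = 3 := by decide +kernel

variable {K : Type*} [Field K] [Fintype K] [CharP K 3] (φ : K →+* K)

omit [Fintype K] in
theorem expChar3 : ExpChar K 3 := ExpChar.prime (by norm_num)

/-- the twisting data -/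
noncomputable def XG2 : TwD goodG2 K (Fin 1) where
  M := mapG2
  H := okG2
  φ := φ
  m e := (@powHom K _ 3 expChar3 e).comp φ
  hm r t := @powHom_apply _ _ 3 expChar3 _ (feG2 r) _
  hs _ := Finite.surjective_of_injective (RingHom.injective _)
  hp := by simpa [mapG2] using CharP.cast_eq_zero K 3
  p := pG2
  hsm := smG2
  cl := clG2
  cl_surj := by decide +kernel
  cl_p := by decide +kernel
  cl_trans i j h := by
    have : ∀ i j, clG2 i = clG2 j → ∃ k < 2, (pG2 ^ k) i = j := by decide +kernel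
    exact (this i j h).imp fun _ h => h.2

theorem clsG2 : ClsOK goodG2 clG2 0 [7, 6, 8, 9, 10, 11] [4, 5, 3, 2, 1, 0] := by decide +kernel

theorem revG2 : (Fin.revPerm : Equiv.Perm (Fin chevG2.nroots)) ∈ goodG2.W := by
  rw [show Fin.revPerm = goodG2.wN [0, 1, 0, 1, 0, 1] from Equiv.ext (by decide +kernel)]
  exact goodG2.wN_mem _

omit [Fintype K] [CharP K 3] in
theorem reeWordV_eq (e : ℕ) (t u v : K) : reeWordV e t u v = [(4, -t ^ e), (5, -t), (3, -(t ^ (e + 1) + u ^ e)),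
    (2, -(t ^ (2 * e + 1) + v ^ e)), (1, -u), (0, -v)] := rfl

variable {φ} {m : ℕ} (hφ : ∀ t, φ t = t ^ 3 ^ m) (hK : Fintype.card K = 3 ^ (2 * m + 1))
  {Γ : Type*} [Group Γ] (C : Cover goodG2 K Γ) (h1 : (XG2 φ).Fn C)
  {f : Fin chevG2.rank → ℤ} {S : Set (Fin chevG2.nroots)} (hS : goodG2.Nil f S)
include hφ hK h1 hS

theorem posG2 (hL : Enum [7, 6, 8, 9, 10, 11] S) (g : Γ) : g ∈ C.US S ∧ (g, g) ∈ C.graph (XG2 φ).ρ (XG2 φ).f ↔
    ∃ t u v, g = wordG C.x (reeWordU (3 ^ m) t u v) := by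
  rw [(XG2 φ).fix_G2 C h1 hS (theta_theta hφ hK) hL (by dsimp only [XG2]; decide +kernel) (ε := 1)
    (by decide +kernel) (by simp) (by decide +kernel)]
  simp only [XG2, reeWordU, hφ, pow_succ _ (3 ^ m), pow_succ _ (2 * 3 ^ m), mul_comm 2 (3 ^ m), pow_mul,
    pow_succ _ (3 ^ m * 2), Int.cast_one, one_mul]
  rfl

theorem negG2 (hL : Enum [4, 5, 3, 2, 1, 0] S) (g : Γ) : g ∈ C.US S ∧ (g, g) ∈ C.graph (XG2 φ).ρ (XG2 φ).f ↔
    ∃ t u v, g = wordG C.x (reeWordV (3 ^ m) t u v) := by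
  rw [(XG2 φ).fix_G2 C h1 hS (theta_theta hφ hK) hL (by dsimp only [XG2]; decide +kernel) (ε := -1)
    (by decide +kernel) (by simp) (by decide +kernel)]
  simp only [XG2, reeWordV_eq, pow_succ _ (3 ^ m), mul_comm 2 (3 ^ m), pow_mul, pow_succ _ (3 ^ m * 2), ← hφ]
  constructor <;> rintro ⟨t, u, v, rfl⟩ <;> exact ⟨-t, -u, -v, by simp [add_comm]⟩

omit hS

theorem exG2 : (XG2 φ).Ex C := fun c => by
  have hn : ∀ c, goodG2.Nil (-1) {r | ¬ goodG2.Pos r ∧ goodG2.InJ {i | clG2 i = c} r} := fun c =>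
    goodG2.nil_neg.subset (fun _ h => h.1) (goodG2.nil_neg.closed.inter (goodG2.closed_inJ _))
  fin_cases c
  have := (negG2 hφ hK C h1 (hn 0) clsG2.2 _).2 ⟨1, 0, 0, rfl⟩
  exact ⟨_, this.1, this.2, C.word_ne_one (hn 0) clsG2.2 rfl (by simp [reeWordV_eq])⟩

/-- the twist -/
noncomputable def TG2 : Twist C (Fin 1) := (XG2 φ).tw C h1 (exG2 hφ hK C h1)

theorem G1G2 : Subgroup.closure {g | ∃ w ∈ g2Words K (3 ^ m), g = wordG C.x w} = (TG2 hφ hK C h1).G1 := by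
  set T := TG2 hφ hK C h1
  have a0 := posG2 hφ hK C h1 (T.nil_Sp 0) clsG2.1
  have b0 := negG2 hφ hK C h1 (T.nil_Sn 0) clsG2.2
  refine T.G1_eq_closure ?_ (fun c g h h' => ?_) fun c g h h' => ?_
  · rintro _ ⟨w, ⟨t, u, v, rfl | rfl⟩, rfl⟩
    · have := (a0 _).2 ⟨t, u, v, rfl⟩
      exact ⟨this.2, Or.inl (C.US_mono (fun _ h => h.1) this.1)⟩
    · have := (b0 _).2 ⟨t, u, v, rfl⟩
      exact ⟨this.2, Or.inr (C.US_mono (fun _ h => h.1) this.1)⟩
  · fin_cases c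
    obtain ⟨t, u, v, e⟩ := (a0 g).1 ⟨h, h'⟩; exact ⟨_, ⟨t, u, v, Or.inl rfl⟩, e⟩
  · fin_cases c
    obtain ⟨t, u, v, e⟩ := (b0 g).1 ⟨h, h'⟩; exact ⟨_, ⟨t, u, v, Or.inr rfl⟩, e⟩

theorem SpG2 : (TG2 hφ hK C h1).Sp 0 = {r | goodG2.Pos r} :=
  Set.ext fun _ => and_iff_left fun _ h => absurd (Subsingleton.elim _ _) h

theorem U1G2 (g : Γ) : g ∈ C.U ⊓ (TG2 hφ hK C h1).G1 ↔ ∃ t u v, g = wordG C.x (reeWordU (3 ^ m) t u v) := by
  rw [Twist.U_inf_G1, Cover.U, ← SpG2 hφ hK C h1]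
  exact posG2 hφ hK C h1 ((TG2 hφ hK C h1).nil_Sp 0) clsG2.1 g

theorem card_U1G2 : Nat.card ↥(C.U ⊓ (TG2 hφ hK C h1).G1) = (3 ^ (2 * m + 1)) ^ 3 := by
  refine (C.card_of_param ((TG2 hφ hK C h1).nil_Sp 0) clsG2.1
    (fun p : K × K × K => reeWordU (3 ^ m) p.1 p.2.1 p.2.2) (fun _ => rfl) (fun a b e => ?_)
    fun g => (U1G2 hφ hK C h1 g).trans (by simp)).trans ?_
  · simp only [reeWordU, List.cons.injEq, Prod.mk.injEq, true_and] at e
    exact Prod.ext e.2.1 (Prod.ext e.2.2.2.2.1 e.2.2.2.2.2.1)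
  · rw [Nat.card_prod, Nat.card_prod, Nat.card_eq_fintype_card, hK]; ring

theorem hqG2 {R : Type*} [CommSemiring R] {s : R} (hs : s ^ 2 = (3 ^ (2 * m + 1) : ℕ)) (c : Fin 1) :
    (Nat.card ↥(C.US ((TG2 hφ hK C h1).Sp c) ⊓ (TG2 hφ hK C h1).Fix) : R) = s ^ goodG2.N ((TG2 hφ hK C h1).s c) := by
  rw [Twist.N_s' _ foldG2, Subsingleton.elim c 0, SpG2, ← Cover.U, ← Twist.U_inf_G1, card_U1G2, Nat.cast_pow, ← hs,
    ← pow_mul]
  rfl

theorem hlcG2 (i : Fin chevG2.rank) : ∃ u ∈ C.U, u ∈ (TG2 hφ hK C h1).G1 ∧ C.lc i (goodG2.sm i) u ≠ 0 := by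
  have a0 := (U1G2 hφ hK C h1 _).2 ⟨1, 0, 0, rfl⟩
  have h3 : ∀ r : Fin chevG2.nroots, (r : ℕ) ∈ [7, 6, 8, 9, 10, 11] → goodG2.Pos r := by decide +kernel
  refine ⟨_, a0.1, a0.2, ?_⟩
  rw [C.lc_word i (by exact h3)]
  have : ∀ i : Fin chevG2.rank, chevG2.simple i ∈ [7, 6] := by decide +kernel
  have := this i
  simp only [List.mem_cons, List.not_mem_nil, or_false] at this
  rcases this with e | e <;> simp [e, reeWordU, g2a, g2b, g2ab, g2aab, g2aaab, g2aaabb]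

/-- the maps on the fundamental parameters -/
noncomputable abbrev mG2 (φ : K →+* K) (i : Fin chevG2.rank) : K →+* K := (XG2 φ).m (mapG2.fe (chevG2.simple i))

theorem mem_CfG2 (d : Fin 2 → Kˣ) : d ∈ (TG2 hφ hK C h1).Cf (mG2 φ) ↔ d 0 = d 1 ^ 3 ^ m := by
  have h2 : ∀ (i : Fin chevG2.rank) t, mG2 φ i t = φ t ^ mapG2.fe (chevG2.simple i) := fun i t => by
    rw [mG2, ← goodG2.sm_val]; exact (XG2 φ).hm _ t
  refine (forall_congr' fun i => Eq.congr_right (h2 i _)).trans ?_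
  simp only [← Units.val_inj, Units.val_pow_eq_pow_val, ← hφ]
  refine ⟨fun h => (h ⟨1, by decide⟩).trans (pow_one _), fun h (i : Fin 2) => ?_⟩
  fin_cases i
  exacts [(theta_theta hφ hK _).symm.trans (congrArg (φ · ^ 3) h.symm), h.trans (pow_one _).symm]

omit h1

/-- the twist in the general linear group -/
noncomputable abbrev TG2g : Twist (goodG2.gl K) (Fin 1) := TG2 hφ hK _ (XG2 φ).fn_gl

theorem twistedG2_eq : twistedG2 K (3 ^ m) = (TG2g hφ hK).G1 := (goodG2.genSubgroup_eq K _).trans (G1G2 hφ hK _ _)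

/-- parametrisation of the fixed characters -/
def ψG2 (K : Type*) [Field K] (m : ℕ) : Kˣ →* (Fin chevG2.rank → Kˣ) where
  toFun a := ![a ^ 3 ^ m, a]
  map_one' := funext fun i : Fin 2 => by fin_cases i; exacts [one_pow _, rfl]
  map_mul' a b := funext fun i : Fin 2 => by fin_cases i; exacts [mul_pow _ _ _, rfl]

/-- parametrisation of the diagonal subgroup -/
noncomputable def hG2 (K : Type*) [Field K] (m : ℕ) : Kˣ →* GL chevG2.Idx K := (goodG2.gl_R3 K).τ.comp (ψG2 K m)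

omit hφ hK [Fintype K] [CharP K 3] in
theorem hG2_injective : Function.Injective (hG2 K m) := fun a b e =>
  congrFun (goodG2.τ_gl_injective K (pw_inj_G2 _) (a₁ := ψG2 K m a) (a₂ := ψG2 K m b) e) (1 : Fin 2)

omit hφ hK [Fintype K] [CharP K 3] in
theorem hG2_HH (a : Kˣ) : hG2 K m a ∈ (goodG2.gl K).HH := (goodG2.gl_R3 K).τ_mem (ψG2 K m a)

omit hφ hK [Fintype K] [CharP K 3] in
theorem hG2_π (a : Kˣ) : ((goodG2.gl K).π (hG2 K m a) : Matrix chevG2.Idx chevG2.Idx K) =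
    goodG2.hd (pw Kˣ (cartanM chevG2) (ψG2 K m a)) := (goodG2.gl_R3 K).π_τ (ψG2 K m a)

omit hφ hK [Fintype K] [CharP K 3] in
theorem chr_G2 (a : Kˣ) (r : Fin chevG2.nroots) : Good.chr (pw Kˣ (cartanM chevG2) (ψG2 K m a)) (goodG2.vec r) =
    a ^ ((3 ^ m : ℕ) * chevG2.cartan 0 r + chevG2.cartan 1 r) := by
  rw [zpow_add, zpow_mul, zpow_natCast]
  exact (goodG2.chr_pw' _ r).trans (Fin.prod_univ_two _)

theorem CfG2 : (TG2g hφ hK).Cf (mG2 φ) = (ψG2 K m).range := by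
  ext d
  refine (mem_CfG2 hφ hK _ _ d).trans ⟨fun h => ⟨d (1 : Fin 2), funext fun i : Fin 2 => ?_⟩, ?_⟩
  · fin_cases i; exacts [h.symm, rfl]
  · rintro ⟨a, rfl⟩; rfl

theorem hG2_fix {k : GL chevG2.Idx K} : k ∈ (goodG2.gl K).HH ⊓ (TG2g hφ hK).Fix ↔ ∃ a, hG2 K m a = k := by
  constructor
  · rintro ⟨h, h'⟩
    obtain ⟨c, rfl⟩ := (goodG2.gl_R3 K).exists_τ h
    obtain ⟨a, rfl⟩ := (CfG2 hφ hK).le (((TG2g hφ hK).τ_mem_Fix_iff _ (goodG2.τ_gl_injective K (pw_inj_G2 _)) _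
      (XG2 φ).f_sm).1 h')
    exact ⟨a, rfl⟩
  · rintro ⟨a, rfl⟩
    exact ⟨hG2_HH a, (TG2g hφ hK).τ_mem_Fix (goodG2.gl_R3 K) _ (XG2 φ).f_sm ((CfG2 hφ hK).ge ⟨a, rfl⟩)⟩

theorem hG2_neg : hG2 K m (-1) ∈ (TG2g hφ hK).G1 := by
  set T := TG2g hφ hK
  have a := negG2 hφ hK _ (XG2 φ).fn_gl (T.nil_Sn 0) clsG2.2
  have a1 := (a _).2 ⟨1, 0, 0, rfl⟩
  have a2 := (a _).2 ⟨0, 0, 1, rfl⟩
  obtain ⟨k, hk, d, hd, e⟩ := T.exists_ratio a1.1 a1.2 ((goodG2.gl K).word_ne_one (T.nil_Sn 0) clsG2.2 rfl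
    (by simp [reeWordV_eq])) a2.1 a2.2 ((goodG2.gl K).word_ne_one (T.nil_Sn 0) clsG2.2 rfl (by simp [reeWordV_eq]))
    (a := .inr ⟨0, by decide⟩) (b := .inr ⟨11, by decide⟩) (by unfold Good.fv; decide +kernel)
    (by unfold Good.fv; decide +kernel)
  have e1 := checkedG2.entry (R := K) (w := [(4, -1, 0, 0), (5, -1, 0, 0), (3, -1, 0, 0), (2, -1, 0, 0), (1, 0, 0, 0),
    (0, 0, 0, 0)]) (by decide) ⟨0, by decide⟩ ⟨11, by decide⟩ (c := -2) (by decide +kernel)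
  have e2 := checkedG2.entry (R := K) (w := [(4, 0, 0, 0), (5, 0, 0, 0), (3, 0, 0, 0), (2, -1, 0, 0), (1, 0, 0, 0),
    (0, -1, 0, 0)]) (by decide) ⟨0, by decide⟩ ⟨11, by decide⟩ (c := -1) (by decide +kernel)
  obtain ⟨a, rfl⟩ := (hG2_fix hφ hK).1 ⟨hk.1, T.G1_le_Fix hk.2⟩
  obtain rfl := goodG2.hd_inj (hd.symm.trans ((goodG2.gl_R3 K).π_τ _))
  rw [Good.wv_inr, chr_G2] at e
  replace e := (congrFun₂ (goodG2.wordG_xG K _) _ _).symm.trans (e.trans (congrArg _ (congrFun₂ (goodG2.wordG_xG K _) _ _)))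
  simp only [reeWordV_eq, one_pow, zero_pow (show 3 ^ m ≠ 0 by positivity), zero_pow (Nat.succ_ne_zero _), add_zero,
    zero_add, neg_zero] at e
  simp only [List.map_cons, List.map_nil, Int.cast_neg, Int.cast_one, Int.cast_zero, Int.cast_ofNat] at e1 e2
  rw [e1, e2, show chevG2.cartan 0 (⟨0, by decide⟩ : Fin chevG2.nroots) = 0 by decide +kernel,
    show chevG2.cartan 1 (⟨0, by decide⟩ : Fin chevG2.nroots) = -1 by decide +kernel] at e
  have h3 : (3 : K) = 0 := CharP.cast_eq_zero K 3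
  obtain rfl : a = -1 := by
    rw [← inv_inj, Units.ext_iff]
    simp only [mul_zero, zero_add, zpow_neg, zpow_one] at e
    simp only [inv_neg, inv_one, Units.val_neg, Units.val_one]
    linear_combination -e + ((a⁻¹ : Kˣ) : K) * h3
  exact hk.2

theorem hG2_mem (a : Kˣ) : hG2 K m a ∈ (TG2g hφ hK).G1 := by
  obtain ⟨n, hn⟩ : ∃ n, Fintype.card K = 4 * n + 3 :=
    ⟨Fintype.card K / 4, by have : 3 ^ (2 * m + 1) % 4 = 3 := by simp [pow_succ, pow_mul, Nat.mul_mod, Nat.pow_mod]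
                            omega⟩
  have h1 := (hG2_fix hφ hK).2 ⟨a ^ (n + 1), rfl⟩
  have h2 := (TG2g hφ hK).sq_mem_G1 Function.injective_id revG2 h1.1 h1.2
  have h3 : ((a ^ (2 * n + 1) : Kˣ) : K) ^ 2 = 1 := by
    rw [Units.val_pow_eq_pow_val, ← pow_mul, ← FiniteField.pow_card_sub_one_eq_one _ a.ne_zero, hn]
    congr 1; omega
  rw [← map_mul, ← pow_add, show n + 1 + (n + 1) = 2 * n + 1 + 1 by ring, pow_succ, map_mul] at h2
  refine (Subgroup.mul_mem_cancel_left _ ?_).1 h2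
  rcases sq_eq_one_iff.1 h3 with e | e
  · rw [show a ^ (2 * n + 1) = 1 from Units.ext e, map_one]; exact one_mem _
  · rw [show a ^ (2 * n + 1) = -1 from Units.ext e]; exact hG2_neg hφ hK

theorem H1G2 : (goodG2.gl K).HH ⊓ (TG2g hφ hK).G1 = (hG2 K m).range :=
  le_antisymm (fun _ h => (hG2_fix hφ hK).1 ⟨h.1, (TG2g hφ hK).G1_le_Fix h.2⟩)
    (by rintro _ ⟨a, rfl⟩; exact ⟨hG2_HH a, hG2_mem hφ hK a⟩)

theorem card_H1G2 : Nat.card ↥((goodG2.gl K).HH ⊓ (TG2g hφ hK).G1) = 3 ^ (2 * m + 1) - 1 := by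
  rw [H1G2, ← Nat.card_congr (MonoidHom.ofInjective hG2_injective).toEquiv, Nat.card_units,
    Nat.card_eq_fintype_card, hK]

omit hφ hK [Fintype K] [CharP K 3] in
theorem cartan_posG2 : ∀ r : Fin chevG2.nroots, goodG2.Pos r → (chevG2.cartan 0 r, chevG2.cartan 1 r) ∈
    [(2, -1), (-3, 2), (-1, 1), (1, 0), (3, -1), (0, 1)] := by decide +kernel

theorem perfG2 (hm : 1 ≤ m) : commutator (TG2g hφ hK).G1 = ⊤ := by
  obtain ⟨a, ha⟩ := exists_pow_ne_one (K := K)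
  have h2 : 3 ≤ 3 ^ m := Nat.le_self_pow (by omega) 3
  have h3 : 9 * 3 ^ m ≤ Fintype.card K := by rw [hK, pow_succ, two_mul, pow_add]; nlinarith
  refine (TG2g hφ hK).perfect_of fun c => (TG2g hφ hK).le_comm_of_fpf c (hG2_HH a)
    (hG2_mem hφ hK a) (hG2_π a) fun r hr => ?_
  have h := cartan_posG2 r hr.1
  rw [chr_G2]
  simp only [List.mem_cons, Prod.mk.injEq, List.not_mem_nil, or_false] at h
  generalize 3 ^ m = θ at h2 h3
  rcases h with h | h | h | h | h | h <;> rw [h.1, h.2] <;> exact ha _ (by omega) (by omega)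

theorem card_G1G2 : Nat.card (TG2g hφ hK).G1 =
    (3 ^ (2 * m + 1)) ^ 3 * (3 ^ (2 * m + 1) - 1) * ((3 ^ (2 * m + 1)) ^ 3 + 1) := by
  have hs : √(3 ^ (2 * m + 1) : ℕ) ^ 2 = _ := Real.sq_sqrt (Nat.cast_nonneg _)
  have h1 := (TG2g hφ hK).card_G1 _ (hqG2 hφ hK _ _ hs)
  have h3 := twpoinG2 (TG2g hφ hK) rfl √(3 ^ (2 * m + 1) : ℕ)
  rw [card_H1G2] at h1
  have hq : 1 ≤ 3 ^ (2 * m + 1) := Nat.one_le_pow _ _ (by omega)
  generalize TG2g hφ hK = T at h1 h3 ⊢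
  generalize 3 ^ (2 * m + 1) = q at hs h1 h3 hq ⊢
  generalize √(q : ℝ) = s at hs h1 h3
  refine Nat.cast_injective (R := ℝ) ?_
  rw [h1, show chevG2.nroots / 2 = 6 from rfl]
  push_cast [hq, Nat.one_le_pow _ q hq, ← hs]
  linear_combination s ^ 6 * (s ^ 2 - 1) * h3

theorem coreG2 : ((goodG2.gl K).B.subgroupOf (TG2g hφ hK).G1).normalCore = ⊥ :=
  (TG2g hφ hK).core_eq_bot Function.injective_id (hlcG2 hφ hK _ _)

theorem simpleG2 (hm : 1 ≤ m) : IsSimpleGroup (TG2g hφ hK).G1 ∧ ¬ IsMulCommutative (TG2g hφ hK).G1 :=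
  (TG2g hφ hK).simple (twirrG2 _ rfl) (perfG2 hφ hK hm) (coreG2 hφ hK)

end CfsgH6
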