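import Cfsg.Agent.H6.RegT
import Cfsg.Agent.H6.TorD4
import Cfsg.Agent.H6.TwG2

/-! The tori of the small Ree groups. -/

set_option autoImplicit false

namespace CfsgH6

open Cfsg.Lie

set_option maxRecDepth 100000

universe u

/-- powers of the Frobenius map -/
def fr3 (K : Type*) [Field K] [CharP K 3] (m : ℕ) : K →+* K := @iterateFrobenius K _ 3 m expChar3

/-- the twisting data over an algebraically closed field -/
noncomputable def YG2 (K : Type*) [Field K] [IsAlgClosed K] [CharP K 3] (m : ℕ) : TwD goodG2 K (Fin 1) where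
  M := mapG2
  H := okG2
  φ := fr3 K m
  m e := (@powHom K _ 3 expChar3 e).comp (fr3 K m)
  hm r t := @powHom_apply _ _ 3 expChar3 _ (feG2 r) _
  hs r t := by
    obtain ⟨s, rfl⟩ := IsAlgClosed.exists_pow_nat_eq t (n := 3 ^ m * mapG2.fe r)
      (by rcases feG2 r with e | e <;> simp [e])
    exact ⟨s, (@powHom_apply _ _ 3 expChar3 _ (feG2 r) _).trans (pow_mul _ _ _).symm⟩
  hp := by simpa [mapG2] using CharP.cast_eq_zero K 3
  p := pG2
  hsm := smG2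
  cl := clG2
  cl_surj := by decide +kernel
  cl_p := by decide +kernel
  cl_trans i j h := by
    have : ∀ i j, clG2 i = clG2 j → ∃ k < 2, (pG2 ^ k) i = j := by decide +kernel
    exact (this i j h).imp fun _ h => h.2

theorem YG2_m {K : Type*} [Field K] [IsAlgClosed K] [CharP K 3] (m : ℕ) (r : Fin chevG2.nroots) (t : K) :
    (YG2 K m).m (mapG2.fe r) t = t ^ (3 ^ m * mapG2.fe r) := ((YG2 K m).hm r t).trans (pow_mul _ _ _).symm

theorem YG2_m' {K : Type*} [Field K] [IsAlgClosed K] [CharP K 3] (m : ℕ) (i : Fin chevG2.rank) (t : K) :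
    (YG2 K m).m (mapG2.fe (chevG2.simple i)) t = t ^ (3 ^ m * mapG2.fe (chevG2.simple i)) := by
  rw [← goodG2.sm_val]; exact YG2_m m _ t

theorem YG2_sq (K : Type*) [Field K] [IsAlgClosed K] [CharP K 3] (m : ℕ) (g : chevG2.SteinbergGroup K) :
    (YG2 K m).stEnd ((YG2 K m).stEnd g) = goodG2.stMap (fr3 K (2 * m + 1)) g := by
  have hp : ∀ i, pG2 (pG2 i) = i ∧ mapG2.fe (chevG2.simple i) * mapG2.fe (chevG2.simple (pG2 i)) = 3 := by
    decide +kernel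
  have h : ∀ (i : Fin chevG2.rank) (t : K), (YG2 K m).m (mapG2.fe (chevG2.simple (pG2 i)))
      ((YG2 K m).m (mapG2.fe (chevG2.simple i)) t) = fr3 K (2 * m + 1) t := fun i t => by
    rw [YG2_m', YG2_m', ← pow_mul, mul_mul_mul_comm, (hp i).2, ← pow_add, ← two_mul]; rfl
  refine (goodG2.st K).hom_ext_pm (φ := (YG2 K m).stEnd.comp (YG2 K m).stEnd) (fun i t => ?_) (fun i t => ?_)
    (goodG2.mem_st g)
  · simp only [MonoidHom.comp_apply, TwD.stEnd_sm, Good.stMap_x]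
    exact congrArg₂ _ (congrArg _ (hp i).1) (h i t)
  · simp only [MonoidHom.comp_apply, TwD.stEnd_sm_rev, Good.stMap_x]
    exact congrArg₂ _ (congrArg (fun i => (goodG2.sm i).rev) (hp i).1) (h i t)

theorem charP_ext (K L : Type*) [Field K] [Field L] [CharP K 3] [Algebra (AlgebraicClosure K) L] : CharP L 3 :=
  charP_of_injective_algebraMap (algebraMap (AlgebraicClosure K) L).injective 3

variable {K : Type u} [Field K] [Fintype K] [CharP K 3] {m : ℕ} (hK : Fintype.card K = 3 ^ (2 * m + 1))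

/-- the Frobenius map of the Ree group -/
noncomputable def frobG2 : Frob goodG2 (AlgebraicClosure K) where
  σ L _ _ _ := haveI := charP_ext K L; (YG2 L m).stEnd
  ρ := okG2.ι
  γ r := mapG2.fγ r
  e r := 3 ^ m * mapG2.fe r
  σ_x L _ _ _ r t := by
    haveI := charP_ext K L
    rw [TwD.stEnd_x, ← YG2_m]; rfl
  m := 2
  q := 3 ^ (2 * m + 1)
  m_pos := two_pos
  one_lt := Nat.one_lt_pow (by omega) (by omega)
  pow L _ _ _ := haveI := charP_ext K L; ⟨_, fun _ => rfl, YG2_sq L m⟩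
  alg := hK ▸ alg_pow
  mem := by simp

theorem frobG2_σ : (frobG2 hK).σ (AlgebraicClosure K) = (YG2 _ m).stEnd := rfl

/-- the first node -/
def z0 : Fin chevG2.rank := ⟨0, by decide⟩

/-- the second node -/
def z1 : Fin chevG2.rank := ⟨1, by decide⟩

theorem fin_G2 : ∀ i, i = z0 ∨ i = z1 := by decide +kernel

/-- the matrix of the twist -/
def PG2 : Matrix (Fin chevG2.rank) (Fin chevG2.rank) ℤ := lm _ [[0, 3], [1, 0]]

theorem pw_two {A : Type*} [CommGroup A] (M : Matrix (Fin chevG2.rank) (Fin chevG2.rank) ℤ) (c : Fin chevG2.rank → A)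
    (j : Fin chevG2.rank) : pw A M c j = c z0 ^ M z0 j * c z1 ^ M z1 j :=
  Fin.prod_univ_two fun i => c i ^ M i j

theorem frobG2_τ (c : Fin chevG2.rank → (AlgebraicClosure K)ˣ) : (frobG2 hK).σ _ ((goodG2.st_R3 _).τ c) =
    (goodG2.st_R3 _).τ (pw _ PG2 (c ^ 3 ^ m)) := by
  refine ((YG2 _ m).stEnd_τ c).trans (congrArg _ (funext fun j => Units.ext ?_))
  have : ∀ j, (PG2 z0 j = 0 ∧ PG2 z1 j = 1 ∧ pG2⁻¹ j = z1 ∧
      mapG2.fe (chevG2.simple (pG2⁻¹ j)) = 1) ∨ (PG2 z0 j = 3 ∧ PG2 z1 j = 0 ∧ pG2⁻¹ j = z0 ∧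
      mapG2.fe (chevG2.simple (pG2⁻¹ j)) = 3) := by decide +kernel
  refine (YG2_m' m (pG2⁻¹ j) _).trans ?_
  rw [pw_two]
  rcases this j with ⟨h1, h2, h3, h4⟩ | ⟨h1, h2, h3, h4⟩
  · rw [h1, h2, h4]; change ((c (pG2⁻¹ j) : _ˣ) : AlgebraicClosure K) ^ _ = _; rw [h3]; simp
  · rw [h1, h2, h4]; change ((c (pG2⁻¹ j) : _ˣ) : AlgebraicClosure K) ^ _ = _; rw [h3]; simp [pow_mul]

theorem exists_jG2 : ∃ j : twistedG2 K (3 ^ m) →* chevG2.SteinbergGroup (AlgebraicClosure K), Function.Injective j ∧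
    (∀ g, (frobG2 hK).σ _ g = g ↔ g ∈ j.range) ∧ ∀ (a : Kˣ) (g : twistedG2 K (3 ^ m)), (g : GL chevG2.Idx K) = hG2 K m a →
      j g = (goodG2.st_R3 _).τ fun i => Units.map (algebraMap K (AlgebraicClosure K) : K →* _) (ψG2 K m a i) := by
  let k := AlgebraicClosure K
  let φ := fr3 K m
  have hφ : ∀ t, φ t = t ^ 3 ^ m := fun _ => rfl
  have hτ := τ_injective_of_mem k (by simp) goodG2
  have hι := goodG2.stMap_injective (by simp) (algebraMap K k)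
  obtain ⟨e, he⟩ := goodG2.exists_stEquiv K (pw_inj_G2 _)
  have hπ : Function.Injective (goodG2.st K).π := fun a b h => e.injective (Subtype.ext (by rw [he, he, h]))
  have h1 := goodG2.stMap_range hτ (algebraMap K k) (fr3 k (2 * m + 1)) fun t => by
    rw [← pow_card_iff, hK]; rfl
  have h3 := (XG2 φ).stMap_stEnd (YG2 k m) rfl (algebraMap K k) fun t => map_pow _ _ _
  set T := TG2 hφ hK _ (XG2 φ).fn_st
  have h6 : twistedG2 K (3 ^ m) = T.G1.map (goodG2.st K).π := by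
    rw [twistedG2_eq hφ hK, T.map_G1 (TG2g hφ hK) rfl rfl rfl]
  have h7 : ∀ a, (goodG2.st K).π ((goodG2.st_R3 K).τ (ψG2 K m a)) = hG2 K m a := fun a =>
    Units.ext (((goodG2.st_R3 K).π_τ _).trans (hG2_π a).symm)
  have h5 : ∀ g, g ∈ T.G1 ↔ (XG2 φ).stEnd g = g := fun g => by
    rw [← T.mem_Fix_hom (XG2 φ).stEnd (XG2 φ).stEnd_x (goodG2.mem_st g), T.Fix_eq, sup_eq_left.2]
    rintro _ ⟨hk, hk'⟩
    obtain ⟨c, rfl⟩ := (goodG2.st_R3 K).exists_τ hk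
    obtain ⟨a, rfl⟩ := (CfG2 hφ hK).le ((T.τ_mem_Fix_iff _ (τ_injective_of_mem K (by simp) goodG2) (mG2 φ)
      (XG2 φ).f_sm).1 hk')
    obtain ⟨b, hb, e⟩ := h6.le ((twistedG2_eq hφ hK).ge (hG2_mem hφ hK a))
    exact hπ (e.trans (h7 a).symm) ▸ hb
  let ε := (MulEquiv.subgroupCongr h6).trans (T.G1.equivMapOfInjective _ hπ).symm
  have hε : ∀ g, (goodG2.st K).π (ε g) = g := fun g =>
    congrArg Subtype.val ((T.G1.equivMapOfInjective _ hπ).apply_symm_apply (MulEquiv.subgroupCongr h6 g))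
  refine ⟨(goodG2.stMap (algebraMap K k)).comp (T.G1.subtype.comp ε.toMonoidHom),
    hι.comp (Subtype.val_injective.comp ε.injective), fun g => ⟨fun hg => ?_, ?_⟩, fun a g hg => ?_⟩
  · obtain ⟨a, rfl⟩ := (h1 g).1 ((YG2_sq k m g).symm.trans ((congrArg _ hg).trans hg))
    exact ⟨ε.symm ⟨a, (h5 a).2 (hι ((h3 a).trans hg))⟩, by simp⟩
  · rintro ⟨g, rfl⟩
    exact (h3 _).symm.trans (congrArg _ ((h5 _).1 (ε g).2))
  · have : (ε g).1 = _ := hπ ((hε g).trans (hg.trans (h7 a).symm))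
    change goodG2.stMap _ (ε g).1 = _
    rw [this]
    exact (goodG2.st K).fmap_τ _ (goodG2.stMap_x _) _ _ _

/-- the elements of the Weyl group -/
def wsG2 : List (List ℕ) := [[], [0], [1], [0, 1], [1, 0], [0, 1, 0], [1, 0, 1], [0, 1, 0, 1], [1, 0, 1, 0],
  [0, 1, 0, 1, 0], [1, 0, 1, 0, 1], [0, 1, 0, 1, 0, 1]]

/-- their matrices -/
def msG2 : List (List (List ℤ)) := [[[1, 0], [0, 1]], [[-1, 0], [1, 1]], [[1, 3], [0, -1]], [[2, 3], [-1, -1]],
  [[-1, -3], [1, 2]], [[-2, -3], [1, 2]], [[2, 3], [-1, -2]], [[1, 3], [-1, -2]], [[-2, -3], [1, 1]],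
  [[-1, -3], [0, 1]], [[1, 0], [-1, -1]], [[-1, 0], [0, -1]]]

theorem MEq.eq {l : ℕ} {M N : Matrix (Fin l) (Fin l) ℤ} (h : MEq M N) : M = N := Matrix.ext h

theorem cM_G2 {M : Matrix (Fin chevG2.rank) (Fin chevG2.rank) ℤ} :
    (∃ w ∈ goodG2.W, goodG2.cM w = M) ↔ ∃ L ∈ msG2, lm _ L = M := by
  constructor
  · rintro ⟨w, hw, rfl⟩
    refine goodG2.W_induction (p := fun w => ∃ L ∈ msG2, lm _ L = goodG2.cM w) ⟨_, .head _, ?_⟩ ?_ hw
    · rw [goodG2.cM_one]; exact MEq.eq (by decide +kernel)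
    · rintro i w hw ⟨L, hL, e⟩
      have : ∀ i, ∀ L ∈ msG2, ∃ L' ∈ msG2, MEq (lm _ L') (lm _ L * Sm (cartanM chevG2) i) := by decide +kernel
      rw [Good.cM_mul (goodG2.σ_mem i) hw, goodG2.cM_σ, ← e]
      exact (this i L hL).imp fun _ h => ⟨h.1, h.2.eq⟩
  · rintro ⟨L, hL, rfl⟩
    have : ∀ L ∈ msG2, ∃ l ∈ wsG2, MEq (wM (cartanM chevG2) (finL _ l)) (lm _ L) := by decide +kernel
    obtain ⟨l, -, e⟩ := this L hL
    exact ⟨_, wp_mem_closure goodG2.σ Set.univ _ (fun _ _ => trivial) |> (by simpa [Good.W] using ·),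
      (goodG2.cM_wp _).trans e.eq⟩

/-- the twisted matrices -/
def XG (L : List (List ℤ)) : Matrix (Fin chevG2.rank) (Fin chevG2.rank) ℤ := PG2 * lm chevG2.rank L

theorem ker_two {A : Type*} [CommGroup A] (X : Matrix (Fin chevG2.rank) (Fin chevG2.rank) ℤ) (s : ℕ)
    (d : Fin chevG2.rank → A) : pw A X (d ^ s) = d ↔ d ∈ (pw A ((s : ℤ) • X - 1)).ker := by
  simp only [MonoidHom.mem_ker, funext_iff, pw_two, Matrix.sub_apply, Matrix.smul_apply, smul_eq_mul, zpow_sub,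
    zpow_mul, zpow_natCast, Pi.pow_apply, Pi.one_apply]
  refine forall_congr' fun j => ?_
  have : z0 ≠ z1 := by decide
  rcases fin_G2 j with rfl | rfl
  · simp [this.symm, mul_right_comm _ (d z0)⁻¹, mul_inv_eq_one]
  · simp [this, ← mul_assoc, mul_inv_eq_one]

theorem det_two (X : Matrix (Fin chevG2.rank) (Fin chevG2.rank) ℤ) (s : ℤ) : (s • X - 1).det =
    s ^ 2 * (X z0 z0 * X z1 z1 - X z0 z1 * X z1 z0) - s * (X z0 z0 + X z1 z1) + 1 := by
  have : z0 ≠ z1 := by decide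
  refine (Matrix.det_fin_two _).trans ?_
  change (s • X - 1) z0 z0 * (s • X - 1) z1 z1 - (s • X - 1) z0 z1 * (s • X - 1) z1 z0 = _
  simp only [Matrix.sub_apply, Matrix.smul_apply, smul_eq_mul, Matrix.one_apply_eq, Matrix.one_apply_ne this,
    Matrix.one_apply_ne this.symm]
  ring

theorem reg_G2 {k : Type*} [Field k] {c : Fin chevG2.rank → kˣ} {w : Equiv.Perm (Fin chevG2.nroots)} (hw : w ∈ goodG2.W)
    {s : ℕ} (h : pw kˣ (goodG2.cM w) (pw kˣ PG2 (c ^ s)) = c) (h2 : c ^ 2 ≠ 1) (r : Fin chevG2.nroots) :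
    Good.chr (pw kˣ (cartanM chevG2) c) (goodG2.vec r) ≠ 1 := fun e => h2 (by
  obtain ⟨L, hL, e1⟩ := cM_G2.1 ⟨w, hw, rfl⟩
  have : ∀ L ∈ msG2, ∀ r : Fin chevG2.nroots, ∃ r' : Fin chevG2.nroots, ∃ n ∈ [1, 3],
      (∀ i, ∑ j : Fin chevG2.rank, XG L i j * chevG2.cartan j r' = n * chevG2.cartan i r) ∧ ∀ i, ∃ a ∈ [-6, -4, -3, -2, -1, 0, 1, 2, 3, 4, 6],
        ∃ b ∈ [-6, -4, -3, -2, -1, 0, 1, 2, 3, 4, 6], ∀ j : Fin chevG2.rank,
          a * chevG2.cartan j r + b * chevG2.cartan j r' = if i = j then (2 : ℤ) else 0 := by decide +kernel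
  obtain ⟨r', n, -, h3, h4⟩ := this L hL r
  have h5 : ∀ (d : Fin chevG2.rank → kˣ) (r : Fin chevG2.nroots), Good.chr (pw kˣ (cartanM chevG2) d) (goodG2.vec r) =
      d z0 ^ chevG2.cartan z0 r * d z1 ^ chevG2.cartan z1 r := fun d r =>
    (goodG2.chr_pw' d r).trans (Fin.prod_univ_two fun i => d i ^ chevG2.cartan i r)
  have h6 : c z0 ^ chevG2.cartan z0 r' * c z1 ^ chevG2.cartan z1 r' = 1 := by
    have a0 := (Fin.sum_univ_two fun j => XG L z0 j * chevG2.cartan j r').symm.trans (h3 z0)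
    have a1 := (Fin.sum_univ_two fun j => XG L z1 j * chevG2.cartan j r').symm.trans (h3 z1)
    change XG L z0 z0 * chevG2.cartan z0 r' + XG L z0 z1 * chevG2.cartan z1 r' = _ at a0
    change XG L z1 z0 * chevG2.cartan z0 r' + XG L z1 z1 * chevG2.cartan z1 r' = _ at a1
    rw [h5] at e
    rw [← h, ← e1, ← pw_mul, ← XG, pw_two, pw_two, mul_zpow, mul_zpow, mul_mul_mul_comm, ← zpow_mul, ← zpow_mul, ← zpow_mul,
      ← zpow_mul, ← zpow_add, ← zpow_add, a0, a1, Pi.pow_apply, Pi.pow_apply, ← zpow_natCast, ← zpow_natCast, ← zpow_mul,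
      ← zpow_mul, ← mul_assoc, ← mul_assoc, mul_comm (s * n : ℤ), mul_comm (s * n : ℤ), zpow_mul _ _ (s * n : ℤ),
      zpow_mul _ _ (s * n : ℤ), ← mul_zpow, e, one_zpow]
  rw [h5] at e
  funext i
  obtain ⟨a, -, b, -, h7⟩ := h4 i
  have h8 := congrArg₂ (fun x y => x ^ a * y ^ b) e h6
  simp only [mul_zpow, one_zpow, ← zpow_mul] at h8
  rw [mul_mul_mul_comm, ← zpow_add, ← zpow_add, mul_comm _ a, mul_comm _ b, mul_comm _ a, mul_comm _ b, h7, h7] at h8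
  have : z0 ≠ z1 := by decide
  rcases fin_G2 i with rfl | rfl <;> simpa [this, this.symm, zpow_ofNat] using h8)

theorem eq_one_of_pow3 {k : Type*} [Field k] [CharP k 3] {a : kˣ} {n : ℕ} (h : a ^ 3 ^ n = 1) : a = 1 :=
  Units.ext ((fr3 k n).injective (by simpa [fr3, iterateFrobenius_def] using congrArg Units.val h))

include hK in
/-- centralizers of regular semisimple elements -/
theorem torG2x {x : twistedG2 K (3 ^ m)} (h3 : ¬ 3 ∣ orderOf x) (h2 : x ^ 2 ≠ 1) : ∃ N c : ℕ,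
    (N + 1 = 3 ^ (2 * m + 1) ∧ c = 2 ∨ N = 3 ^ (2 * m + 1) + 1 ∧ c = 6 ∨ N + 3 ^ (m + 1) = 3 ^ (2 * m + 1) + 1 ∧ c = 6 ∨
      N = 3 ^ (2 * m + 1) + 3 ^ (m + 1) + 1 ∧ c = 6) ∧ Nat.card (Subgroup.centralizer {x}) = N ∧
    {y : Subgroup.centralizer {x} | IsConj x y}.ncard = c ∧ IsMulCommutative (Subgroup.centralizer {x}) ∧
    ∃ χ : Subgroup.centralizer {x} →* (AlgebraicClosure K)ˣ, ∀ y, χ y = 1 → y ^ 2 = 1 ∧
      (N ≠ 3 ^ (2 * m + 1) + 1 → y = 1) := by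
  let k := AlgebraicClosure K
  obtain ⟨j, hj, hR, -⟩ := exists_jG2 hK
  have hn : ((orderOf x : ℕ) : k) ≠ 0 := fun e => h3 ((CharP.cast_eq_zero_iff k 3 _).1 e)
  obtain ⟨c, w, hw, ⟨g, e0⟩, e1, hc, H⟩ := (frobG2 hK).exists_tor (frobG2_τ hK) hj hR hn (pow_orderOf_eq_one x)
  have h1 := reg_G2 hw e1 fun e => h2 (hj (by rw [map_pow, e0, conj_pow, ← map_pow, e]; simp))
  obtain ⟨ψ, hψ, hr, hc'⟩ := H h1
  obtain ⟨L, hL, e2⟩ := cM_G2.1 ⟨w, hw, rfl⟩
  simp only [← e2, ← pw_mul] at hr e1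
  set X := PG2 * lm _ L
  have hN : Nat.card (Subgroup.centralizer {x}) = (((3 ^ m : ℕ) : ℤ) • X - 1).det.natAbs := by
    have : ∀ L ∈ msG2, (3 : ℤ) ∣ XG L z0 z0 * XG L z1 z1 - XG L z0 z1 * XG L z1 z0 ∧
      3 ∣ XG L z0 z0 + XG L z1 z1 := by decide +kernel
    obtain ⟨⟨a, ha⟩, b, hb⟩ := this L hL
    change X z0 z0 * X z1 z1 - X z0 z1 * X z1 z0 = _ at ha
    change X z0 z0 + X z1 z1 = _ at hb
    rw [← card_ker_pw_det (K := k), Nat.card_congr (MonoidHom.ofInjective hψ).toEquiv]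
    · exact congrArg (fun A : Subgroup _ => Nat.card A) (Subgroup.ext fun d => (hr d).trans (ker_two _ _ _))
    · rw [det_two, ha, hb, Ne, CharP.intCast_eq_zero_iff k 3, mul_left_comm, mul_left_comm _ 3]
      omega
  have hC : {y : Subgroup.centralizer {x} | IsConj x y}.ncard =
      (msG2.filter fun M => MEq (lm _ M * X) (X * lm _ M)).length := by
    have hi : ∀ M ∈ msG2, ∀ M' ∈ msG2, pw kˣ (lm _ M) c = pw kˣ (lm _ M') c → M = M' := fun M hM M' hM' e => by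
      obtain ⟨v, hv, e3⟩ := cM_G2.2 ⟨M, hM, rfl⟩
      obtain ⟨v', hv', e4⟩ := cM_G2.2 ⟨M', hM', rfl⟩
      obtain rfl := (goodG2.st k).cM_inj _ (τ_injective_of_mem k (by simp) goodG2) hn hc h1 hv hv' (by rwa [e3, e4])
      have : ∀ M ∈ msG2, ∀ M' ∈ msG2, MEq (lm chevG2.rank M) (lm _ M') → M = M' := by decide +kernel
      exact this M hM M' hM' fun i j => by rw [← e3, e4]
    rw [← Set.ncard_image_of_injective _ hψ, ← List.toFinset_card_of_nodup (List.Nodup.filter _ (by decide +kernel)),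
      ← Set.ncard_coe_finset, ← Set.InjOn.ncard_image (f := fun M => pw kˣ (lm _ M) c) fun M hM M' hM' =>
        hi M (by simp_all) M' (by simp_all)]
    congr 1
    ext d
    simp only [Set.mem_image, Set.mem_setOf_eq, hc', List.coe_toFinset, List.mem_filter, decide_eq_true_eq]
    constructor
    · rintro ⟨y, ⟨v, hv, e⟩, rfl⟩
      obtain ⟨M, hM, e3⟩ := cM_G2.1 ⟨v, hv, rfl⟩
      refine ⟨M, ⟨hM, ?_⟩, e3 ▸ e⟩
      have : ∀ L ∈ msG2, ∀ M ∈ msG2, ∃ M' ∈ msG2, MEq (lm _ M * (PG2 * lm _ L)) (PG2 * lm _ L * lm _ M') := by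
        decide +kernel
      obtain ⟨M', hM', e4⟩ := this L hL M hM
      have e5 := (hr _).1 ⟨y, rfl⟩
      rw [← e, ← e3, ← map_pow, ← pw_mul, e4.eq, pw_mul, e1] at e5
      rwa [← hi _ hM' _ hM e5] at e4 ⊢
    · rintro ⟨M, ⟨hM, e⟩, rfl⟩
      obtain ⟨y, hy⟩ := (hr (pw kˣ (lm _ M) c)).2 (by rw [← map_pow, ← pw_mul, e.eq, pw_mul, e1])
      obtain ⟨v, hv, e3⟩ := cM_G2.2 ⟨M, hM, rfl⟩
      exact ⟨y, ⟨v, hv, by rw [e3, hy]⟩, hy⟩
  have h0 : ∀ y, ∀ i, (ψ y z0 ^ 3 ^ m) ^ X z0 i * (ψ y z1 ^ 3 ^ m) ^ X z1 i = ψ y i := fun y i =>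
    (pw_two _ _ _).symm.trans (congrFun ((hr _).1 ⟨y, rfl⟩) i)
  have h4 : ∀ (i i' : Fin chevG2.rank) (e : ℤ), (∀ j, j = i ∨ j = i') → ∀ y, ψ y i = 1 → (ψ y i' ^ 3 ^ m) ^ e = 1 →
      (e.natAbs = 2 → y ^ 2 = 1) ∧ (e.natAbs = 1 ∨ e.natAbs = 3 → y = 1) := fun i i' e h y a b => by
    rw [← pow_natAbs_eq_one, ← pow_mul] at b
    refine ⟨fun h' => hψ (funext fun j => ?_), fun h' => hψ (funext fun j => ?_)⟩
    · rw [h', mul_comm, pow_mul] at b
      rcases h j with rfl | rfl <;> simp [a, eq_one_of_pow3 b]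
    · have : ψ y i' = 1 := by
        rcases h' with h' | h' <;> rw [h'] at b
        exacts [eq_one_of_pow3 (by simpa using b), eq_one_of_pow3 (n := m + 1) b]
      rcases h j with rfl | rfl <;> simp [a, this]
  have h5 : ∀ y, ψ y z0 = 1 → _ := fun y a => h4 z0 z1 (X z1 z0) fin_G2 y a (by simpa [a] using h0 y z0)
  have h6 : ∀ y, ψ y z1 = 1 → _ := fun y a => h4 z1 z0 (X z0 z1) (fun j => (fin_G2 j).symm) y a
    (by simpa [a] using h0 y z1)
  have : ∀ L ∈ msG2, let X := PG2 * lm _ L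
    let p := (X z0 z0 * X z1 z1 - X z0 z1 * X z1 z0, X z0 z0 + X z1 z1,
      (msG2.filter fun M => MEq (lm _ M * X) (X * lm _ M)).length)
    (p = (3, 0, 6) ∧ (X z1 z0).natAbs = 2) ∨ ((p = (-3, 0, 2) ∨ p = (3, 3, 6) ∨ p = (3, -3, 6)) ∧
      ((X z1 z0).natAbs = 1 ∨ (X z0 z1).natAbs = 3)) := by decide +kernel
  have hs : 0 < 3 ^ m := by positivity
  refine ⟨_, _, ?_, rfl, rfl, ⟨⟨fun a b => hψ (by rw [map_mul, map_mul, mul_comm])⟩⟩, ?_⟩
  · rw [hN, hC, det_two, pow_succ 3 (2 * m), pow_succ 3 m, pow_mul', ← Nat.cast_pow]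
    have : (3 ^ m : ℕ) ≤ (3 ^ m) ^ 2 := Nat.le_self_pow two_ne_zero _
    generalize 3 ^ m = s at *
    generalize s ^ 2 = t at *
    rcases ‹∀ L ∈ msG2, _› L hL with ⟨h, -⟩ | ⟨h | h | h, -⟩ <;> simp only [Prod.mk.injEq] at h <;>
      rw [h.1, h.2.1, h.2.2] <;> omega
  · rcases this L hL with ⟨h, h'⟩ | ⟨-, h | h⟩
    · refine ⟨(Pi.evalMonoidHom _ z0).comp ψ, fun y a => ⟨(h5 y a).1 h', fun e => absurd ?_ e⟩⟩
      simp only [Prod.mk.injEq] at h
      rw [hN, det_two, h.1, h.2.1, pow_succ 3 (2 * m), pow_mul', ← Nat.cast_pow]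
      omega
    · exact ⟨(Pi.evalMonoidHom _ z0).comp ψ, fun y a => by simp [(h5 y a).2 (Or.inl h)]⟩
    · exact ⟨(Pi.evalMonoidHom _ z1).comp ψ, fun y a => by simp [(h6 y a).2 (Or.inr h)]⟩

theorem invG2_aux {k : Type*} [Field k] {c : Fin chevG2.rank → kˣ} (hc : c ^ 2 = 1) (h : c ≠ 1) :
    ∃ L ∈ msG2, pw kˣ (lm _ L) (fun _ => -1) = c := by
  have h0 : ∀ a : kˣ, a ^ 2 = 1 → a = 1 ∨ a = -1 := fun a ha => by
    rcases sq_eq_one_iff.1 (show (a : k) ^ 2 = 1 from (Units.val_pow_eq_pow_val _ _).symm.trans (congrArg Units.val ha)) with h | h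
    exacts [Or.inl (Units.ext h), Or.inr (Units.ext h)]
  have h1 : ∀ i, c i = 1 ∨ c i = -1 := fun i => h0 _ (congrFun hc i)
  simp only [funext_iff, pw_two]
  rcases h1 z0 with a | a <;> rcases h1 z1 with b | b
  · exact absurd (funext fun i => by rcases fin_G2 i with rfl | rfl <;> assumption) h
  · exact ⟨[[-1, 0], [1, 1]], by simp [msG2], fun i => by
      rcases fin_G2 i with rfl | rfl <;> simp only [a, b] <;> simp [lm, z0, z1]⟩
  · exact ⟨[[1, 3], [0, -1]], by simp [msG2], fun i => by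
      rcases fin_G2 i with rfl | rfl <;> simp only [a, b] <;> simp [lm, z0, z1, zpow_ofNat, pow_succ]⟩
  · exact ⟨[[1, 0], [0, 1]], by simp [msG2], fun i => by
      rcases fin_G2 i with rfl | rfl <;> simp only [a, b] <;> simp [lm, z0, z1]⟩

include hK in
theorem invG2 {x y : twistedG2 K (3 ^ m)} (hx : orderOf x = 2) (hy : orderOf y = 2) : IsConj x y := by
  let k := AlgebraicClosure K
  obtain ⟨j, hj, hR, -⟩ := exists_jG2 hK
  have h2 : ((2 : ℕ) : k) ≠ 0 := fun e => absurd ((CharP.cast_eq_zero_iff k 3 _).1 e) (by omega)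
  have hτ := τ_injective_of_mem k (by simp) goodG2
  have : ∀ x, orderOf x = 2 → IsConj ((goodG2.st_R3 k).τ fun _ => -1) (j x) := fun x hx => by
    obtain ⟨c, -, -, ⟨g, e0⟩, -, hc, -⟩ := (frobG2 hK).exists_tor (frobG2_τ hK) hj hR h2 (hx ▸ pow_orderOf_eq_one x)
    refine IsConj.trans ?_ (isConj_iff.2 ⟨g, e0.symm⟩)
    obtain ⟨L, hL, h⟩ := invG2_aux hc fun e => by
      rw [e, map_one, mul_one, mul_inv_cancel, map_eq_one_iff _ hj] at e0
      rw [e0, orderOf_one] at hx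
      omega
    obtain ⟨v, hv, e⟩ := cM_G2.2 ⟨L, hL, rfl⟩
    obtain ⟨y, e⟩ := ((goodG2.st k).τ_conj_iff (goodG2.st_R3 k) hτ (goodG2.st_Gr k)).2 ⟨v, hv, e ▸ h⟩
    exact isConj_iff.2 ⟨y, e.symm⟩
  exact (frobG2 hK).isConj_of hj hR h2 (hx ▸ pow_orderOf_eq_one x) ((this x hx).symm.trans (this y hy))

end CfsgH6
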