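import Cfsg.Agent.H6.Ree1
import Cfsg.Agent.H6.Collect
import Cfsg.Agent.H6.Invol

/-! The basic data of the small Ree groups. -/

set_option autoImplicit false

namespace CfsgH6

open Cfsg.Lie CfsgH1
open scoped MatrixGroups

set_option maxRecDepth 100000

/-- the data of a small Ree group -/
structure Ree (R : Type*) [Group R] (K : Type*) [Field K] [Fintype K] (m : ℕ) where
  hK : Fintype.card K = 3 ^ (2 * m + 1)
  w : K → K → K → R
  h : Kˣ →* R
  φ : SL(2, K) →* R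
  w_inj : ∀ {t u v t' u' v'}, w t u v = w t' u' v' → t = t' ∧ u = u' ∧ v = v'
  w_mul : ∀ t u v t' u' v', w t u v * w t' u' v' = w (t + t') (u + u' - t * t' ^ 3 ^ (m + 1))
    (v + v' - u * t' - t ^ 2 * t' ^ 3 ^ (m + 1) + t * t' * t' ^ 3 ^ (m + 1))
  h_inj : Function.Injective h
  h_w : ∀ a t u v, h a * w t u v * (h a)⁻¹ = w (a ^ 2 / a ^ 3 ^ (m + 1) * t) (a ^ 3 ^ (m + 1) / a * u) (a * v)
  w_h : ∀ {t u v a}, w t u v = h a → a = 1
  n_h : ∀ a, φ (sW 1) * h a * (φ (sW 1))⁻¹ = h a⁻¹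
  bru : ∀ g, (∃ t u v a, g = w t u v * h a) ∨ ∃ t u v t' u' v' a, g = w t u v * φ (sW 1) * (w t' u' v' * h a)
  n_w : ∀ {t u v t' u' v' a}, φ (sW 1) * w t u v * (φ (sW 1))⁻¹ = w t' u' v' * h a → w t u v = 1
  φ_U : ∀ u, φ (sU u) = w 0 u 0
  φ_neg : φ (-1) = 1
  card : Nat.card R = (3 ^ (2 * m + 1)) ^ 3 * (3 ^ (2 * m + 1) - 1) * ((3 ^ (2 * m + 1)) ^ 3 + 1)
  tor : ∀ {x : R}, ¬ 3 ∣ orderOf x → x ^ 2 ≠ 1 → ∃ N c : ℕ,
    (N + 1 = 3 ^ (2 * m + 1) ∧ c = 2 ∨ N = 3 ^ (2 * m + 1) + 1 ∧ c = 6 ∨ N + 3 ^ (m + 1) = 3 ^ (2 * m + 1) + 1 ∧ c = 6 ∨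
      N = 3 ^ (2 * m + 1) + 3 ^ (m + 1) + 1 ∧ c = 6) ∧ Nat.card (Subgroup.centralizer {x}) = N ∧
    {y : Subgroup.centralizer {x} | IsConj x y}.ncard = c ∧ IsMulCommutative (Subgroup.centralizer {x}) ∧
    ∃ χ : Subgroup.centralizer {x} →* (AlgebraicClosure K)ˣ, ∀ y, χ y = 1 → y ^ 2 = 1 ∧
      (N ≠ 3 ^ (2 * m + 1) + 1 → y = 1)
  inv : ∀ {x y : R}, orderOf x = 2 → orderOf y = 2 → IsConj x y

theorem mulG2 {F : Type*} [Field F] [CharP F 3] {Γ : Type*} [Group Γ] (C : Cover goodG2 F Γ)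
    (T t A B u v T' t' A' B' u' v' : F) :
    wordG C.x [(7, T), (6, t), (8, A), (9, B), (10, u), (11, v)] *
      wordG C.x [(7, T'), (6, t'), (8, A'), (9, B'), (10, u'), (11, v')] =
    wordG C.x [(7, T + T'), (6, t + t'), (8, A + A' + t * T'), (9, B + B' - A * T' + t * T' ^ 2),
      (10, u + u' - t * T' ^ 3), (11, v + v' - u * t' - t ^ 2 * T' ^ 3 + t * t' * T' ^ 3)] := by
  obtain ⟨f, hf⟩ := exists_ev fun n => if n = 2 then t else if n = 3 then T' else if n = 5 then t' else if n = 7 then A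
    else if n = 11 then u else if n = 13 then T else if n = 17 then B else if n = 19 then v else if n = 23 then A'
    else if n = 29 then B' else if n = 31 then u' else v'
  have h2 := C.same_sound checkedG2 f (p := 3) (by simpa using CharP.cast_eq_zero F 3) (key := fun r => if r = 7 then 0 else r)
    (fuel := 30) (v := [(7, [(13, 1)]), (6, [(2, 1)]), (8, [(7, 1)]), (9, [(17, 1)]), (10, [(11, 1)]), (11, [(19, 1)])] ++
      [(7, [(3, 1)]), (6, [(5, 1)]), (8, [(23, 1)]), (9, [(29, 1)]), (10, [(31, 1)]), (11, [(37, 1)])])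
    (w := [(7, [(3, 1), (13, 1)]), (6, [(2, 1), (5, 1)]), (8, [(2 * 3, 1), (7, 1), (23, 1)]),
      (9, [(17, 1), (2 * 3 ^ 2, 1), (7 * 3, 2), (29, 1)]), (10, [(11, 1), (31, 1), (2 * 3 ^ 3, 2)]),
      (11, [(19, 1), (37, 1), (11 * 5, 2), (2 ^ 2 * 3 ^ 3, 2), (2 * 5 * 3 ^ 3, 1)])]) (by decide +kernel)
  rw [C.pw_append] at h2
  simp only [Cover.pw, PWord.ev, List.map_cons, List.map_nil, Ply.ev_cons, Ply.ev_nil, map_mul, map_pow, hf 2 (by norm_num),
    hf 3 (by norm_num), hf 5 (by norm_num), hf 7 (by norm_num), hf 11 (by norm_num), hf 13 (by norm_num),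
    hf 17 (by norm_num), hf 19 (by norm_num), hf 23 (by norm_num), hf 29 (by norm_num), hf 31 (by norm_num),
    hf 37 (by norm_num), Int.cast_one, one_mul, add_zero, Int.cast_ofNat, Nat.reduceEqDiff, if_true, if_false] at h2
  have h3 : (3 : F) = 0 := CharP.cast_eq_zero F 3
  rw [h2]
  congr 1
  simp only [List.cons.injEq, Prod.mk.injEq, true_and, and_true]
  exact ⟨by ring, by ring, by linear_combination A * T' * h3, by linear_combination t * T' ^ 3 * h3,
    by linear_combination (u * t' + t ^ 2 * T' ^ 3) * h3⟩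

theorem sl2_cent {F : Type*} [Field F] [CharP F 3] {g : SL(2, F)} (h : ∀ y, g * y * g⁻¹ = y ∨ g * y * g⁻¹ = -y) :
    g = 1 ∨ g = -1 := by
  have h3 : (3 : F) = 0 := CharP.cast_eq_zero F 3
  have h1 : ∀ y : SL(2, F), y ^ 3 = 1 → y ∈ Subgroup.centralizer {g} := fun y hy => by
    rcases h y with e | e
    · exact Subgroup.mem_centralizer_singleton_iff.2 (mul_inv_eq_iff_eq_mul.1 e).symm
    · have := congrArg (· ^ 3) e
      simp only [conj_pow, hy, Odd.neg_pow (show Odd 3 by decide), mul_one, mul_inv_cancel] at this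
      have := congrArg (fun a : SL(2, F) => a.1 0 0) this
      simp only [Matrix.SpecialLinearGroup.coe_neg, Matrix.SpecialLinearGroup.coe_one, Matrix.neg_apply,
        Matrix.one_apply_eq] at this
      exact absurd (show (1 : F) = 0 by linear_combination h3 - this) one_ne_zero
  refine sl2_center (Subgroup.mem_center_iff.2 fun y => Subgroup.mem_centralizer_singleton_iff.1 ((sl2_le_of
    (fun t => h1 _ ?_) fun t => h1 _ ?_).ge trivial))
  · rw [pow_three, ← sU_add, ← sU_add, show t + (t + t) = 0 by linear_combination t * h3, sU_zero]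
  · rw [pow_three, ← sL_add, ← sL_add, show t + (t + t) = 0 by linear_combination t * h3, sL_zero]

universe u

variable {K : Type u} [Field K] [Fintype K] {m : ℕ} (hK : Fintype.card K = 3 ^ (2 * m + 1))
include hK

theorem exists_ree : ∃ X : Ree (twistedG2 K (3 ^ m)) K m,
    (∀ g : twistedG2 K (3 ^ m), g.1 ∈ (goodG2.gl K).U ↔ ∃ t u v, g = X.w t u v) ∧
    (∀ g : twistedG2 K (3 ^ m), g.1 ∈ (goodG2.gl K).HH ↔ ∃ a, g = X.h a) ∧
    (∀ t u v, (X.w t u v).1 = wordG (goodG2.gl K).x (reeWordU (3 ^ m) t u v)) ∧ ∀ a, (X.h a).1 = hG2 K m a := by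
  obtain ⟨hc, θ, hθ⟩ := exists_theta (by norm_num) hK
  have hR := twistedG2_eq hθ hK
  set C := goodG2.gl K
  set T : Twist C (Fin 1) := TG2g hθ hK
  have hm : ∀ (g : SL(2, K)) i j, (Matrix.SpecialLinearGroup.map θ g).1 i j = θ (g.1 i j) := fun _ _ _ => rfl
  have h3 := goodG2.gl_R3 K
  have hU := U1G2 hθ hK C (XG2 θ).fn_gl
  have hE : Enum [7, 6, 8, 9, 10, 11] {r | goodG2.Pos r} := by
    unfold Enum; simp only [Set.mem_setOf_eq]; decide +kernel
  have hi : ∀ {a b : List (ℕ × K)}, a.map Prod.fst = _ → b.map Prod.fst = _ → wordG C.x a = wordG C.x b → a = b :=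
    C.word_inj goodG2.nil_pos hE.1 hE.2.1 hE.2.2
  let w : K → K → K → twistedG2 K (3 ^ m) := fun t u v => ⟨_, hR.ge ((hU _).2 ⟨t, u, v, rfl⟩).2⟩
  let h : Kˣ →* twistedG2 K (3 ^ m) := (hG2 K m).codRestrict _ fun a => hR.ge (hG2_mem hθ hK a)
  have a1 : ∀ g : twistedG2 K (3 ^ m), g.1 ∈ C.U ↔ ∃ t u v, g = w t u v := fun g => by
    simp only [Subtype.ext_iff, w, ← hU]
    exact (and_iff_left (hR.le g.2)).symm
  have a2 : ∀ g : twistedG2 K (3 ^ m), g.1 ∈ C.HH ↔ ∃ a, g = h a := fun g =>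
    ⟨fun hg => ((H1G2 hθ hK).le ⟨hg, hR.le g.2⟩).imp fun a e => Subtype.ext e.symm, fun ⟨a, e⟩ => e ▸ hG2_HH a⟩
  have a3 : ∀ {g : twistedG2 K (3 ^ m)} {T t A B u v}, g.1 = wordG C.x [(7, T), (6, t), (8, A), (9, B), (10, u), (11, v)] →
      g = w t u v := fun {g T t A B u v} e => by
    obtain ⟨t', u', v', rfl⟩ := (a1 g).1 (e ▸ C.word_mem fun r hr => (hE.2.2 r).1 hr)
    have := hi rfl rfl e
    simp only [reeWordU, List.cons.injEq, Prod.mk.injEq] at this
    rw [this.2.1.2, this.2.2.2.2.1.2, this.2.2.2.2.2.1.2]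
  have a4 : ∀ {b : twistedG2 K (3 ^ m)}, b.1 ∈ C.B → ∃ t u v a, b = w t u v * h a := fun {b} hb => by
    obtain ⟨u, hu, hu', k, hk, hk', e⟩ := T.mem_B1 hb (hR.le b.2)
    obtain ⟨t, u, v, e1⟩ := (a1 ⟨u, hR.ge hu'⟩).1 hu
    obtain ⟨a, e2⟩ := (a2 ⟨k, hR.ge hk'⟩).1 hk
    exact ⟨t, u, v, a, by rw [← e1, ← e2]; exact Subtype.ext e⟩
  obtain ⟨φ1, b1, b2⟩ := C.exists_sl2 h3 ⟨10, by decide⟩
  obtain ⟨φ2, c1, c2⟩ := C.exists_sl2 h3 ⟨8, by decide⟩
  have d1 : ∀ a b, Commute (φ1 a) (φ2 b) := fun a b => by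
    refine C.commute_US (fun r hr s => (C.commute_US (fun r' hr' s' =>
      C.comm_of_cm (p := 0) Int.cast_zero ?_ _ _) ((Cover.sl2_range c1 c2).le ⟨b, rfl⟩)).symm)
      ((Cover.sl2_range b1 b2).le ⟨a, rfl⟩)
    rcases hr with rfl | rfl <;> rcases hr' with rfl | rfl <;> decide +kernel
  let φ0 : SL(2, K) →* GL chevG2.Idx K :=
    { toFun g := φ1 g * φ2 (Matrix.SpecialLinearGroup.map θ g)
      map_one' := by simp
      map_mul' a b := by rw [map_mul, map_mul, map_mul, (d1 b _).symm.mul_mul_mul_comm] }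
  have e0 : (0 : K) ^ 3 ^ m = 0 := zero_pow (by positivity)
  have d2 : ∀ u, φ0 (sU u) = w 0 u 0 := fun u => by
    change φ1 _ * φ2 _ = wordG C.x (reeWordU _ _ _ _)
    rw [(d1 _ _).eq, b1, show Matrix.SpecialLinearGroup.map θ (sU u) = sU (θ u) from sl2_ext (by rw [hm]; simp [sU])
      (by rw [hm]; simp [sU]) (by rw [hm]; simp [sU]) (by rw [hm]; simp [sU]), c1, hθ]
    simp [wordG, reeWordU, g2a, g2b, g2ab, g2aab, g2aaab, g2aaabb, show 6 < chevG2.nroots by decide,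
      show 7 < chevG2.nroots by decide, show 8 < chevG2.nroots by decide, show 9 < chevG2.nroots by decide,
      show 10 < chevG2.nroots by decide, show 11 < chevG2.nroots by decide, C.x_zero, e0]
  have d3 : ∀ u, φ0 (sL u) = wordG C.x (reeWordV (3 ^ m) 0 (-u) 0) := fun u => by
    change φ1 _ * φ2 _ = _
    rw [(d1 _ _).eq, b2, show Matrix.SpecialLinearGroup.map θ (sL u) = sL (θ u) from sl2_ext (by rw [hm]; simp [sL])
      (by rw [hm]; simp [sL]) (by rw [hm]; simp [sL]) (by rw [hm]; simp [sL]), c2, reeWordV_eq, ← hθ (-u), map_neg]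
    simp [wordG, show 0 < chevG2.nroots by decide, show 1 < chevG2.nroots by decide, show 2 < chevG2.nroots by decide,
      show 3 < chevG2.nroots by decide, show 4 < chevG2.nroots by decide, show 5 < chevG2.nroots by decide, C.x_zero, e0]
    rfl
  have d4 : ∀ g, φ0 g ∈ twistedG2 K (3 ^ m) := fun g => (sl2_le_of (H := (twistedG2 K (3 ^ m)).comap φ0)
    (fun u => by rw [Subgroup.mem_comap, d2]; exact (w 0 u 0).2) fun u => by
      rw [Subgroup.mem_comap, d3, hR, ← G1G2]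
      exact Subgroup.subset_closure ⟨_, ⟨_, _, _, Or.inr rfl⟩, rfl⟩).ge trivial
  have d5 : φ0 (sW 1) = C.n ⟨10, by decide⟩ 1 * C.n ⟨8, by decide⟩ 1 := by
    change φ1 _ * φ2 _ = _
    rw [show Matrix.SpecialLinearGroup.map θ (sW 1) = sW 1 from sl2_ext (by rw [hm]; simp [sW_val])
      (by rw [hm]; simp [sW_val]) (by rw [hm]; simp [sW_val]) (by rw [hm]; simp [sW_val]), Cover.sl2_n b1 b2, Cover.sl2_n c1 c2]
  have d6 : φ0 (sW 1) ∈ C.NN := d5 ▸ mul_mem (C.n_mem_NN _ one_ne_zero) (C.n_mem_NN _ one_ne_zero)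
  have d7 : C.Mon (φ0 (sW 1)) Fin.revPerm := by
    rw [d5, show Fin.revPerm = goodG2.rf ⟨10, by decide⟩ * goodG2.rf ⟨8, by decide⟩ from Equiv.ext fun s =>
      goodG2.vec_inj fun j => by
        rw [Equiv.Perm.mul_apply, goodG2.rf_vec, goodG2.A_comb _ (goodG2.rf_vec _ s), goodG2.rf_vec]
        revert s j; decide +kernel]
    exact (C.mon_n _ one_ne_zero).mul (C.mon_n _ one_ne_zero)
  have hr : ∀ t : K, (t ^ 3 ^ m) ^ 3 = t ^ 3 ^ (m + 1) := fun t => (pow_mul _ _ _).symm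
  refine ⟨{
    hK := hK
    w := w
    h := h
    φ := φ0.codRestrict _ d4
    w_inj := fun e => ?_
    w_mul := fun t u v t' u' v' => by rw [← hr]; exact a3 (mulG2 C ..)
    h_inj := fun a b e => hG2_injective (congrArg Subtype.val e)
    h_w := fun a t u v => ?_
    w_h := fun {t u v a} e => hG2_injective (m := m) ?_
    n_h := fun a => Subtype.ext ?_
    bru := fun g => ?_
    n_w := fun {t u v t' u' v' a} e => Subtype.ext ?_
    φ_U := fun u => Subtype.ext (d2 u)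
    φ_neg := Subtype.ext ?_
    card := by rw [hR]; exact card_G1G2 hθ hK
    tor := torG2x hK
    inv := invG2 hK }, a1, a2, fun _ _ _ => rfl, fun _ => rfl⟩
  · have := hi rfl rfl (congrArg Subtype.val e)
    simp only [reeWordU, List.cons.injEq, Prod.mk.injEq] at this
    exact ⟨this.2.1.2, this.2.2.2.2.1.2, this.2.2.2.2.2.1.2⟩
  · have h1 : ∀ L : List (ℕ × K), hG2 K m a * wordG C.x L * (hG2 K m a)⁻¹ = wordG C.x (L.map fun p =>
        (p.1, (a ^ ((3 ^ m : ℕ) * chevG2.cartan 0 p.1 + chevG2.cartan 1 p.1) : Kˣ) * p.2)) := fun L => by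
      induction L with
      | nil => simp [wordG]
      | cons p L ih =>
        rw [List.map_cons, wordG_cons', wordG_cons', ← ih, ← conj_mul]
        congr 1
        split_ifs with hp
        · rw [C.conj_x (hG2_HH a) (hG2_π a), chr_G2]
        · simp
    refine (a3 (g := h a * w t u v * (h a)⁻¹) (h1 (reeWordU (3 ^ m) t u v))).trans ?_
    dsimp only
    rw [show chevG2.cartan 0 g2b = -3 by decide +kernel, show chevG2.cartan 1 g2b = 2 by decide +kernel,
      show chevG2.cartan 0 g2aaab = 3 by decide +kernel, show chevG2.cartan 1 g2aaab = -1 by decide +kernel,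
      show chevG2.cartan 0 g2aaabb = 0 by decide +kernel, show chevG2.cartan 1 g2aaabb = 1 by decide +kernel]
    simp only [zpow_add, zpow_mul, zpow_natCast]
    simp [← hr, zpow_ofNat, div_eq_inv_mul, mul_comm]
  · rw [map_one]
    exact C.eq_one_of_mem_HH goodG2.nil_pos ((a1 (h a)).2 ⟨t, u, v, e.symm⟩) (hG2_HH a) rfl
  · have := Twist.conj_eq_inv (C := C) Function.injective_id d6 d7 (hG2_HH (m := m) a⁻¹)
    rwa [← map_inv, inv_inv] at this
  · rcases T.PJ_cases 0 (g := g.1) (by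
      rw [show T.nodes 0 = Set.univ from Set.eq_univ_of_forall fun i => Subsingleton.elim _ _, C.PJ_univ]
      exact T.G1_le_Gr (hR.le g.2)) (hR.le g.2) with hg | ⟨b, hb, b', hb', e⟩
    · exact Or.inl (a4 hg)
    · obtain ⟨t, u, v, a, e1⟩ := a4 (b := ⟨b, hR.ge hb.2⟩) hb.1
      have h1 : T.s 0 = Fin.revPerm := by
        rcases T.eq_one_or_s (c := 0) (T.mem_W1_of_fix d6 (T.G1_le_Fix (hR.le (d4 _))) d7) (by
          rw [show T.nodes 0 = Set.univ from Set.eq_univ_of_forall fun i => Subsingleton.elim _ _]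
          simpa [Good.WJ, Good.W] using revG2) with e | e
        · have := DFunLike.congr_fun e ⟨0, by decide⟩
          exact absurd this (by decide +kernel)
        · exact e.symm
      have h2 : (φ0 (sW 1))⁻¹ * T.ν 0 ∈ C.HH := C.mem_HH_of_mon (mul_mem (inv_mem d6) (T.ν_NN 0)) (by
        simpa [h1] using d7.inv.mul (T.mon_ν 0))
      obtain ⟨t', u', v', a', e2⟩ := a4 (b := ⟨(φ0 (sW 1))⁻¹ * (h a).1 * T.ν 0 * b', mul_mem (mul_mem (mul_mem
        (inv_mem (d4 _)) (h a).2) (hR.ge (T.ν_G1 0))) (hR.ge hb'.2)⟩) (mul_mem (by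
          have := mul_mem (C.conj_HH' d6 (hG2_HH (m := m) a)) h2
          rw [mul_assoc, mul_assoc, mul_inv_cancel_left, ← mul_assoc] at this
          exact C.HH_le_B this) hb'.1)
      refine Or.inr ⟨t, u, v, t', u', v', a', Subtype.ext ?_⟩
      rw [← e2, e, show b = _ from congrArg Subtype.val e1]
      simp [mul_assoc]
  · have h1 := d7.conj_mem (S := {r | goodG2.Pos r}) (T := {r | ¬ goodG2.Pos r})
      (fun r hr => by simpa [goodG2.pos_rev] using hr) ((a1 _).2 ⟨t, u, v, rfl⟩)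
    simpa using C.eq_one_of_V_B h1 (mul_mem (C.U_le_B ((a1 _).2 ⟨t', u', v', rfl⟩)) (C.HH_le_B (hG2_HH a)))
      (congrArg Subtype.val e)
  · change φ1 _ * φ2 _ = 1
    rw [show Matrix.SpecialLinearGroup.map θ (-1 : SL(2, K)) = -1 from sl2_ext (by rw [hm]; simp) (by rw [hm]; simp) (by rw [hm]; simp)
      (by rw [hm]; simp),
      Cover.sl2_neg b1 b2, Cover.sl2_neg c1 c2]
    have := (h3.h_eq_τ ⟨10, by decide⟩ (-1))
    have h2 := (h3.h_eq_τ ⟨8, by decide⟩ (-1))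
    simp only [Units.val_neg, Units.val_one] at this h2
    rw [this, h2, ← map_mul, ← map_one h3.τ]
    refine congrArg _ (funext fun i => ?_)
    have : ∀ i, Even (cov chevG2 (⟨10, by decide⟩ : Fin chevG2.nroots) i + cov chevG2 (⟨8, by decide⟩ : Fin chevG2.nroots) i) := by
      decide +kernel
    rw [Pi.mul_apply, ← zpow_add, (this i).neg_one_zpow]; rfl

end CfsgH6
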