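import Cfsg.Agent.H6.Ree2
import Cfsg.Agent.H8.CC
import Cfsg.Agent.H8.SL2n
import Cfsg.Agent.H2.Frob

/-! The Borel subgroup and the involutions of the small Ree groups. -/

set_option autoImplicit false

namespace CfsgH6.Ree

open CfsgH1 CfsgH2 Subgroup
open scoped MatrixGroups

variable {R : Type*} [Group R] {K : Type*} [Field K] [Fintype K] {m : ℕ} (X : Ree R K m)

local notation "q" => 3 ^ (2 * m + 1)
local notation "r" => 3 ^ (m + 1)

include X in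
theorem charP : CharP K 3 := (exists_theta (by norm_num) X.hK).1

include X in
theorem three : (3 : K) = 0 := haveI := X.charP; CharP.cast_eq_zero K 3

include X in
theorem pow_rr (t : K) : (t ^ r) ^ r = t ^ 3 := by
  rw [← pow_mul, ← pow_add, show m + 1 + (m + 1) = 2 * m + 1 + 1 by ring, pow_succ 3, pow_mul, ← X.hK,
    FiniteField.pow_card]

include X in
theorem add_r (s t : K) : (s + t) ^ r = s ^ r + t ^ r := haveI := X.charP; haveI := Fact.mk Nat.prime_three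
  add_pow_char_pow ..

theorem odd_r : Odd r := Odd.pow (by decide)

theorem neg_r (t : K) : (-t) ^ r = -t ^ r := odd_r.neg_pow t

theorem zero_r : (0 : K) ^ r = 0 := zero_pow (by positivity)

include X in
theorem sq_of_r {a : K} (ha : a ≠ 0) (h : a ^ r = a) : a ^ 2 = 1 := by
  have := X.pow_rr a
  rw [h, h] at this
  exact mul_left_cancel₀ ha (by linear_combination -this)

include X in
theorem one_of_r {a : K} (ha : a ≠ 0) (h : a ^ r = a ^ 2) : a = 1 := by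
  have := X.pow_rr a
  rw [h, pow_right_comm, h] at this
  exact mul_left_cancel₀ (pow_ne_zero 3 ha) (by linear_combination this)

theorem q_eq (m : ℕ) : ∃ k, 3 ^ (2 * m + 1) = 8 * k + 3 := by
  have : 3 ^ (2 * m + 1) % 8 = 3 := by simp [pow_succ, pow_mul, Nat.mul_mod, Nat.pow_mod]
  exact ⟨_, this ▸ (Nat.div_add_mod _ 8).symm⟩

include X in
theorem odd_K : Fintype.card K % 2 = 1 := by obtain ⟨k, hk⟩ := q_eq m; rw [X.hK, hk]; omega

include X in
theorem finite : Finite R := Nat.finite_of_card_ne_zero (by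
  obtain ⟨k, hk⟩ := q_eq m
  rw [X.card, hk]
  exact mul_ne_zero (mul_ne_zero (by positivity) (by omega)) (by omega))

theorem w_zero : X.w 0 0 0 = 1 := by simpa using X.w_mul 0 0 0 0 0 0

theorem w_eq_one {t u v : K} : X.w t u v = 1 ↔ t = 0 ∧ u = 0 ∧ v = 0 :=
  ⟨fun h => X.w_inj (h.trans X.w_zero.symm), fun ⟨a, b, c⟩ => by rw [a, b, c, X.w_zero]⟩

theorem w_inv (t u v : K) : (X.w t u v)⁻¹ = X.w (-t) (-u - t * t ^ r) (-v - u * t + t ^ 2 * t ^ r) :=
  inv_eq_of_mul_eq_one_right (by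
    rw [X.w_mul, w_eq_one, neg_r]
    exact ⟨by ring, by ring, by linear_combination t ^ 2 * t ^ r * X.three⟩)

/-- the unipotent subgroup -/
def U : Subgroup R where
  carrier := {g | ∃ t u v, g = X.w t u v}
  one_mem' := ⟨0, 0, 0, X.w_zero.symm⟩
  mul_mem' := by rintro _ _ ⟨t, u, v, rfl⟩ ⟨t', u', v', rfl⟩; exact ⟨_, _, _, X.w_mul ..⟩
  inv_mem' := by rintro _ ⟨t, u, v, rfl⟩; exact ⟨_, _, _, X.w_inv ..⟩

/-- the Borel subgroup -/
def B : Subgroup R := X.U ⊔ X.h.range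

/-- the Weyl element -/
def n : R := X.φ (sW 1)

/-- the diagonal involution -/
def z : R := X.h (-1)

theorem w_mem (t u v : K) : X.w t u v ∈ X.U := ⟨t, u, v, rfl⟩

theorem h_conj (a : Kˣ) {u : R} (hu : u ∈ X.U) : X.h a * u * (X.h a)⁻¹ ∈ X.U := by
  obtain ⟨t, u, v, rfl⟩ := hu; exact ⟨_, _, _, X.h_w ..⟩

theorem H_norm : X.h.range ≤ N[X.U] := by
  haveI := X.finite
  rintro _ ⟨a, rfl⟩
  exact mem_norm_of_conj fun _ => X.h_conj a

theorem B_norm : X.B ≤ N[X.U] := sup_le le_normalizer X.H_norm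

theorem U_le_B : X.U ≤ X.B := le_sup_left

theorem h_mem (a : Kˣ) : X.h a ∈ X.B := mem_sup_right ⟨a, rfl⟩

theorem mem_B {g : R} : g ∈ X.B ↔ ∃ u ∈ X.U, ∃ a, g = u * X.h a := by
  rw [B, mem_sup_of_norm' X.H_norm]
  exact ⟨fun ⟨u, hu, _, ⟨a, rfl⟩, e⟩ => ⟨u, hu, a, e.symm⟩, fun ⟨u, hu, a, e⟩ => ⟨u, hu, _, ⟨a, rfl⟩, e.symm⟩⟩

theorem eq_one_of_h {a : Kˣ} (h : X.h a ∈ X.U) : a = 1 := by
  obtain ⟨t, u, v, e⟩ := h; exact X.w_h e.symm

theorem B_inj {u u' : R} (hu : u ∈ X.U) (hu' : u' ∈ X.U) {a a' : Kˣ} (e : u * X.h a = u' * X.h a') : u = u' ∧ a = a' := by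
  obtain rfl : a = a' := mul_inv_eq_one.1 (X.eq_one_of_h (by
    rw [map_mul, map_inv, show X.h a * (X.h a')⁻¹ = u⁻¹ * u' by rw [eq_inv_mul_iff_mul_eq, ← mul_assoc, e]; simp]
    exact mul_mem (inv_mem hu) hu'))
  exact ⟨mul_right_cancel e, rfl⟩

theorem bru' (g : R) : g ∈ X.B ∨ ∃ u ∈ X.U, ∃ b ∈ X.B, g = u * X.n * b :=
  (X.bru g).imp (fun ⟨_, _, _, a, e⟩ => X.mem_B.2 ⟨_, X.w_mem .., a, e⟩) fun ⟨_, _, _, _, _, _, a, e⟩ =>
    ⟨_, X.w_mem .., _, X.mem_B.2 ⟨_, X.w_mem .., a, rfl⟩, e⟩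

theorem n_mul_n : X.n * X.n = 1 := by
  rw [n, ← map_mul, ← X.φ_neg]
  exact congrArg _ (sl2_ext (by simp [sl2_mul, sW_val]) (by simp [sl2_mul, sW_val]) (by simp [sl2_mul, sW_val])
    (by simp [sl2_mul, sW_val]))

theorem n_inv : X.n⁻¹ = X.n := inv_eq_of_mul_eq_one_right X.n_mul_n

theorem n_h' (a : Kˣ) : X.n * X.h a * X.n⁻¹ = X.h a⁻¹ := X.n_h a

theorem n_U {u : R} (hu : u ∈ X.U) (h : X.n * u * X.n⁻¹ ∈ X.B) : u = 1 := by
  obtain ⟨t, u, v, rfl⟩ := hu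
  obtain ⟨_, ⟨t', u', v', rfl⟩, a, e⟩ := X.mem_B.1 h
  exact X.n_w e

/-- trivial intersections -/
theorem TI {u g : R} (hu : u ∈ X.U) (h1 : u ≠ 1) (h : g * u * g⁻¹ ∈ X.B) : g ∈ X.B := by
  refine (X.bru' g).resolve_right ?_
  rintro ⟨v, hv, b, hb, rfl⟩
  refine CfsgH8.conj_ne_one b h1 (X.n_U (conj_mem_of_norm (X.B_norm hb) hu) ?_)
  simpa [mul_assoc] using mul_mem (mul_mem (inv_mem (X.U_le_B hv)) h) (X.U_le_B hv)

theorem w_ne : X.w 0 1 0 ≠ 1 := by simp [w_eq_one]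

theorem n_notMem : X.n ∉ X.B := fun h =>
  X.w_ne (X.n_U (X.w_mem ..) (X.U_le_B (conj_mem_of_norm (X.B_norm h) (X.w_mem ..))))

theorem norm_U : N[X.U] = X.B := le_antisymm
  (fun _ hg => X.TI (X.w_mem ..) X.w_ne (X.U_le_B (conj_mem_of_norm hg (X.w_mem ..)))) X.B_norm

theorem mem_H {b : R} (hb : b ∈ X.B) (h : X.n * b * X.n⁻¹ ∈ X.B) : ∃ a, b = X.h a := by
  obtain ⟨u, hu, a, rfl⟩ := X.mem_B.1 hb
  rw [← conj_mul, n_h', mul_mem_cancel_right (X.h_mem _)] at h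
  exact ⟨a, by rw [X.n_U hu h, one_mul]⟩

theorem card_U : Nat.card X.U = q ^ 3 := by
  rw [← Nat.card_eq_of_bijective (fun p : K × K × K => (⟨_, X.w_mem p.1 p.2.1 p.2.2⟩ : X.U))
    ⟨fun a b e => by simpa [Prod.ext_iff] using X.w_inj (congrArg Subtype.val e),
      fun ⟨_, t, u, v, e⟩ => ⟨(t, u, v), Subtype.ext e.symm⟩⟩, Nat.card_prod, Nat.card_prod, Nat.card_eq_fintype_card, X.hK]
  ring

theorem card_H : Nat.card X.h.range = q - 1 := by
  rw [← Nat.card_congr (MonoidHom.ofInjective X.h_inj).toEquiv, Nat.card_units, Nat.card_eq_fintype_card, X.hK]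

theorem card_B : Nat.card X.B = q ^ 3 * (q - 1) := by
  rw [B, card_sup_of_disj (Or.inr X.H_norm), card_U, card_H]
  refine eq_bot_iff.2 ?_
  rintro _ ⟨h, a, rfl⟩
  rw [X.eq_one_of_h h, map_one]; exact one_mem _

theorem index_B : X.B.index = q ^ 3 + 1 := by
  have := X.B.card_mul_index
  obtain ⟨k, hk⟩ := q_eq m
  rw [card_B, X.card] at this
  exact Nat.eq_of_mul_eq_mul_left (Nat.mul_pos (by positivity) (by rw [hk]; omega)) this

theorem pg_U : IsPGroup 3 X.U := IsPGroup.of_card (n := (2 * m + 1) * 3) (by rw [card_U, pow_mul])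

theorem three_dvd : 3 ∣ q := dvd_pow_self 3 (by omega)

theorem syl_U : Syl 3 X.U ⊤ := ⟨le_top, X.pg_U, by
  have h := X.U.card_mul_index
  obtain ⟨k, hk⟩ := q_eq m
  have h2 := three_dvd (m := m)
  rw [card_U, X.card, mul_assoc] at h
  rw [relIndex_top_right, Nat.eq_of_mul_eq_mul_left (by positivity) h, Nat.Prime.dvd_mul Nat.prime_three,
    Nat.dvd_add_right (h2.trans (dvd_pow_self _ three_ne_zero))]
  rw [hk] at h2 ⊢
  omega⟩

theorem mem_U {b : R} (hb : b ∈ X.B) {k : ℕ} (h : b ^ 3 ^ k = 1) : b ∈ X.U :=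
  haveI := X.finite; haveI := Fact.mk Nat.prime_three
  (X.syl_U.mono X.U_le_B le_top).mem_of_norm X.B_norm hb h

theorem w_cube (t u v : K) : X.w t u v ^ 3 = X.w 0 0 (-(t ^ 2 * t ^ r)) := by
  rw [pow_three', X.w_mul, X.w_mul]
  congr 1
  · linear_combination t * X.three
  · linear_combination (u - t * t ^ r) * X.three
  · linear_combination (v - u * t) * X.three

theorem order_w0 {u v : K} (h : X.w 0 u v ≠ 1) : orderOf (X.w 0 u v) = 3 :=
  haveI := Fact.mk Nat.prime_three; orderOf_eq_prime (by simp [w_cube, w_zero]) h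

theorem order_w {t : K} (ht : t ≠ 0) (u v : K) : orderOf (X.w t u v) = 9 :=
  haveI := Fact.mk Nat.prime_three
  orderOf_eq_prime_pow (p := 3) (n := 1) (by simp [w_cube, w_eq_one, ht]) (by
    rw [show 3 ^ (1 + 1) = 3 * 3 from rfl, pow_mul]; simp [w_cube, w_zero])

theorem comm_h {a : Kˣ} {t u v : K} (h : X.h a * X.w t u v * (X.h a)⁻¹ = X.w t u v) :
    a = 1 ∨ t = 0 ∧ v = 0 ∧ (a = -1 ∨ u = 0) := by
  rw [X.h_w] at h
  obtain ⟨h1, h2, h3⟩ := X.w_inj h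
  have ha := a.ne_zero
  refine or_iff_not_imp_left.2 fun h0 => ⟨(mul_left_eq_self₀.1 h1).resolve_left fun e => h0 (Units.ext
    (X.one_of_r ha ?_)), (mul_left_eq_self₀.1 h3).resolve_left fun e => h0 (Units.ext e),
    (mul_left_eq_self₀.1 h2).imp_left fun e => ?_⟩
  · exact (div_eq_one_iff_eq (pow_ne_zero _ ha)).1 e |>.symm
  · exact Units.ext ((sq_eq_one_iff.1 (X.sq_of_r ha ((div_eq_one_iff_eq ha).1 e))).resolve_left
      fun e => h0 (Units.ext e))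

theorem z_w (t u v : K) : X.z * X.w t u v * X.z⁻¹ = X.w (-t) u (-v) := by
  rw [z, X.h_w]; simp [odd_r.neg_pow]

include X in
theorem neg_ne : (-1 : Kˣ) ≠ 1 := fun h => one_ne_zero (α := K) (by
  have := congrArg Units.val h
  simp only [Units.val_neg, Units.val_one] at this
  linear_combination X.three + this)

theorem z_ne : X.z ≠ 1 := fun h => X.neg_ne (X.h_inj (h.trans (map_one _).symm))

theorem z_mul_z : X.z * X.z = 1 := by rw [z, ← map_mul]; simp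

theorem order_z : orderOf X.z = 2 := orderOf_eq_prime (by rw [sq, z_mul_z]) X.z_ne

theorem eq_z {a : Kˣ} (h : X.h a * X.h a = 1) (h1 : X.h a ≠ 1) : X.h a = X.z := by
  rw [← map_mul, map_eq_one_iff _ X.h_inj] at h
  rcases mul_self_eq_one_iff.1 (show (a : K) * a = 1 from congrArg Units.val h) with e | e
  · exact absurd (by rw [show a = 1 from Units.ext e, map_one]) h1
  · rw [show a = -1 from Units.ext e, z]

theorem φ_D {c : K} (hc : c ≠ 0) : ∃ a : Kˣ, X.φ (sW c * sW (-1)) = X.h a ∧ (a : K) ^ r / a = c ^ 2 := by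
  have h1 : ∀ c : K, c ≠ 0 → X.φ (sW c * sW (-1)) * X.w 0 1 0 * (X.φ (sW c * sW (-1)))⁻¹ = X.w 0 (c ^ 2) 0 :=
    fun c hc => by
    rw [← X.φ_U, ← X.φ_U, ← map_inv, ← map_mul, ← map_mul, mul_inv_eq_iff_eq_mul.2]
    exact sl2_ext (by simp [sl2_mul, sW_val, hc, sU_val]) (by simp [sl2_mul, sW_val, hc, sU_val, sq])
      (by simp [sl2_mul, sW_val, hc, sU_val]) (by simp [sl2_mul, sW_val, hc, sU_val])
  have h2 := fun c hc => X.TI (X.w_mem ..) X.w_ne (h1 c hc ▸ X.U_le_B (X.w_mem ..))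
  obtain ⟨a, ha⟩ := X.mem_H (h2 c hc) (by
    rw [n, ← map_inv, ← map_mul, ← map_mul, mul_inv_eq_iff_eq_mul.2 (show _ = sW c⁻¹ * sW (-1) * sW 1 from
      sl2_ext (by simp [sl2_mul, sW_val, hc]) (by simp [sl2_mul, sW_val, hc]) (by simp [sl2_mul, sW_val, hc])
        (by simp [sl2_mul, sW_val, hc]))]
    exact h2 _ (inv_ne_zero hc))
  have := h1 c hc
  rw [ha, X.h_w] at this
  exact ⟨a, ha, by simpa using (X.w_inj this).2.1⟩

theorem φ_ker {g : SL(2, K)} (h : X.φ g = 1) : g = 1 ∨ g = -1 := by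
  by_cases h0 : g.1 1 0 = 0
  · obtain ⟨h1, e⟩ := sl2_eq_of_zero h0
    obtain ⟨a, ha, h2⟩ := X.φ_D h1
    rw [e, map_mul, ha, X.φ_U] at h
    obtain ⟨h3, rfl⟩ := X.B_inj (X.w_mem ..) (one_mem _) (a' := 1) (h.trans (by simp))
    rw [(X.w_eq_one.1 h3).2.1, sU_zero, one_mul] at e
    rcases (by simpa using h2.symm : g.1 0 0 = 1 ∨ g.1 0 0 = -1) with h4 | h4 <;> rw [h4] at e <;> rw [e]
    · exact Or.inl (sl2_ext (by simp [sl2_mul, sW_val]) (by simp [sl2_mul, sW_val]) (by simp [sl2_mul, sW_val])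
        (by simp [sl2_mul, sW_val]))
    · exact Or.inr (sl2_ext (by simp [sl2_mul, sW_val]) (by simp [sl2_mul, sW_val]) (by simp [sl2_mul, sW_val])
        (by simp [sl2_mul, sW_val]))
  · obtain ⟨a, ha, -⟩ := X.φ_D (neg_ne_zero.2 (inv_ne_zero h0))
    rw [sl2_eq_of_ne h0, map_mul, map_mul, X.φ_U, X.φ_U, mul_eq_one_iff_eq_inv', ← eq_mul_inv_iff_mul_eq] at h
    refine absurd ?_ X.n_notMem
    have : sW (1 : K) = (sW (-(g.1 1 0)⁻¹) * sW (-1))⁻¹ * sW (-(g.1 1 0)⁻¹) := by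
      rw [mul_inv_rev, inv_mul_cancel_right, eq_inv_iff_mul_eq_one]
      exact sl2_ext (by simp [sl2_mul, sW_val]) (by simp [sl2_mul, sW_val]) (by simp [sl2_mul, sW_val])
        (by simp [sl2_mul, sW_val])
    rw [n, this, map_mul, map_inv, ha, h]
    exact mul_mem (inv_mem (X.h_mem a)) (X.U_le_B (mul_mem (inv_mem (X.w_mem ..)) (inv_mem (X.w_mem ..))))

theorem n_z : X.n ∈ C1[X.z] := mem_centralizer_singleton_iff.2 (by
  rw [← mul_inv_eq_iff_eq_mul, z, n_h']; simp)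

theorem φ_z (g : SL(2, K)) : X.φ g ∈ C1[X.z] := by
  have h : ∀ u, X.φ (sU u) ∈ C1[X.z] := fun u => mem_centralizer_singleton_iff.2 (by
    rw [X.φ_U, eq_comm, ← mul_inv_eq_iff_eq_mul, z_w]; simp)
  refine (sl2_le_of (H := C1[X.z].comap X.φ) h fun t => ?_).ge (mem_top g)
  rw [show sL t = sW 1 * sU (-t) * (sW 1)⁻¹ from eq_mul_inv_of_mul_eq (sl2_ext (by simp [sl2_mul, sW_val, sL_val, sU_val])
    (by simp [sl2_mul, sW_val, sL_val, sU_val]) (by simp [sl2_mul, sW_val, sL_val, sU_val]) (by simp [sl2_mul, sW_val, sL_val, sU_val]))]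
  exact mul_mem (mul_mem X.n_z (h _)) (inv_mem X.n_z)

theorem z_notMem : X.z ∉ X.φ.range := by
  rintro ⟨g, hg⟩
  haveI := X.charP
  rcases sl2_cent (g := g) fun y => (X.φ_ker (g := g * y * g⁻¹ * y⁻¹) (by
    simp only [map_mul, map_inv, hg, ← mem_centralizer_singleton_iff.1 (X.φ_z y)]; simp)).imp
    mul_inv_eq_one.1 fun e => by rw [mul_inv_eq_iff_eq_mul.1 e, neg_one_mul] with rfl | rfl
  · exact X.z_ne (hg.symm.trans (map_one _))
  · exact X.z_ne (hg.symm.trans X.φ_neg)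

theorem U_z {u : R} (hu : u ∈ X.U) (h : X.z * u * X.z⁻¹ = u) : ∃ t, u = X.w 0 t 0 := by
  obtain ⟨t, u, v, rfl⟩ := hu
  rcases X.comm_h h with e | ⟨rfl, rfl, -⟩
  exacts [absurd e X.neg_ne, ⟨u, rfl⟩]

theorem cent_z : C1[X.z] = zpowers X.z ⊔ X.φ.range := by
  refine le_antisymm ?_ (sup_le (zpowers_le.2 (self_mem_cent1 _)) (by rintro _ ⟨g, rfl⟩; exact X.φ_z g))
  have h1 : ∀ u ∈ X.U, X.z * u * X.z⁻¹ = u → u ∈ zpowers X.z ⊔ X.φ.range := fun u hu e => by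
    obtain ⟨t, rfl⟩ := X.U_z hu e
    exact mem_sup_right ⟨_, X.φ_U t⟩
  have h2 : ∀ b ∈ X.B, X.z * b * X.z⁻¹ = b → b ∈ zpowers X.z ⊔ X.φ.range := fun b hb e => by
    obtain ⟨u, hu, a, rfl⟩ := X.mem_B.1 hb
    rw [← conj_mul, z, ← map_inv, ← map_mul, ← map_mul, mul_inv_cancel_comm, mul_left_inj, map_inv] at e
    refine mul_mem (h1 u hu e) ?_
    obtain ⟨k, hk⟩ := odd_r (m := m)
    obtain ⟨b, hb, h3⟩ := X.φ_D (pow_ne_zero k a.ne_zero)
    have h4 : ((a / b : Kˣ) : K) ^ 2 = 1 := X.sq_of_r (Units.ne_zero _) (by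
      rw [hk] at h3 ⊢
      rw [div_eq_iff b.ne_zero] at h3
      simp only [Units.val_div_eq_div_val, div_pow, h3]
      field_simp; ring)
    rw [← div_mul_cancel a b, map_mul]
    refine mul_mem (mem_sup_left ?_) (mem_sup_right ⟨_, hb⟩)
    rcases sq_eq_one_iff.1 h4 with e | e
    · rw [show a / b = 1 from Units.ext e, map_one]; exact one_mem _
    · rw [show a / b = -1 from Units.ext e]; exact mem_zpowers _
  intro g hg
  replace hg := mul_inv_eq_iff_eq_mul.2 (mem_centralizer_singleton_iff.1 hg).symm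
  rcases X.bru' g with h | ⟨u, hu, b, hb, rfl⟩
  · exact h2 g h hg
  have h3 := mul_inv_eq_iff_eq_mul.2 (mem_centralizer_singleton_iff.1 X.n_z).symm
  rw [← conj_mul, ← conj_mul, h3] at hg
  have h4 : X.z * u * X.z⁻¹ = u := (inv_mul_eq_one.1 (X.n_U (mul_mem (inv_mem hu) (X.h_conj _ hu)) (by
    have : X.n * (u⁻¹ * (X.z * u * X.z⁻¹)) * X.n⁻¹ = b * (X.z * b * X.z⁻¹)⁻¹ := by
      rw [eq_mul_inv_iff_mul_eq, n_inv]
      calc _ = X.n * u⁻¹ * (X.z * u * X.z⁻¹ * X.n * (X.z * b * X.z⁻¹)) := by group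
        _ = X.n * X.n * b := by rw [hg]; group
        _ = _ := by rw [n_mul_n, one_mul]
    exact this ▸ mul_mem hb (inv_mem (mul_mem (mul_mem (X.h_mem _) hb) (inv_mem (X.h_mem _))))))).symm
  rw [h4, mul_right_inj] at hg
  exact mul_mem (mul_mem (h1 u hu h4) (mem_sup_right ⟨_, rfl⟩)) (h2 b hb hg)

theorem mem_zpowers_two {G : Type*} [Group G] {x y : G} (h : x * x = 1) (hy : y ∈ zpowers x) : y = 1 ∨ y = x := by
  obtain ⟨k, rfl⟩ := hy
  have : x ^ (2 : ℤ) = 1 := (zpow_two x).trans h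
  rcases Int.even_or_odd' k with ⟨j, rfl | rfl⟩ <;> simp only [zpow_add, zpow_mul, this] <;> simp

theorem mem_cent_z {g : R} : g ∈ C1[X.z] ↔ ∃ y, g = X.φ y ∨ g = X.z * X.φ y := by
  haveI := X.finite
  rw [cent_z, mem_sup_of_norm' (le_norm_of_le_cent (by rintro _ ⟨g, rfl⟩; exact cent_zpowers X.z ▸ X.φ_z g))]
  refine ⟨?_, ?_⟩
  · rintro ⟨a, ha, _, ⟨y, rfl⟩, rfl⟩
    refine ⟨y, ?_⟩
    rcases mem_zpowers_two X.z_mul_z ha with rfl | rfl <;> simp
  · rintro ⟨y, rfl | rfl⟩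
    exacts [⟨1, one_mem _, _, ⟨y, rfl⟩, one_mul _⟩, ⟨_, mem_zpowers _, _, ⟨y, rfl⟩, rfl⟩]

theorem cent_z_iso : Nonempty (C1[X.z] ≃* Multiplicative (ZMod 2) × Matrix.ProjectiveSpecialLinearGroup (Fin 2) K) := by
  let ψ : Matrix.ProjectiveSpecialLinearGroup (Fin 2) K →* R := QuotientGroup.lift _ X.φ fun g hg => by
    rcases sl2_center hg with rfl | rfl
    exacts [map_one _, X.φ_neg]
  have h1 : ψ.range = X.φ.range := by
    ext g
    exact ⟨fun ⟨y, e⟩ => by induction y using QuotientGroup.induction_on; exact ⟨_, e⟩, fun ⟨y, e⟩ => ⟨y, e⟩⟩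
  let e : Multiplicative (ZMod 2) ≃* zpowers X.z := mulEquivOfPrimeCardEq (p := 2) (by simp)
    (by rw [Nat.card_zpowers, order_z])
  let ι := (zpowers X.z).subtype.comp e.toMonoidHom
  have h2 : ι.range = zpowers X.z := by
    rw [MonoidHom.range_comp, MonoidHom.range_eq_top.2 e.surjective, ← MonoidHom.range_eq_map, range_subtype]
  have h3 : ∀ a b, Commute (ι a) (ψ b) := fun a b => by
    obtain ⟨y, hy⟩ := h1.le ⟨b, rfl⟩
    exact hy ▸ mem_cent_iff.1 (cent_zpowers X.z ▸ X.φ_z y) _ (e a).2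
  have h4 := (MonoidHom.noncommCoprod_injective ι ψ h3).2 ⟨Subtype.val_injective.comp e.injective,
    (injective_iff_map_eq_one _).2 fun y hy => by
      induction y using QuotientGroup.induction_on with | H y =>
      exact CfsgH8.πS_eq_one.2 (CfsgH8.isSc_SL2.2 (X.φ_ker hy)), by
    rw [h1, h2, disjoint_iff, eq_bot_iff]
    rintro _ ⟨h, y, rfl⟩
    exact (mem_zpowers_two X.z_mul_z h).resolve_right fun e => X.z_notMem ⟨y, e⟩⟩
  exact ⟨(MulEquiv.subgroupCongr (by rw [MonoidHom.noncommCoprod_range, h1, h2, cent_z])).trans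
    (MonoidHom.ofInjective h4).symm⟩

theorem card_cent_z : Nat.card C1[X.z] = q * (q ^ 2 - 1) := by
  obtain ⟨e⟩ := X.cent_z_iso
  rw [Nat.card_congr e.toEquiv, Nat.card_prod, ← X.hK, ← CfsgH8.card_PSL2, CfsgH8.gcd_two_odd X.odd_K]
  simp

theorem exists_conj_z {x : R} (h : x ^ 2 = 1) (h1 : x ≠ 1) : ∃ g, g * x * g⁻¹ = X.z :=
  isConj_iff.1 (X.inv (orderOf_eq_prime h h1) X.order_z)

include X in
theorem sq_of_four {x : R} (h : (x ^ 2) ^ 2 = 1) : x ^ 2 = 1 := by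
  by_contra h1
  obtain ⟨g, e⟩ := X.exists_conj_z h h1
  rw [← conj_pow] at e
  obtain ⟨y, h2 | h2⟩ := X.mem_cent_z.1 (show g * x * g⁻¹ ∈ C1[X.z] from mem_centralizer_singleton_iff.2 (by
    rw [← e]; exact ((Commute.refl _).pow_right 2).eq)) <;> rw [h2] at e <;> refine X.z_notMem ⟨y ^ 2, ?_⟩
  · rw [map_pow, e]
  · rw [Commute.mul_pow (mem_centralizer_singleton_iff.1 (X.φ_z y)).symm, sq, z_mul_z, one_mul] at e
    rw [map_pow, e]

include X in
theorem sq_of_pow {x : R} {k : ℕ} (h : x ^ 2 ^ k = 1) : x ^ 2 = 1 := by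
  induction k generalizing x with
  | zero => simp_all
  | succ k ih => exact X.sq_of_four (ih (by rwa [← pow_mul, ← pow_succ']))

include X in
theorem card_syl {S : Subgroup R} (h : Syl 2 S ⊤) : Nat.card S = 8 := by
  haveI := X.finite
  obtain ⟨k, hk⟩ := q_eq m
  have h1 : Nat.card R = 2 ^ 3 * ((8 * k + 3) ^ 3 * (4 * k + 1) * ((2 * k + 1) * (2 * (32 * k ^ 2 + 20 * k + 3) + 1))) := by
    rw [X.card, hk, show 8 * k + 3 - 1 = 8 * k + 2 from rfl]; ring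
  rw [h.card_eq, card_top, h1, Nat.factorization_mul (by positivity) (by positivity), Finsupp.add_apply,
    Nat.factorization_eq_zero_of_not_dvd (n := _ * _) (by
      simp only [Nat.Prime.dvd_mul Nat.prime_two, Nat.prime_two.prime.dvd_pow_iff_dvd three_ne_zero]; clear hk h1; omega),
    Nat.prime_two.factorization_pow]
  simp

end CfsgH6.Ree
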