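import Cfsg.Agent.H6.Ree3
import Cfsg.Agent.H2.PG1

/-! Tori of the small Ree groups, abstractly. -/

set_option autoImplicit false

namespace CfsgH6

open CfsgH1 CfsgH2 Subgroup

/-- the elements of odd order of an abelian subgroup -/
def oddPart {G : Type*} [Group G] {T : Subgroup G} (h : IsMulCommutative T) : Subgroup G where
  carrier := {y | y ∈ T ∧ Odd (orderOf y)}
  one_mem' := ⟨one_mem _, by simp⟩
  mul_mem' ha hb := ⟨mul_mem ha.1 hb.1, (ha.2.mul hb.2).of_dvd_nat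
    (Commute.orderOf_mul_dvd_mul_orderOf (comm_of_isMulComm h ha.1 hb.1))⟩
  inv_mem' ha := ⟨inv_mem ha.1, by simpa using ha.2⟩

theorem card_oddPart {G : Type*} [Group G] [Finite G] {T : Subgroup G} (h : IsMulCommutative T) :
    Odd (Nat.card (oddPart h)) ∧ ∃ j, Nat.card T = Nat.card (oddPart h) * 2 ^ j := by
  refine ⟨Nat.not_even_iff_odd.1 fun e => ?_, ?_⟩
  · obtain ⟨x, hx, e⟩ := exists_prime_order_mem Nat.prime_two e.two_dvd
    exact absurd (e ▸ hx.2) (by decide)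
  · haveI : ((oddPart h).subgroupOf T).Normal := ⟨fun a ha b => by rwa [mul_comm' b, mul_inv_cancel_right]⟩
    have : IsPGroup 2 (T ⧸ (oddPart h).subgroupOf T) := fun y => by
      induction y using QuotientGroup.induction_on with | H y =>
      obtain ⟨j, n, hn, e⟩ := Nat.exists_eq_two_pow_mul_odd (orderOf_pos y.1).ne'
      refine ⟨j, (QuotientGroup.eq_one_iff (y ^ 2 ^ j)).2 ⟨(y ^ 2 ^ j).2, hn.of_dvd_nat (orderOf_dvd_of_pow_eq_one ?_)⟩⟩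
      rw [Subgroup.coe_subtype, Subgroup.coe_pow, ← pow_mul, ← e, pow_orderOf_eq_one]
    obtain ⟨j, hj⟩ := IsPGroup.iff_card.1 this
    exact ⟨j, by rw [← CfsgH2.card_mul_relIndex (show oddPart h ≤ T from fun _ a => a.1), ← hj]; rfl⟩

theorem eq_of_odd_pow {a b i j : ℕ} (ha : Odd a) (hb : Odd b) (h : a * 2 ^ i = b * 2 ^ j) : a = b :=
  Nat.dvd_antisymm ((ha.coprime_two_right.pow_right j).dvd_of_dvd_mul_right ⟨_, h.symm⟩)
    ((hb.coprime_two_right.pow_right i).dvd_of_dvd_mul_right ⟨_, h⟩)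

namespace Ree


/-- orders of the tori -/
def NN (m : ℕ) : Fin 4 → ℕ :=
  ![3 ^ (2 * m + 1) - 1, 3 ^ (2 * m + 1) + 1, 3 ^ (2 * m + 1) - 3 ^ (m + 1) + 1, 3 ^ (2 * m + 1) + 3 ^ (m + 1) + 1]

/-- orders of their odd parts -/
def kk (m : ℕ) : Fin 4 → ℕ := ![(3 ^ (2 * m + 1) - 1) / 2, (3 ^ (2 * m + 1) + 1) / 4,
  3 ^ (2 * m + 1) - 3 ^ (m + 1) + 1, 3 ^ (2 * m + 1) + 3 ^ (m + 1) + 1]

/-- the automizers -/
def cc : Fin 4 → ℕ := ![2, 6, 6, 6]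

theorem qr (m : ℕ) : ∃ s k a, 3 ^ (2 * m + 1) = 3 * s ^ 2 ∧ 3 ^ (m + 1) = 3 * s ∧ 3 * s ^ 2 = 8 * k + 3 ∧ s = 2 * a + 1 ∧ s ≤ s ^ 2 ∧
    (1 ≤ m → 3 ≤ s ∧ 3 * s ≤ s ^ 2) := by
  obtain ⟨k, hk⟩ := q_eq m
  obtain ⟨a, ha⟩ : Odd (3 ^ m) := Odd.pow (by decide)
  have : 3 ^ (2 * m + 1) = 3 * (3 ^ m) ^ 2 := by ring
  have h : 1 ≤ m → 3 ≤ 3 ^ m := fun h => Nat.le_self_pow (by omega) 3
  exact ⟨3 ^ m, k, a, this, pow_succ' .., this ▸ hk, ha, Nat.le_self_pow two_ne_zero _,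
    fun hm => ⟨h hm, by nlinarith [h hm]⟩⟩

theorem NN_kk (m : ℕ) (i : Fin 4) : Odd (kk m i) ∧ NN m i = kk m i * 2 ^ ![1, 2, 0, 0] i ∧ ¬ 3 ∣ NN m i ∧
    (1 ≤ m → 1 < kk m i) := by
  obtain ⟨s, k, a, h1, h2, h3, h4, h5, h6⟩ := qr m
  simp only [NN, kk, h1, h2, Nat.odd_iff]
  clear h1 h2
  generalize s ^ 2 = t at *
  fin_cases i <;> simp <;> omega

theorem NN_prod (m : ℕ) : (3 ^ (2 * m + 1)) ^ 3 * (3 ^ (2 * m + 1) - 1) * ((3 ^ (2 * m + 1)) ^ 3 + 1) =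
    (3 ^ (2 * m + 1)) ^ 3 * (NN m 0 * NN m 1 * NN m 2 * NN m 3) := by
  obtain ⟨s, k, a, h1, h2, h3, h4, h5, h6⟩ := qr m
  simp only [NN, h1, h2, Matrix.cons_val]
  rw [mul_assoc, mul_assoc (_ - 1), mul_assoc (_ - 1)]
  congr 2
  zify [show 3 * s ≤ 3 * s ^ 2 by omega]
  ring

theorem NN_cop {m p : ℕ} (hp : p.Prime) (h2 : p ≠ 2) {i j : Fin 4} (hi : p ∣ NN m i) (hj : p ∣ NN m j) : i = j := by
  have h3 : p ≠ 3 := fun e => (NN_kk m i).2.2.1 (e ▸ hi)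
  have h6 : ∀ a b : ℕ, ¬ (p : ℤ) ∣ 2 ^ a * 3 ^ b := fun a b h => by
    rcases (Nat.Prime.dvd_mul hp).1 (show p ∣ 2 ^ a * 3 ^ b by exact_mod_cast h) with h | h
    exacts [h2 ((Nat.prime_dvd_prime_iff_eq hp Nat.prime_two).1 (hp.dvd_of_dvd_pow h)),
      h3 ((Nat.prime_dvd_prime_iff_eq hp Nat.prime_three).1 (hp.dvd_of_dvd_pow h))]
  obtain ⟨s, k, a, h1, h2, h3, h4, h5, -⟩ := qr m
  have e : ∀ i, ((NN m i : ℕ) : ℤ) = ![3 * (s : ℤ) ^ 2 - 1, 3 * (s : ℤ) ^ 2 + 1, 3 * (s : ℤ) ^ 2 - 3 * s + 1,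
      3 * (s : ℤ) ^ 2 + 3 * s + 1] i :=
    fun i => by
    simp only [NN, h1, h2]
    fin_cases i <;> simp [Nat.cast_sub (show 3 * s ≤ 3 * s ^ 2 by omega), Nat.cast_sub (show 1 ≤ 3 * s ^ 2 by omega)]
  rw [← Int.natCast_dvd_natCast, e] at hi hj
  have key : ∀ {x y : ℤ} (u v : ℤ) (a b : ℕ), (p : ℤ) ∣ x → (p : ℤ) ∣ y → u * x + v * y = 2 ^ a * 3 ^ b → False :=
    fun u v a b hx hy e => h6 a b (e ▸ (hx.mul_left u).add (hy.mul_left v))
  have k01 := fun hx hy => key (x := 3 * s ^ 2 - 1) (y := 3 * s ^ 2 + 1) (-1) 1 1 0 hx hy (by ring)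
  have k02 := fun hx hy => key (x := 3 * s ^ 2 - 1) (y := 3 * s ^ 2 - 3 * s + 1) (-3 * s ^ 2) (3 * s ^ 2 + 3 * s + 1) 0 0 hx hy
    (by ring)
  have k03 := fun hx hy => key (x := 3 * s ^ 2 - 1) (y := 3 * s ^ 2 + 3 * s + 1) (-3 * s ^ 2) (3 * s ^ 2 - 3 * s + 1) 0 0 hx hy
    (by ring)
  have k12 := fun hx hy => key (x := 3 * s ^ 2 + 1) (y := 3 * s ^ 2 - 3 * s + 1) (2 - 3 * s ^ 2) (3 * s ^ 2 + 3 * s + 1) 0 1 hx hy
    (by ring)
  have k13 := fun hx hy => key (x := 3 * s ^ 2 + 1) (y := 3 * s ^ 2 + 3 * s + 1) (2 - 3 * s ^ 2) (3 * s ^ 2 - 3 * s + 1) 0 1 hx hy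
    (by ring)
  have k23 := fun hx hy => key (x := 3 * s ^ 2 - 3 * s + 1) (y := 3 * s ^ 2 + 3 * s + 1) (1 + s) (1 - s) 1 0 hx hy (by ring)
  fin_cases i <;> fin_cases j <;> first | rfl | exact absurd hi (by tauto)

variable {R : Type*} [Group R] {K : Type*} [Field K] [Fintype K] {m : ℕ}

/-- a torus with its odd part -/
structure Tor (m : ℕ) (i : Fin 4) (T A : Subgroup R) : Prop where
  card : Nat.card T = NN m i
  comm : IsMulCommutative T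
  odd : ∀ {y}, y ∈ A ↔ y ∈ T ∧ Odd (orderOf y)
  cyc : IsCyclic A
  cardA : Nat.card A = kk m i
  cent : ∀ y ∈ T, y ^ 2 ≠ 1 → C1[y] = T
  ex : ∃ y ∈ T, y ^ 2 ≠ 1
  cardN : Nat.card N[T] = cc i * NN m i
  cycT : i ≠ 1 → IsCyclic T

variable (X : Ree R K m)
include X

theorem tor' {x : R} (h3 : ¬ 3 ∣ orderOf x) (h2 : x ^ 2 ≠ 1) : ∃ i, Nat.card C1[x] = NN m i ∧
    {y : C1[x] | IsConj x y}.ncard = cc i ∧ IsMulCommutative C1[x] ∧
    ∃ χ : C1[x] →* (AlgebraicClosure K)ˣ, ∀ y, χ y = 1 → y ^ 2 = 1 ∧ (i ≠ 1 → y = 1) := by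
  obtain ⟨N, c, h, h1, h4, h5, χ, h6⟩ := X.tor h3 h2
  have : ∃ i, N = NN m i ∧ c = cc i := by
    obtain ⟨s, k, a, h1, h2, h3, h4, h5, -⟩ := qr m
    rcases h with h | h | h | h
    exacts [⟨0, by simp [NN, ← h.1], h.2⟩, ⟨1, h⟩, ⟨2, by simp only [NN, Matrix.cons_val]; omega, h.2⟩, ⟨3, h⟩]
  obtain ⟨i, rfl, rfl⟩ := this
  refine ⟨i, h1, h4, h5, χ, fun y e => ⟨(h6 y e).1, fun hi => (h6 y e).2 fun e => ?_⟩⟩
  have := (NN_kk m i).2.1.symm.trans (e.trans (NN_kk m 1).2.1)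
  have h7 := eq_of_odd_pow (NN_kk m i).1 (NN_kk m 1).1 this
  rw [h7, mul_right_inj' (NN_kk m 1).1.pos.ne'] at this
  revert this hi; fin_cases i <;> simp

theorem exists_tor {x : R} (h3 : ¬ 3 ∣ orderOf x) (h2 : x ^ 2 ≠ 1) : ∃ i A, Tor m i C1[x] A := by
  haveI := X.finite
  obtain ⟨i, h1, h4, h5, χ, h6⟩ := X.tor' h3 h2
  have hc : ∀ y ∈ C1[x], y ^ 2 ≠ 1 → C1[y] = C1[x] := fun y hy h => by
    obtain ⟨j, -, -, h7, -⟩ := X.tor' (x := y) (fun e => (NN_kk m i).2.2.1 (h1 ▸ e.trans (orderOf_dvd_of_mem hy))) h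
    exact le_antisymm (le_cent1_iff.2 (le_centralizer_iff_isMulCommutative.2 h7 (mem_centralizer_singleton_iff.2
      (mem_centralizer_singleton_iff.1 hy).symm))) (le_cent1_iff.2 (le_centralizer_iff_isMulCommutative.2 h5 hy))
  obtain ⟨h7, j, h8⟩ := card_oddPart h5
  refine ⟨i, oddPart h5, h1, h5, Iff.rfl, isCyclic_of_injective_ringHom ((Units.coeHom _).comp (χ.comp
    (inclusion fun _ a => a.1))) ((injective_iff_map_eq_one _).2 fun y hy => ?_),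
    eq_of_odd_pow h7 (NN_kk m i).1 (h8.symm.trans (h1.trans (NN_kk m i).2.1)), hc, ⟨x, self_mem_cent1 x, h2⟩, ?_,
    fun hi => isCyclic_of_injective_ringHom ((Units.coeHom _).comp χ) ((injective_iff_map_eq_one _).2 fun y hy =>
      (h6 y (Units.ext hy)).2 hi)⟩
  · exact Subtype.ext (orderOf_eq_one_iff.1 (Nat.eq_one_of_dvd_coprimes y.2.2.coprime_two_right dvd_rfl
      (orderOf_dvd_of_pow_eq_one (congrArg Subtype.val (h6 _ (Units.ext hy)).1))))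
  · set N := N[C1[x]]
    have haN : x ∈ N := le_normalizer (self_mem_cent1 x)
    rw [← CfsgH8.ncard_conj_mul_card_centralizer (⟨x, haN⟩ : N), ← h1, ← h4]
    congr 1
    · rw [← Set.ncard_image_of_injective _ (Subtype.val_injective (p := (· ∈ N))),
        ← Set.ncard_image_of_injective _ (Subtype.val_injective (p := (· ∈ C1[x])))]
      congr 1
      ext b
      constructor
      · rintro ⟨b, hb, rfl⟩
        obtain ⟨y, rfl⟩ := isConj_iff.1 hb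
        exact ⟨⟨_, conj_mem_of_norm y.2 (self_mem_cent1 x)⟩, isConj_iff.2 ⟨y, rfl⟩, rfl⟩
      · rintro ⟨⟨b, hb⟩, hc', rfl⟩
        obtain ⟨y, rfl⟩ := isConj_iff.1 hc'
        refine ⟨⟨_, le_normalizer hb⟩, isConj_iff.2 ⟨⟨y, map_cj_eq_iff.1 ?_⟩, rfl⟩, rfl⟩
        rw [← centralizer_conj, hc _ hb (by rw [conj_pow]; exact CfsgH8.conj_ne_one y h2)]
    · rw [← card_subgroupOf (le_normalizer (H := C1[x]))]
      congr 2
      ext y
      rw [mem_subgroupOf, mem_centralizer_singleton_iff, mem_centralizer_singleton_iff, Subtype.ext_iff]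
      rfl

omit X

theorem sq_ne_one {G : Type*} [Group G] {x : G} (h : Odd (orderOf x)) (h1 : x ≠ 1) : x ^ 2 ≠ 1 := fun e =>
  h1 (orderOf_eq_one_iff.1 (Nat.eq_one_of_dvd_coprimes h.coprime_two_right dvd_rfl (orderOf_dvd_of_pow_eq_one e)))

theorem orderOf_cj {G : Type*} [Group G] (g x : G) : orderOf (g * x * g⁻¹) = orderOf x :=
  orderOf_injective (cj g) (cj_injective g) x

namespace Tor

variable {i : Fin 4} {T A T' A' : Subgroup R} (h : Tor m i T A)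
include h

theorem le : A ≤ T := fun _ a => (h.odd.1 a).1

theorem mem_norm {x g : R} (hx : x ∈ T) (h2 : x ^ 2 ≠ 1) (hg : g * x * g⁻¹ ∈ T) : g ∈ N[T] := by
  rw [← map_cj_eq_iff, ← h.cent x hx h2, ← centralizer_conj, h.cent x hx h2,
    h.cent _ hg (by rw [conj_pow]; exact CfsgH8.conj_ne_one g h2)]

theorem map (g : R) : Tor m i (T.map (cj g)) (A.map (cj g)) where
  card := (card_map_cj ..).trans h.card
  comm := haveI := h.comm; inferInstance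
  odd := by simp only [mem_map_cj, h.odd]; exact fun {y} => by rw [← orderOf_cj g⁻¹ y, inv_inv]
  cyc := haveI := h.cyc; isCyclic_of_surjective _ (A.equivMapOfInjective _ (cj_injective g)).surjective
  cardA := (card_map_cj ..).trans h.cardA
  cent := by
    rintro _ ⟨y, hy, rfl⟩ e
    rw [cj_apply, centralizer_conj, h.cent y hy fun e' => e (by rw [← map_pow, e', map_one])]
  ex := by
    obtain ⟨y, hy, e⟩ := h.ex
    exact ⟨_, ⟨y, hy, rfl⟩, by rwa [← map_pow, map_ne_one_iff _ (cj_injective g)]⟩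
  cardN := by rw [normalizer_map_cj, card_map_cj, h.cardN]
  cycT hi := haveI := h.cycT hi; isCyclic_of_surjective _ (T.equivMapOfInjective _ (cj_injective g)).surjective

theorem cent_sub {B : Subgroup R} (hB : B ≤ A) (h0 : B ≠ ⊥) : C[B] = T := by
  obtain ⟨⟨x, hx⟩, h1⟩ := (Subgroup.ne_bot_iff_exists_ne_one).1 h0
  exact le_antisymm ((cent_le_cent1 hx).trans (h.cent x (h.le (hB hx)) (sq_ne_one (h.odd.1 (hB hx)).2
    fun e => h1 (Subtype.ext e))).le) (le_cent_of_comm h.comm (hB.trans h.le))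

variable [Finite R]

theorem norm_sub {B : Subgroup R} (hB : B ≤ A) (h0 : B ≠ ⊥) : N[B] = N[T] := by
  refine le_antisymm (h.cent_sub hB h0 ▸ norm_le_norm_cent B) fun g hg => map_cj_eq_iff.1
    (eq_of_card_eq_of_cyclic h.cyc (map_cj_le_iff'.2 fun x hx => ?_) hB (card_map_cj ..))
  exact h.odd.2 ⟨conj_mem_of_norm hg (h.le (hB hx)), by rw [orderOf_cj]; exact (h.odd.1 (hB hx)).2⟩

theorem pg_le {p : ℕ} [Fact p.Prime] (h2 : p ≠ 2) {P : Subgroup R} (hP : IsPGroup p P) {a : R} (ha : a ∈ P) (hT : a ∈ T)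
    (h1 : a ≠ 1) : P ≤ A := by
  have ho : ∀ x ∈ P, Odd (orderOf x) := fun x hx => by
    obtain ⟨k, hk⟩ := pgroup_mem_order hP hx
    exact hk ▸ ((Fact.out : p.Prime).odd_of_ne_two h2).pow
  haveI : Nontrivial P := ⟨⟨⟨a, ha⟩, 1, fun h2 => h1 (congrArg Subtype.val h2)⟩⟩
  haveI := hP.center_nontrivial
  obtain ⟨⟨z, hz⟩, hz1⟩ := exists_ne (1 : center P)
  have h3 : ∀ x ∈ P, x * z = z * x := fun x hx => congrArg Subtype.val (Subgroup.mem_center_iff.1 hz ⟨x, hx⟩)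
  have h4 : z.1 ∈ T := h.cent a hT (sq_ne_one (ho a ha) h1) ▸ mem_centralizer_singleton_iff.2 (h3 a ha).symm
  exact fun x hx => h.odd.2 ⟨h.cent z h4 (sq_ne_one (ho _ z.2) fun e => hz1 (Subtype.ext (Subtype.ext e))) ▸
    mem_centralizer_singleton_iff.2 (h3 x hx), ho x hx⟩

theorem conj (hm : 1 ≤ m) (h' : Tor m i T' A') : ∃ g, T' = T.map (cj g) ∧ A' = A.map (cj g) := by
  obtain ⟨p, hp, hd⟩ := Nat.exists_prime_and_dvd ((NN_kk m i).2.2.2 hm).ne'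
  haveI := Fact.mk hp
  have h2 : p ≠ 2 := by rintro rfl; exact (NN_kk m i).1.not_two_dvd_nat hd
  have key : ∀ {T A : Subgroup R}, Tor m i T A → ∃ P, Syl p P ⊤ ∧ P ≤ A ∧ P ≠ ⊥ := fun h => by
    obtain ⟨a, ha, e⟩ := exists_prime_order_mem hp (h.cardA ▸ hd)
    have h1 : a ≠ 1 := by rintro rfl; exact hp.one_lt.ne (by simpa using e)
    obtain ⟨P, hP, h3⟩ := exists_syl_ge (isPGroup_zpowers (p := p) (x := a) (k := 1) (by rw [pow_one, ← e, pow_orderOf_eq_one])) le_top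
    exact ⟨P, hP, h.pg_le h2 hP.pg (h3 (mem_zpowers a)) (h.le ha) h1, fun e => h1 (mem_bot.1 (e ▸ h3 (mem_zpowers a)))⟩
  obtain ⟨P, a1, a2, a3⟩ := key h
  obtain ⟨Q, b1, b2, b3⟩ := key h'
  obtain ⟨g, -, rfl⟩ := a1.conj b1
  have : T' = T.map (cj g) := by rw [← h'.cent_sub b2 b3, centralizer_map_cj, h.cent_sub a2 a3]
  exact ⟨g, this, Subgroup.ext fun y => by rw [h'.odd, (h.map g).odd, this]⟩

omit [Finite R] in
theorem index_mul : N[T].index * (cc i * NN m i) = Nat.card R := by rw [← h.cardN, index_mul_card]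

end Tor

include X

theorem exists_tor' {x : R} {i : Fin 4} {p : ℕ} (hp : p.Prime) (h2 : p ≠ 2) (hx : p ∣ orderOf x) (hi : p ∣ NN m i)
    (h3 : ¬ 3 ∣ orderOf x) : ∃ A, Tor m i C1[x] A := by
  obtain ⟨j, A, h⟩ := X.exists_tor h3 fun e => h2 ((Nat.prime_dvd_prime_iff_eq hp Nat.prime_two).1
    (hx.trans (orderOf_dvd_of_pow_eq_one e)))
  obtain rfl := NN_cop hp h2 hi (h.card ▸ hx.trans (orderOf_dvd_of_mem (self_mem_cent1 x)))
  exact ⟨A, h⟩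

omit X in
theorem kk_dvd (i : Fin 4) : kk m i ∣ NN m i := ⟨_, (NN_kk m i).2.1⟩

theorem exists_tor_of_dvd {x : R} {i : Fin 4} (h1 : x ≠ 1) (hx : orderOf x ∣ kk m i) : ∃ A, Tor m i C1[x] A ∧ x ∈ A := by
  obtain ⟨p, hp, hd⟩ := Nat.exists_prime_and_dvd (mt orderOf_eq_one_iff.1 h1)
  obtain ⟨A, h⟩ := X.exists_tor' hp (by rintro rfl; exact (NN_kk m i).1.not_two_dvd_nat (hd.trans hx)) hd
    (hd.trans (hx.trans (kk_dvd i))) fun e => (NN_kk m i).2.2.1 (e.trans (hx.trans (kk_dvd i)))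
  exact ⟨A, h, h.odd.2 ⟨self_mem_cent1 x, (NN_kk m i).1.of_dvd_nat hx⟩⟩

theorem NN_dvd (i : Fin 4) : NN m i ∣ Nat.card R := by
  rw [X.card, NN_prod]
  refine Dvd.dvd.mul_left ?_ _
  fin_cases i
  exacts [⟨NN m 1 * NN m 2 * NN m 3, by simp; ring⟩, ⟨NN m 0 * NN m 2 * NN m 3, by simp; ring⟩,
    ⟨NN m 1 * NN m 0 * NN m 3, by simp; ring⟩, ⟨NN m 1 * NN m 2 * NN m 0, by simp; ring⟩]

theorem exists_tor_type (hm : 1 ≤ m) (i : Fin 4) : ∃ T A : Subgroup R, Tor m i T A := by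
  haveI := X.finite
  obtain ⟨p, hp, hd⟩ := Nat.exists_prime_and_dvd ((NN_kk m i).2.2.2 hm).ne'
  haveI := Fact.mk hp
  obtain ⟨x, hx⟩ := exists_prime_orderOf_dvd_card' p (hd.trans ((kk_dvd i).trans (X.NN_dvd i)))
  obtain ⟨A, h, -⟩ := X.exists_tor_of_dvd (x := x) (by rintro rfl; exact hp.one_lt.ne (by simpa using hx)) (hx ▸ hd)
  exact ⟨_, A, h⟩

/-- cyclic subgroups inside tori -/
theorem exists_tor_sub {B : Subgroup R} (hB : IsCyclic B) (h0 : B ≠ ⊥) {i : Fin 4} (hd : Nat.card B ∣ kk m i) :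
    ∃ T A, Tor m i T A ∧ B ≤ A := by
  obtain ⟨x, rfl⟩ := (Subgroup.isCyclic_iff_exists_zpowers_eq_top B).1 hB
  obtain ⟨A, h, hx⟩ := X.exists_tor_of_dvd (x := x) (by simpa using h0) (Nat.card_zpowers x ▸ hd)
  exact ⟨_, A, h, zpowers_le.2 hx⟩

theorem exists_tor_pg {p : ℕ} [hp : Fact p.Prime] (h2 : p ≠ 2) (h3 : p ≠ 3) {P : Subgroup R} (hP : IsPGroup p P)
    (h0 : P ≠ ⊥) : ∃ i T A, Tor m i T A ∧ P ≤ A := by
  haveI := X.finite
  obtain ⟨x, hx, e⟩ := exists_prime_order_mem hp.out (dvd_card_of_pgroup hP h0)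
  have h1 : x ≠ 1 := by rintro rfl; exact hp.out.one_lt.ne (by simpa using e)
  obtain ⟨i, A, h⟩ := X.exists_tor (x := x) (fun h => h3 ((Nat.prime_dvd_prime_iff_eq Nat.prime_three hp.out).1
    (e ▸ h)).symm) (sq_ne_one (e ▸ hp.out.odd_of_ne_two h2) h1)
  exact ⟨i, _, A, h, h.pg_le h2 hP hx (self_mem_cent1 x) h1⟩

theorem count_tor (hm : 1 ≤ m) {i : Fin 4} {T A : Subgroup R} (h : Tor m i T A) {d p : ℕ} (hp : p.Prime) (h2 : p ≠ 2)
    (hd : p ∣ d) (hi : p ∣ NN m i) (h3 : ¬ 3 ∣ d) :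
    Nat.card {g : R // orderOf g = d} = N[T].index * Nat.card {g : T // orderOf g = d} := by
  haveI := X.finite
  haveI := Fintype.ofFinite R
  have h4 : ∀ {x : R}, orderOf x = d → x ^ 2 ≠ 1 := fun e e' => h2 ((Nat.prime_dvd_prime_iff_eq hp Nat.prime_two).1
    (hd.trans (e ▸ orderOf_dvd_of_pow_eq_one e')))
  have := CfsgH3.card_conj_tiset (N := N[T]) (S := {g | g ∈ T ∧ orderOf g = d}) (fun x hx => le_normalizer hx.1)
    (fun n hn s hs => ⟨conj_mem_of_norm hn hs.1, (orderOf_cj ..).trans hs.2⟩)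
    fun g hg s hs h' => hg (h.mem_norm hs.1 (h4 hs.2) h'.1)
  refine (Nat.card_congr (Equiv.subtypeEquivRight fun g => ⟨fun e => ?_, fun ⟨x, hx⟩ => ?_⟩)).trans (this.trans
    (congrArg _ (Nat.card_congr ((Equiv.subtypeEquivRight fun g => by simp).trans
      (Equiv.subtypeSubtypeEquivSubtypeInter (· ∈ T) (orderOf · = d))).symm)))
  · obtain ⟨A', h'⟩ := X.exists_tor' hp h2 (e ▸ hd) hi (e ▸ h3)
    obtain ⟨x, rfl, -⟩ := h'.conj hm h
    exact ⟨x, conj_mem_map_cj (self_mem_cent1 g), (orderOf_cj ..).trans e⟩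
  · exact (orderOf_cj x g).symm.trans hx.2

end Ree

end CfsgH6
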