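import Cfsg.Agent.H6.Ree4

/-! Element counts in the small Ree groups. -/

set_option autoImplicit false

namespace CfsgH6

open CfsgH1 CfsgH2 Subgroup Cfsg

theorem card_order_cyc {G : Type*} [Group G] [Finite G] (h : IsCyclic G) {d : ℕ} (hd : d ∣ Nat.card G) :
    Nat.card {g : G // orderOf g = d} = d.totient := by
  classical
  haveI := Fintype.ofFinite G
  rw [← IsCyclic.card_orderOf_eq_totient (α := G) (Nat.card_eq_fintype_card (α := G) ▸ hd), Nat.card_eq_fintype_card,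
    Fintype.card_subtype]

theorem card_of_bij {α β : Type*} {p : β → Prop} (f : α → β) (hf : Function.Injective f) (h : ∀ b, p b ↔ ∃ a, f a = b) :
    Nat.card {b // p b} = Nat.card α :=
  (Nat.card_congr (Equiv.subtypeEquivRight h)).trans (Nat.card_range_of_injective hf)

theorem card_sub_sub {G : Type*} [Group G] (H : Subgroup G) (p : ℕ → Prop) :
    Nat.card {g : H // p (orderOf g)} = Nat.card {g // g ∈ H ∧ p (orderOf g)} :=
  Nat.card_congr ((Equiv.subtypeEquivRight fun g => by simp).trans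
    (Equiv.subtypeSubtypeEquivSubtypeInter (· ∈ H) fun g => p (orderOf g)))

theorem card_inf_sub {G : Type*} [Group G] {A R : Subgroup G} {S : Subgroup R} (h : ∀ g : R, g.1 ∈ A ↔ g ∈ S)
    (p : ℕ → Prop) : Nat.card {u : ↥(A ⊓ R) // p (orderOf u)} = Nat.card {g // g ∈ S ∧ p (orderOf g)} :=
  card_of_bij (fun a : {g // g ∈ S ∧ p (orderOf g)} => (⟨a.1.1, mem_inf.2 ⟨(h _).2 a.2.1, a.1.2⟩⟩ : ↥(A ⊓ R)))
    (fun _ _ e => Subtype.ext (Subtype.ext (Subtype.mk.inj e))) fun g => ⟨fun e =>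
      ⟨⟨⟨g.1, (mem_inf.1 g.2).2⟩, (h _).1 (mem_inf.1 g.2).1, by simpa using e⟩, rfl⟩,
      fun ⟨a, e⟩ => by simpa [← e] using a.2.2⟩

theorem card_ne {α : Type*} [Finite α] (a : α) : Nat.card {x // x ≠ a} = Nat.card α - 1 := by
  classical
  haveI := Fintype.ofFinite α
  simp

namespace Ree

variable {R : Type*} [Group R] {K : Type*} [Field K] [Fintype K] {m : ℕ} (X : Ree R K m)

local notation "q" => 3 ^ (2 * m + 1)
local notation "r" => 3 ^ (m + 1)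

theorem comm_B {u y : R} (hu : u ∈ X.U) {a : Kˣ} (hy : y ∈ X.U) (h1 : y ≠ 1) (h : u * X.h a * y = y * (u * X.h a)) :
    a = 1 ∨ a = -1 := by
  obtain ⟨t, u, v, rfl⟩ := hu
  obtain ⟨t', u', v', rfl⟩ := hy
  replace h : X.w t u v * (X.h a * X.w t' u' v' * (X.h a)⁻¹) = X.w t' u' v' * X.w t u v := by
    rw [← mul_assoc, ← mul_assoc, h]; group
  rw [X.h_w, X.w_mul, X.w_mul] at h
  obtain ⟨e1, e2, e3⟩ := X.w_inj h
  have h2 := pow_ne_zero r a.ne_zero
  by_cases ht : t' = 0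
  · subst ht
    simp only [mul_zero, zero_r, sub_zero, zero_mul, add_zero, zero_pow two_ne_zero] at e2 e3
    by_cases hu : u' = 0
    · subst hu
      exact Or.inl (Units.ext (mul_right_cancel₀ (fun e => h1 (X.w_eq_one.2 ⟨rfl, rfl, e⟩))
        (by rw [Units.val_one]; linear_combination e3)))
    · have := X.sq_of_r a.ne_zero (a := a) (div_eq_one_iff_eq a.ne_zero |>.1 (mul_right_cancel₀ hu (by linear_combination e2)))
      exact (sq_eq_one_iff.1 this).imp Units.ext Units.ext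
  · exact Or.inl (Units.ext (X.one_of_r a.ne_zero (div_eq_one_iff_eq h2 |>.1
      (mul_right_cancel₀ ht (by linear_combination e1))).symm))

theorem wz_sq (t u v : K) : (X.w t u v * X.z) ^ 2 = X.w 0 (t * t ^ r - u) (t * (u - t * t ^ r)) := by
  rw [sq, show X.w t u v * X.z * (X.w t u v * X.z) = X.w t u v * (X.z * X.w t u v * X.z⁻¹) * (X.z * X.z) by group,
    X.z_mul_z, mul_one, X.z_w, X.w_mul, neg_r]
  congr 1
  exacts [by ring, by linear_combination u * X.three, by linear_combination t * t * t ^ r * X.three]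

theorem wz_notMem (t u v : K) : X.w t u v * X.z ∉ X.U := fun h =>
  X.neg_ne (X.eq_one_of_h ((mul_mem_cancel_left (X.w_mem ..)).1 h))

theorem order_wz {t u : K} (h : u ≠ t * t ^ r) (v : K) : orderOf (X.w t u v * X.z) = 6 := by
  have h1 : X.w 0 (t * t ^ r - u) (t * (u - t * t ^ r)) ≠ 1 := fun e => h (sub_eq_zero.1 (X.w_eq_one.1 e).2.1).symm
  refine orderOf_eq_of_pow_and_pow_div_prime (by norm_num) (by
    rw [show 6 = 2 * 3 by rfl, pow_mul, wz_sq]; exact orderOf_dvd_iff_pow_eq_one.1 (X.order_w0 h1).dvd) fun p hp hd e => ?_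
  rcases (Nat.Prime.dvd_mul hp (m := 2) (n := 3)).1 hd with h2 | h2
  · obtain rfl := (Nat.prime_dvd_prime_iff_eq hp Nat.prime_two).1 h2
    exact X.wz_notMem t u v (X.mem_U (mul_mem (X.U_le_B (X.w_mem ..)) (X.h_mem _)) (k := 1) e)
  · obtain rfl := (Nat.prime_dvd_prime_iff_eq hp Nat.prime_three).1 h2
    exact h1 (X.wz_sq .. ▸ e)

theorem pow_div {x : R} (hx : x ∈ X.B) (h : 3 ∣ orderOf x) :
    x ^ (orderOf x / 3) ∈ X.U ∧ x ^ (orderOf x / 3) ≠ 1 := by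
  haveI := X.finite
  refine ⟨X.mem_U (pow_mem hx _) (k := 1) (by rw [pow_one, ← pow_mul, Nat.div_mul_cancel h, pow_orderOf_eq_one]),
    pow_ne_one_of_lt_orderOf ?_ ?_⟩ <;> have := orderOf_pos x <;> omega

theorem three_sing {x : R} (hx : x ∈ X.B) (h : 3 ∣ orderOf x) : (∃ u v, x = X.w 0 u v ∧ orderOf x = 3) ∨
    (∃ t u v, t ≠ 0 ∧ x = X.w t u v ∧ orderOf x = 9) ∨ ∃ t u v, u ≠ t * t ^ r ∧ x = X.w t u v * X.z ∧ orderOf x = 6 := by
  obtain ⟨h1, h2⟩ := X.pow_div hx h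
  obtain ⟨_, ⟨t, u, v, rfl⟩, a, e⟩ := X.mem_B.1 hx
  rcases X.comm_B (X.w_mem t u v) (a := a) h1 h2 (by rw [← e]; exact (Commute.self_pow _ _).eq) with rfl | rfl
  · rw [map_one, mul_one] at e
    by_cases ht : t = 0
    · subst ht e
      exact Or.inl ⟨u, v, rfl, X.order_w0 fun e => by simp [e] at h⟩
    · exact Or.inr (Or.inl ⟨t, u, v, ht, e, e ▸ X.order_w ht u v⟩)
  · have : u ≠ t * t ^ r := fun e' => by
      have := h.trans (orderOf_dvd_of_pow_eq_one (n := 2) (e ▸ (X.wz_sq ..).trans (X.w_eq_one.2 ⟨rfl, by simp [e']⟩)))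
      omega
    exact Or.inr (Or.inr ⟨t, u, v, this, e, e ▸ X.order_wz this v⟩)

theorem exists_conj_U {P : Subgroup R} (hP : IsPGroup 3 P) : ∃ g, P.map (cj g) ≤ X.U :=
  haveI := X.finite
  haveI := Fact.mk Nat.prime_three
  (X.syl_U.exists_conj_le hP le_top).imp fun _ h => h.2

theorem exists_conj_B {x : R} (h : 3 ∣ orderOf x) : ∃ g, g * x * g⁻¹ ∈ X.B := by
  haveI := X.finite
  obtain ⟨g, hg⟩ := X.exists_conj_U (isPGroup_zpowers (p := 3) (k := 1) (x := x ^ (orderOf x / 3))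
    (by rw [pow_one, ← pow_mul, Nat.div_mul_cancel h, pow_orderOf_eq_one]))
  have h1 := hg (conj_mem_map_cj (mem_zpowers _))
  refine ⟨g, X.TI h1 (CfsgH8.conj_ne_one g (pow_ne_one_of_lt_orderOf ?_ ?_)) ?_⟩
  · have := orderOf_pos x; omega
  · have := orderOf_pos x; omega
  · rw [← conj_pow, (Commute.self_pow _ _).eq, mul_inv_cancel_right, conj_pow]
    exact X.U_le_B h1

theorem count_B {d : ℕ} (h : 3 ∣ d) :
    Nat.card {g : R // orderOf g = d} = (q ^ 3 + 1) * Nat.card {g // g ∈ X.B ∧ orderOf g = d} := by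
  haveI := X.finite
  haveI := Fintype.ofFinite R
  have := CfsgH3.card_conj_tiset (N := X.B) (S := {g | g ∈ X.B ∧ orderOf g = d}) (fun x hx => hx.1)
    (fun n hn s hs => ⟨mul_mem (mul_mem hn hs.1) (inv_mem hn), (orderOf_cj ..).trans hs.2⟩)
    fun g hg s hs h' => hg (X.TI (X.pow_div hs.1 (hs.2 ▸ h)).1 (X.pow_div hs.1 (hs.2 ▸ h)).2
      (by rw [← conj_pow]; exact pow_mem h'.1 _))
  rw [X.index_B] at this
  refine (Nat.card_congr (Equiv.subtypeEquivRight fun g => ⟨fun e => ?_, fun ⟨x, hx⟩ => ?_⟩)).trans this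
  · obtain ⟨x, hx⟩ := X.exists_conj_B (e ▸ h : 3 ∣ orderOf g)
    exact ⟨x, hx, (orderOf_cj ..).trans e⟩
  · exact (orderOf_cj x g).symm.trans hx.2

include X in
theorem card_K : Nat.card K = q := Nat.card_eq_fintype_card.trans X.hK

theorem card_U3 : Nat.card {g // g ∈ X.U ∧ orderOf g = 3} = q ^ 2 - 1 := by
  rw [card_of_bij (fun p : {p : K × K // p ≠ 0} => X.w 0 p.1.1 p.1.2) (fun a b e => Subtype.ext (Prod.ext
    (X.w_inj e).2.1 (X.w_inj e).2.2)) fun g => ⟨?_, ?_⟩, card_ne, Nat.card_prod, X.card_K, sq]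
  · rintro ⟨⟨t, u, v, rfl⟩, h⟩
    by_cases ht : t = 0
    · subst ht
      exact ⟨⟨(u, v), fun e => by simp [X.w_eq_one.2 ⟨rfl, congrArg Prod.fst e, congrArg Prod.snd e⟩] at h⟩, rfl⟩
    · simp [X.order_w ht] at h
  · rintro ⟨⟨⟨u, v⟩, h⟩, rfl⟩
    exact ⟨X.w_mem .., X.order_w0 fun e => h (Prod.ext (X.w_eq_one.1 e).2.1 (X.w_eq_one.1 e).2.2)⟩

include X in
theorem count3 : Nat.card {g : R // orderOf g = 3} = (q ^ 2 - 1) * (q ^ 3 + 1) := by
  rw [X.count_B dvd_rfl, mul_comm, ← X.card_U3]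
  exact congrArg (· * _) (Nat.card_congr (Equiv.subtypeEquivRight fun g => and_congr_left fun h =>
    ⟨fun hg => X.mem_U hg (k := 1) (by rw [pow_one, ← h, pow_orderOf_eq_one]), fun hg => X.U_le_B hg⟩))

include X in
theorem count9 : Nat.card {g : R // orderOf g = 9} = q ^ 2 * (q - 1) * (q ^ 3 + 1) := by
  rw [X.count_B (by norm_num), mul_comm, card_of_bij (fun p : (K × K) × {t : K // t ≠ 0} => X.w p.2 p.1.1 p.1.2)
    (fun a b e => Prod.ext (Prod.ext (X.w_inj e).2.1 (X.w_inj e).2.2) (Subtype.ext (X.w_inj e).1))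
    fun g => ⟨?_, ?_⟩, Nat.card_prod, Nat.card_prod, card_ne, X.card_K, sq]
  · rintro ⟨hg, h⟩
    rcases X.three_sing hg (by rw [h]; norm_num) with ⟨_, _, _, e⟩ | ⟨t, u, v, ht, e, -⟩ | ⟨_, _, _, _, _, e⟩
    exacts [by omega, ⟨((u, v), ⟨t, ht⟩), e.symm⟩, by omega]
  · rintro ⟨⟨⟨u, v⟩, t, h⟩, rfl⟩
    exact ⟨X.U_le_B (X.w_mem ..), X.order_w h ..⟩

include X in
theorem count6 : Nat.card {g : R // orderOf g = 6} = q ^ 2 * (q - 1) * (q ^ 3 + 1) := by
  rw [X.count_B (by norm_num), mul_comm, card_of_bij (fun p : (K × K) × {t : K // t ≠ 0} =>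
    X.w p.1.1 (p.2 + p.1.1 * p.1.1 ^ r) p.1.2 * X.z) (fun a b e => ?_)
    fun g => ⟨?_, ?_⟩, Nat.card_prod, Nat.card_prod, card_ne, X.card_K, sq]
  · obtain ⟨e1, e2, e3⟩ := X.w_inj (mul_right_cancel e)
    exact Prod.ext (Prod.ext e1 e3) (Subtype.ext (by rwa [e1, add_left_inj] at e2))
  · rintro ⟨hg, h⟩
    rcases X.three_sing hg (by rw [h]; norm_num) with ⟨_, _, _, e⟩ | ⟨_, _, _, _, _, e⟩ | ⟨t, u, v, ht, e, -⟩
    exacts [by omega, by omega, ⟨((t, v), ⟨_, sub_ne_zero.2 ht⟩), by simp [e]⟩]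
  · rintro ⟨⟨⟨t, v⟩, u, h⟩, rfl⟩
    exact ⟨mul_mem (X.U_le_B (X.w_mem ..)) (X.h_mem _), X.order_wz (by simpa using h) _⟩

include X in
theorem count2 : Nat.card {g : R // orderOf g = 2} = q ^ 2 * (q ^ 2 - q + 1) := by
  haveI := X.finite
  have := CfsgH8.ncard_conj_mul_card_centralizer X.z
  rw [X.card_cent_z, X.card] at this
  have h : Nat.card {g : R // orderOf g = 2} = {b | IsConj X.z b}.ncard :=
    Nat.card_congr (Equiv.subtypeEquivRight fun g => ⟨X.inv X.order_z, fun h => by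
      obtain ⟨c, rfl⟩ := isConj_iff.1 h; rw [orderOf_cj, X.order_z]⟩)
  obtain ⟨k, hk⟩ := q_eq m
  rw [h]
  generalize {b | IsConj X.z b}.ncard = n at *
  rw [hk] at this ⊢
  have h1 : 8 * k + 3 ≤ (8 * k + 3) ^ 2 := Nat.le_self_pow two_ne_zero _
  refine Nat.eq_of_mul_eq_mul_right (show 0 < (8 * k + 3) * ((8 * k + 3) ^ 2 - 1) from Nat.mul_pos (by omega) (by omega))
    (this.trans ?_)
  zify [h1, show 1 ≤ 8 * k + 3 by omega, show 1 ≤ (8 * k + 3) ^ 2 by omega]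
  ring

theorem mem_omega {T : Subgroup R} (h : IsMulCommutative T) {x : R} : x ∈ omegaOne 2 T ↔ x ∈ T ∧ x ^ 2 = 1 :=
  ⟨fun hx => ⟨omegaOne_le hx, (elem_omegaOne h).2 _ hx⟩, fun hx => mem_omegaOne hx.1 hx.2⟩

variable {i : Fin 4} {T A : Subgroup R} (h : Tor m i T A)
include X h

theorem tor_sup : omegaOne 2 T ⊓ A = ⊥ ∧ omegaOne 2 T ⊔ A = T ∧ Nat.card (omegaOne 2 T) = 2 ^ ![1, 2, 0, 0] i := by
  haveI := X.finite
  have h1 : omegaOne 2 T ⊓ A = ⊥ := eq_bot_iff.2 fun x hx => by_contra fun e =>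
    sq_ne_one (h.odd.1 hx.2).2 e ((mem_omega h.comm).1 hx.1).2
  have h2 : omegaOne 2 T ⊔ A = T := le_antisymm (sup_le omegaOne_le h.le) fun x hx => by
    obtain ⟨j, n, hn, e⟩ := Nat.exists_eq_two_pow_mul_odd (orderOf_pos x).ne'
    have a1 : (x ^ n) ^ 2 = 1 := X.sq_of_pow (k := j) (by rw [← pow_mul, mul_comm, ← e, pow_orderOf_eq_one])
    obtain ⟨k, hk⟩ := hn
    have a2 : x = x ^ n * ((x ^ 2) ^ k)⁻¹ := by rw [hk]; group
    exact a2 ▸ mul_mem (mem_sup_left (mem_omegaOne (pow_mem hx _) a1)) (mem_sup_right (inv_mem (pow_mem (h.odd.2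
      ⟨pow_mem hx _, Odd.of_dvd_nat ⟨k, hk⟩ (orderOf_dvd_of_pow_eq_one (by rw [← pow_mul, mul_comm, pow_mul, a1]))⟩) _)))
  refine ⟨h1, h2, ?_⟩
  have := card_sup_of_disj (Or.inl (le_norm_of_le_cent (omegaOne_le.trans (le_cent_of_comm h.comm h.le)))) h1
  rw [h2, h.card, h.cardA, (NN_kk m i).2.1, mul_comm] at this
  exact (Nat.eq_of_mul_eq_mul_right (NN_kk m i).1.pos this).symm

theorem tor_odd {d : ℕ} (hd : d ∣ kk m i) : Nat.card {g : T // orderOf g = d} = d.totient := by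
  haveI := X.finite
  rw [← card_order_cyc h.cyc (h.cardA ▸ hd), card_sub_sub T (· = d), card_sub_sub A (· = d)]
  exact Nat.card_congr (Equiv.subtypeEquivRight fun g => and_congr_left fun e => by
    rw [h.odd, e, and_iff_left ((NN_kk m i).1.of_dvd_nat hd)])

theorem tor_even {d : ℕ} (hd : d ∣ kk m i) :
    Nat.card {g : T // orderOf g = 2 * d} = (2 ^ ![1, 2, 0, 0] i - 1) * d.totient := by
  haveI := X.finite
  obtain ⟨h1, h2, h3⟩ := X.tor_sup h
  have key : ∀ v ∈ omegaOne 2 T, ∀ a ∈ A, orderOf (v * a) = orderOf v * orderOf a := fun v hv a ha =>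
    Commute.orderOf_mul_eq_mul_orderOf_of_coprime (comm_of_isMulComm h.comm (omegaOne_le hv) (h.le ha))
      ((h.odd.1 ha).2.coprime_two_left.coprime_dvd_left (orderOf_dvd_of_pow_eq_one ((mem_omega h.comm).1 hv).2))
  have k2 : ∀ v ∈ omegaOne 2 T, v ≠ 1 → orderOf v = 2 := fun v hv => orderOf_eq_prime ((mem_omega h.comm).1 hv).2
  rw [card_sub_sub T (· = 2 * d), card_of_bij (fun p : {v : omegaOne 2 T // v ≠ 1} × {a : A // orderOf a = d} =>
    p.1.1.1 * p.2.1.1) (fun a b e => ?_) fun g => ⟨?_, ?_⟩, Nat.card_prod, card_ne, h3,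
    card_order_cyc h.cyc (h.cardA ▸ hd)]
  · have := mul_injective_of_disjoint (disjoint_iff.2 h1) (a₁ := (a.1.1, a.2.1)) (a₂ := (b.1.1, b.2.1)) e
    exact Prod.ext (Subtype.ext (congrArg Prod.fst this)) (Subtype.ext (congrArg Prod.snd this))
  · rintro ⟨hg, e⟩
    obtain ⟨v, hv, a, ha, rfl⟩ := (mem_sup_of_norm (le_norm_of_le_cent (omegaOne_le.trans
      (le_cent_of_comm h.comm h.le)))).1 (h2.ge hg)
    have h4 : v ≠ 1 := by
      rintro rfl
      exact (h.odd.1 ha).2.not_two_dvd_nat ⟨d, by rwa [one_mul] at e⟩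
    rw [key v hv a ha, k2 v hv h4] at e
    exact ⟨(⟨⟨v, hv⟩, fun e => h4 (congrArg Subtype.val e)⟩, ⟨⟨a, ha⟩, by simpa using e⟩), rfl⟩
  · rintro ⟨⟨⟨⟨v, hv⟩, h4⟩, ⟨a, ha⟩, e⟩, rfl⟩
    exact ⟨mul_mem (omegaOne_le hv) (h.le ha), by
      rw [key v hv a ha, k2 v hv fun e => h4 (Subtype.ext e), ← e, orderOf_mk]⟩

end Ree

open Cfsg.Lie

theorem exists_ree' {K : Type*} [Field K] [Fintype K] {m : ℕ} (hK : Fintype.card K = 3 ^ (2 * m + 1)) :
    ∃ X : Ree (twistedG2 K (3 ^ m)) K m, (∀ g : twistedG2 K (3 ^ m), g.1 ∈ chevG2.posUnipotent K ↔ g ∈ X.U) ∧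
      (∀ g : twistedG2 K (3 ^ m), g.1 ∈ chevG2.diagonalSubgroup K ↔ g ∈ X.h.range) ∧
      ∀ g : twistedG2 K (3 ^ m), g.1 ∈ chevG2.borelSubgroup K ↔ g ∈ X.B := by
  obtain ⟨X, h1, h2, -⟩ := exists_ree hK
  haveI := X.finite
  refine ⟨X, goodG2.posUnipotent_eq K ▸ h1, goodG2.diagonal_eq K ▸ fun g => (h2 g).trans (exists_congr fun _ => eq_comm),
    goodG2.borel_eq K ▸ fun g => ⟨fun hg => X.norm_U ▸ mem_norm_of_conj fun x hx => (h1 _).1
      ((goodG2.gl K).B_conj hg ((h1 x).2 hx)), fun hg => ?_⟩⟩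
  obtain ⟨u, hu, a, rfl⟩ := X.mem_B.1 hg
  exact mul_mem ((goodG2.gl K).U_le_B ((h1 u).2 hu)) ((goodG2.gl K).HH_le_B ((h2 _).2 ⟨a, rfl⟩))

end CfsgH6
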