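import Cfsg.Agent.H6.Ree5
import Cfsg.Agent.H2.BG0
import Cfsg.Agent.L0.Gens

/-! The 2-local structure of the small Ree groups. -/

set_option autoImplicit false

namespace CfsgH6

open CfsgH2 Subgroup Cfsg

theorem relIndex_cent_eq {G : Type*} [Group G] (S : Subgroup G) :
    C[S].relIndex N[S] = Nat.card S.normalizerMonoidHom.range := by
  rw [relIndex, ← normalizerMonoidHom_ker, index_ker]

theorem relIndex_cent_dvd {G : Type*} [Group G] [Finite G] {S F : Subgroup G} (h : S ≤ N[F]) :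
    C[F].relIndex S ∣ (o[F] - 1).factorial := by
  classical
  have := Fintype.ofFinite F
  have i : Function.Injective (MonoidHom.mk' (M := MulAut F) (fun φ => Equiv.Perm.subtypePerm
      φ.toEquiv (p := fun v => ¬ v = 1) fun _ => φ.map_eq_one_iff.not) fun _ _ => rfl) := by
    refine (injective_iff_map_eq_one _).2 fun φ e => MulEquiv.ext fun v => ?_
    by_cases h1 : v = 1
    · rw [h1, map_one, map_one]
    · exact congrArg Subtype.val (DFunLike.congr_fun e ⟨v, h1⟩)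
  rw [← relIndex_subgroupOf h, ← normalizerMonoidHom_ker, relIndex_ker]
  refine (card_subgroup_dvd_card _).trans ((card_dvd_of_injective _ i).trans ?_)
  rw [Nat.card_eq_fintype_card, Fintype.card_perm, Fintype.card_subtype_compl,
    Fintype.card_subtype_eq, ← Nat.card_eq_fintype_card]

theorem relIndex_dvd_168 {G : Type*} [Group G] [Finite G] {S : Subgroup G} (hS : IsElementaryAbelian 2 S)
    (h : o[S] = 8) : C[S].relIndex N[S] ∣ 168 := by
  haveI := hS.1
  have := CfsgL0.card_gen_tuples_elem (E := S) (p := 2) (r := 3) ⟨inferInstance, fun a _ => Subtype.ext (hS.2 a a.2)⟩ h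
  rw [relIndex_cent_eq, show 168 = {y : Fin 3 → S | closure (Set.range y) = ⊤}.ncard from this.symm]
  refine CfsgL0.card_dvd_of_gen_tuples _ _ (fun _ h => h) fun x hx a => ?_
  rw [Set.mem_setOf_eq, show Set.range (a • x) = (a.1 : S →* S) '' Set.range x from Set.range_comp a.1 x,
    ← MonoidHom.map_closure, hx, map_top_of_surjective _ a.1.surjective]

namespace Ree

variable {R : Type*} [Group R] {K : Type*} [Field K] [Fintype K] {m : ℕ} (X : Ree R K m)

theorem cent_le_B {x : R} (hx : x ∈ X.B) (h : 3 ∣ orderOf x) : C1[x] ≤ X.B := fun g hg =>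
  X.TI (X.pow_div hx h).1 (X.pow_div hx h).2 (by
    rw [← conj_pow, mem_centralizer_singleton_iff.1 hg, mul_inv_cancel_right]; exact pow_mem hx _)

include X

theorem not_four {x : R} (h : 3 ∣ orderOf x) : ¬ 4 ∣ o[C1[x]] := fun e => by
  obtain ⟨g, hg⟩ := X.exists_conj_B h
  have := card_dvd_of_le (X.cent_le_B hg (by rwa [orderOf_cj]))
  rw [centralizer_conj, card_map_cj, X.card_B] at this
  have := (Nat.Coprime.pow_right 3 (Nat.Coprime.pow_right _ (by decide : Nat.Coprime 4 3))).dvd_of_dvd_mul_left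
    (e.trans this)
  obtain ⟨k, hk⟩ := q_eq m
  omega

theorem tor_of_four {x : R} (h2 : x ^ 2 ≠ 1) (h4 : 4 ∣ o[C1[x]]) : ∃ A, Tor m 1 C1[x] A := by
  obtain ⟨i, A, h⟩ := X.exists_tor (fun e => X.not_four e h4) h2
  rw [h.card, (NN_kk m i).2.1] at h4
  have := ((NN_kk m i).1.coprime_two_left.pow_left 2).dvd_of_dvd_mul_left h4
  obtain rfl : i = 1 := by revert this; fin_cases i <;> decide
  exact ⟨A, h⟩

theorem not_three {V : Subgroup R} (h : 4 ∣ o[V]) : ¬ 3 ∣ o[C[V]] := fun e => by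
  haveI := X.finite
  obtain ⟨x, hx, e⟩ := exists_prime_order_mem Nat.prime_three e
  exact X.not_four e.symm.dvd (h.trans (card_dvd_of_le (le_cent1_iff.2 hx)))

theorem elem {P : Subgroup R} (h : IsPGroup 2 P) : IsElementaryAbelian 2 P := by
  have h1 : ∀ x ∈ P, x ^ 2 = 1 := fun x hx => (pgroup_pow_eq_one h hx).elim fun _ => X.sq_of_pow
  have h2 : ∀ x ∈ P, x⁻¹ = x := fun x hx => inv_eq_of_mul_eq_one_right (sq x ▸ h1 x hx)
  exact ⟨isMulComm_iff.2 fun a ha b hb => by rw [← h2 _ (mul_mem ha hb), mul_inv_rev, h2 a ha, h2 b hb], h1⟩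

variable {S : Subgroup R} (h : Syl 2 S ⊤)
include h

theorem cent_syl : C[S] = S := by
  haveI := X.finite
  refine le_antisymm (fun x hx => ?_) (le_cent_self (X.elem h.pg).1)
  have h1 := X.card_syl h ▸ card_dvd_of_le (le_cent1_iff.2 hx)
  refine h.le_of_norm' (isPGroup_zpowers (k := 1) (by_contra fun e => ?_)) le_top (zpowers_le.2 (cent_le_norm _ hx))
    (mem_zpowers x)
  obtain ⟨A, hA⟩ := X.tor_of_four e (Dvd.dvd.trans (by decide) h1)
  rw [hA.card, (NN_kk m 1).2.1] at h1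
  exact absurd (((NN_kk m 1).1.coprime_two_left.pow_left 3).dvd_of_dvd_mul_left h1) (by decide)

theorem seven_mul {z : R} (hz : z ∈ S) (h1 : z ≠ 1) : 7 * o[C1[z] ⊓ N[S]] = o[N[S]] := by
  haveI := X.finite
  have hN : z ∈ N[S] := le_normalizer hz
  have h2 := fun x hx => orderOf_eq_prime ((X.elem h.pg).2 x hx)
  rw [← CfsgH8.ncard_conj_mul_card_centralizer (⟨z, hN⟩ : N[S])]
  congr 1
  · rw [← Set.ncard_image_of_injective _ Subtype.val_injective, show Subtype.val '' _ = (S : Set R) \ {1} from ?_,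
      Set.ncard_diff_singleton_of_mem (one_mem S), ← Nat.card_coe_set_eq, SetLike.coe_sort_coe, X.card_syl h]
    ext b
    constructor
    · rintro ⟨b, hb, rfl⟩
      obtain ⟨y, rfl⟩ := isConj_iff.1 hb
      exact ⟨conj_mem_of_norm y.2 hz, CfsgH8.conj_ne_one y.1 h1⟩
    · rintro ⟨hb, h3⟩
      obtain ⟨g, rfl⟩ := isConj_iff.1 (X.inv (h2 z hz h1) (h2 b hb h3))
      obtain ⟨n, hn, e⟩ := h.fusion_cent (mem_top g) ((X.cent_syl h).ge hz) ((X.cent_syl h).ge hb)
      exact ⟨⟨_, le_normalizer hb⟩, isConj_iff.2 ⟨⟨n, hn.2⟩, Subtype.ext e⟩, rfl⟩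
  · rw [← card_subgroupOf (inf_le_right (b := N[S])), inf_subgroupOf_right]
    congr 2
    ext y
    rw [mem_subgroupOf, mem_centralizer_singleton_iff, mem_centralizer_singleton_iff, Subtype.ext_iff]
    rfl

theorem three_dvd_norm (hm : 1 ≤ m) : 3 ∣ o[N[S]] := by
  haveI := X.finite
  obtain ⟨T, A, hT⟩ := X.exists_tor_type hm 1
  have h1 : 4 ∣ o[omegaOne 2 T] := (X.tor_sup hT).2.2.symm.dvd
  have h2 := elem_omegaOne (p := 2) hT.comm
  obtain ⟨P, hP, h3⟩ := exists_syl_ge (elem_pgroup h2) le_top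
  obtain ⟨g, -, rfl⟩ := hP.conj h
  have h4 := card_inf_mul_relIndex C[omegaOne 2 T] N[omegaOne 2 T]
  rw [inf_of_le_left (cent_le_norm _)] at h4
  have h5 := (Nat.prime_three.dvd_mul.1 (h4 ▸ (show 3 ∣ o[N[T]] from hT.cardN ▸ Dvd.dvd.mul_right (by decide) _).trans
    (card_dvd_of_le norm_le_norm_omegaOne))).resolve_left (X.not_three h1)
  rw [← (hP.mono (le_cent_of_comm (X.elem hP.pg).1 h3) le_top).frattini_sup (cent_le_norm _) (norm_le_norm_cent _),
    sup_comm, relIndex_sup_of_norm (inf_le_left.trans (norm_le_norm_cent _))] at h5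
  rw [normalizer_map_cj, card_map_cj]
  exact h5.trans ((relIndex_dvd_card ..).trans (card_dvd_of_le inf_le_right))

theorem card_norm_syl (hm : 1 ≤ m) : o[N[S]] = 168 := by
  haveI := X.finite
  have h0 := X.card_syl h
  have h1 := relIndex_dvd_168 (X.elem h.pg) h0
  have h2 := CfsgH2.card_mul_relIndex (le_normalizer (H := S))
  have h3 := (h.mono le_normalizer le_top).nd
  obtain ⟨z, hz, h4⟩ := exists_ne_one (H := S) fun e => by simp [e] at h0
  have h5 : 7 ∣ o[N[S]] := ⟨_, (X.seven_mul h hz h4).symm⟩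
  have h6 := X.three_dvd_norm h hm
  rw [X.cent_syl h] at h1
  rw [← h2, h0] at h5 h6 ⊢
  generalize S.relIndex N[S] = k at *
  have := Nat.le_of_dvd (by norm_num) h1
  interval_cases k <;> omega

omit h

theorem norm_three {P : Subgroup R} (hP : IsPGroup 3 P) (h0 : P ≠ ⊥) : ∃ g, N[P] ≤ N[X.U.map (cj g)] := by
  obtain ⟨g, hg⟩ := X.exists_conj_U hP
  obtain ⟨x, hx, h1⟩ := exists_ne_one h0
  refine ⟨g⁻¹, fun y hy => ?_⟩
  rw [normalizer_map_cj, mem_map_cj, X.norm_U, inv_inv]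
  refine X.TI (hg (conj_mem_map_cj hx)) (CfsgH8.conj_ne_one g h1) (X.U_le_B ?_)
  convert hg (conj_mem_map_cj (conj_mem_of_norm hy hx)) using 1
  group

theorem solv_cases (hm : 1 ≤ m) {S : Subgroup R} (hS : Sol[S]) : (∃ P, Syl 2 P ⊤ ∧ S ≤ N[P]) ∨ (∃ P, Syl 3 P ⊤ ∧ S ≤ N[P]) ∨
    ∃ i T A, Tor m i T A ∧ S ≤ N[A] := by
  haveI := X.finite
  by_cases h : IsPGroup 2 F[S]
  · left
    have hc : C[F[S]] ⊓ S ≤ F[S] := CfsgH1.centralizer_fittingOf_inf_le S
    obtain ⟨Q, hQ, h1⟩ := exists_syl_ge h fit_le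
    obtain rfl : Q = F[S] := le_antisymm ((le_inf (le_cent_of_comm (X.elem hQ.pg).1 h1) hQ.le).trans hc) h1
    obtain ⟨P, hP, h2⟩ := exists_syl_ge h le_top
    by_cases h3 : o[F[S]] ≤ 4
    swap
    · have := X.card_syl hP ▸ card_dvd_of_le h2
      have h4 := Nat.le_of_dvd (by norm_num) this
      obtain rfl := eq_of_le_of_card_le h2 (by
        rw [X.card_syl hP]; generalize o[F[S]] = k at *; interval_cases k <;> omega)
      exact ⟨_, hP, le_norm_fit⟩
    have h6 := relIndex_cent_dvd (le_norm_fit (H := S))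
    rw [← inf_relIndex_right, le_antisymm hc (le_inf (le_cent_self (X.elem h).1) fit_le)] at h6
    have h4 : F[S].relIndex S ∣ 3 := ((coprime_iff_not_dvd Nat.prime_two).2 hQ.nd).dvd_of_dvd_mul_right
      (h6.trans (Nat.factorial_dvd_factorial (n := 3) (by omega)) : _ ∣ 3 * 2)
    by_cases h5 : 4 ∣ o[F[S]]
    · obtain ⟨Y, hY⟩ := exists_syl 3 S
      obtain ⟨Q, a1, a2⟩ := exists_inv_syl 2 (hY.le.trans (le_norm_fit.trans (norm_le_norm_cent _)))
        (coprime_of_pgroup hY.pg (X.not_three h5)) (Or.inl (isSolvable_of_pgroup hY.pg))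
      have a3 := hP.mono (le_cent_of_comm (X.elem hP.pg).1 h2) le_top
      refine ⟨Q, hP.of_card_ge a1.pg le_top (a3.card_eq_card a1).le, le_trans ?_ (sup_le a2 (le_norm_of_le_cent
        (le_centralizer_iff.1 a1.le)))⟩
      exact relIndex_eq_one.1 (Nat.eq_one_of_dvd_coprimes ((coprime_iff_not_dvd Nat.prime_three).2 hY.nd)
        (relIndex_dvd_of_le_left _ le_sup_left) ((relIndex_dvd_of_le_left _ le_sup_right).trans h4))
    · have := X.card_syl hP ▸ card_dvd_of_le h2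
      refine ⟨P, hP, le_norm_of_le ((relIndex_eq_one.1 (Nat.dvd_one.1 (h6.trans
        (Nat.factorial_dvd_factorial (n := 1) ?_)))).trans h2)⟩
      generalize o[F[S]] = k at *; interval_cases k <;> omega
  · obtain ⟨p, hp, h1, h2⟩ : ∃ p : ℕ, p.Prime ∧ p ∣ o[F[S]] ∧ p ≠ 2 := by
      by_contra! e
      exact h (isPGroup_iff_piN.2 e)
    haveI := Fact.mk hp
    obtain ⟨P, hP⟩ := exists_syl p F[S]
    have h3 := le_norm_fit.trans (hP.norm_le_of_norm (hP.le_norm_of_nilpotent fit_nil))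
    by_cases h4 : p = 3
    · subst h4
      obtain ⟨g, hg⟩ := X.norm_three hP.pg (hP.ne_bot h1)
      exact Or.inr (Or.inl ⟨_, X.syl_U.map_cj_mem (mem_top g), h3.trans hg⟩)
    · obtain ⟨i, T, A, a1, a2⟩ := X.exists_tor_pg h2 h4 hP.pg (hP.ne_bot h1)
      exact Or.inr (Or.inr ⟨i, T, A, a1, by
        rwa [a1.norm_sub le_rfl fun e => hP.ne_bot h1 (le_bot_iff.1 (e ▸ a2)), ← a1.norm_sub a2 (hP.ne_bot h1)]⟩)

end Ree

end CfsgH6
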