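import Cfsg.Agent.H6.SSCount

/-! Centralizers of regular semisimple elements. -/

set_option autoImplicit false

namespace CfsgH6

open Cfsg.Lie

variable {D : ChevalleyDatum}

namespace Cover

variable {G : Good D} {F : Type*} [Field F] {Γ : Type*} [Group Γ] (C : Cover G F Γ)

theorem τ_conj_iff (h3 : C.R3) (hτ : Function.Injective h3.τ) (hG : C.Gr = ⊤) {c d : Fin D.rank → Fˣ} :
    (∃ y, h3.τ d = y * h3.τ c * y⁻¹) ↔ ∃ w ∈ G.W, pw Fˣ (G.cM w) c = d := by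
  constructor
  · rintro ⟨y, e⟩
    obtain ⟨m, hm, e⟩ := C.HH_fusion (h3.τ_mem c) (h3.τ_mem d) (hG.ge trivial) e.symm
    obtain ⟨w, hw, h⟩ := C.exists_mon hm
    exact ⟨w, hw, hτ ((C.mon_conj_τ h3 hm h c).symm.trans e)⟩
  · rintro ⟨w, hw, rfl⟩
    obtain ⟨m, hm, h⟩ := C.exists_NN hw
    exact ⟨m, (C.mon_conj_τ h3 hm h c).symm⟩

variable [IsAlgClosed F] (h3 : C.R3) (hτ : Function.Injective h3.τ) {c : Fin D.rank → Fˣ} {n : ℕ}
  (hn : (n : F) ≠ 0) (hc : c ^ n = 1) (h1 : ∀ r, Good.chr (pw Fˣ (cartanM D) c) (G.vec r) ≠ 1)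
include hτ hn hc h1

theorem mem_HH_of_reg' {g : Γ} (hg : g ∈ C.Gr) (e : h3.τ c * g * (h3.τ c)⁻¹ = g) : g ∈ C.HH := by
  obtain ⟨u, hu, m, hm, w, hw, h, e', v, hv, rfl⟩ := C.cent_diag (h3.τ_mem c) (h3.π_τ c) hg e
  obtain rfl := C.conn h3 hτ hn hc hm hw h e' fun r _ h => absurd h (h1 r)
  have h0 : ∀ {S : Set (Fin D.nroots)} {y}, y ∈ C.US {r | r ∈ S ∧ Good.chr (pw Fˣ (cartanM D) c) (G.vec r) = 1} →
      y = 1 := fun hy => Subgroup.mem_bot.1 (C.US_empty ▸ C.US_mono (fun r hr => h1 r hr.2) hy)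
  rw [h0 (S := {r | G.Pos r}) hu, h0 hv, one_mul, mul_one]
  exact C.mem_HH_of_mon hm h

theorem cM_inj {v w : Equiv.Perm (Fin D.nroots)} (hv : v ∈ G.W) (hw : w ∈ G.W)
    (e : pw Fˣ (G.cM v) c = pw Fˣ (G.cM w) c) : v = w := by
  obtain ⟨a, ha, h⟩ := C.exists_NN hv
  obtain ⟨b, hb, h'⟩ := C.exists_NN hw
  have h2 := (C.mon_conj_τ h3 ha h c).trans ((congrArg _ e).trans (C.mon_conj_τ h3 hb h' c).symm)
  have := C.conn h3 hτ hn hc (mul_mem (inv_mem hb) ha) (mul_mem (inv_mem hw) hv) (h'.inv.mul h) (by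
    calc _ = b⁻¹ * (b * h3.τ c * b⁻¹) * a * (h3.τ c)⁻¹ := by group
      _ = _ := by rw [← h2]; group) fun r _ h => absurd h (h1 r)
  rwa [inv_mul_eq_one, eq_comm] at this

end Cover

namespace Frob

universe u

variable {G : Good D} {k : Type u} [Field k] [IsAlgClosed k] (X : Frob G k)
  {f : (Fin D.rank → kˣ) → Fin D.rank → kˣ} (hf : ∀ c, X.σ k ((G.st_R3 k).τ c) = (G.st_R3 k).τ (f c))
  {R : Type*} [Group R] {j : R →* D.SteinbergGroup k} (hj : Function.Injective j)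
  (hR : ∀ g, X.σ k g = g ↔ g ∈ j.range)
include hf hj hR

/-- semisimple elements and their centralizers -/
theorem exists_tor {x : R} {n : ℕ} (hn : (n : k) ≠ 0) (hx : x ^ n = 1) : ∃ c, ∃ w ∈ G.W,
    (∃ g, j x = g * (G.st_R3 k).τ c * g⁻¹) ∧ pw kˣ (G.cM w) (f c) = c ∧ c ^ n = 1 ∧
      ((∀ r, Good.chr (pw kˣ (cartanM D) c) (G.vec r) ≠ 1) →
        ∃ ψ : Subgroup.centralizer {x} →* (Fin D.rank → kˣ), Function.Injective ψ ∧
          (∀ d, d ∈ ψ.range ↔ pw kˣ (G.cM w) (f d) = d) ∧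
          ∀ y : Subgroup.centralizer {x}, IsConj x y ↔ ∃ v ∈ G.W, pw kˣ (G.cM v) c = ψ y) := by
  have h3 := G.st_R3 k
  have hτ := τ_injective_of_mem k X.mem G
  have hx' : j x ^ n = 1 := by rw [← map_pow, hx, map_one]
  have hσ := (hR _).2 ⟨x, rfl⟩
  obtain ⟨g, hg⟩ := G.exists_conj_HH X.mem hn hx'
  obtain ⟨c, hc⟩ := h3.exists_τ hg
  have e0 : j x = g * h3.τ c * g⁻¹ := by rw [hc]; group
  have e1 : g⁻¹ * X.σ k g * h3.τ (f c) * (g⁻¹ * X.σ k g)⁻¹ = h3.τ c := by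
    rw [← hf, hc, map_mul, map_mul, map_inv, hσ]; group
  obtain ⟨m, hm, e2⟩ := (G.st k).HH_fusion (h3.τ_mem _) (h3.τ_mem c) (G.mem_st _) e1
  obtain ⟨w, hw, h⟩ := (G.st k).exists_mon hm
  have hcn : c ^ n = 1 := hτ (by rw [map_pow, hc, ← inv_inv g, inv_inv g⁻¹, conj_pow, hx']; simp)
  refine ⟨c, w, hw, ⟨g, e0⟩, hτ (((G.st k).mon_conj_τ h3 hm h _).symm.trans e2), hcn, fun h1 => ?_⟩
  have hH := fun y => (G.st k).mem_HH_of_reg' h3 hτ hn hcn h1 (G.mem_st y)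
  have e3 : ∀ d, X.σ k (g * h3.τ d * g⁻¹) = g * h3.τ (pw kˣ (G.cM w) (f d)) * g⁻¹ := fun d => by
    have := h3.HH_comm (hH (g⁻¹ * X.σ k g * m⁻¹) (by nth_rw 1 [← e1]; rw [← e2]; group))
      (h3.τ_mem (pw kˣ (G.cM w) (f d)))
    rw [← mul_inv_eq_iff_eq_mul] at this
    rw [← this, ← (G.st k).mon_conj_τ h3 hm h, map_mul, map_mul, map_inv, hf]; group
  have e4 : ∀ y : Subgroup.centralizer {x}, g⁻¹ * j y * g ∈ h3.τ.range := fun y => by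
    rw [h3.τ_range]
    refine hH _ ?_
    have := congrArg j (Subgroup.mem_centralizer_singleton_iff.1 y.2)
    rw [map_mul, map_mul] at this
    rw [hc]
    calc _ = g⁻¹ * (j x * j y) * (j x)⁻¹ * g := by group
      _ = _ := by rw [← this]; group
  let κ : Subgroup.centralizer {x} →* h3.τ.range := MonoidHom.codRestrict
    ((MulAut.conj g⁻¹).toMonoidHom.comp (j.comp (Subgroup.subtype _))) _ fun y => by simpa using e4 y
  let ψ := (MonoidHom.ofInjective hτ).symm.toMonoidHom.comp κ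
  have e5 : ∀ y, j y.1 = g * h3.τ (ψ y) * g⁻¹ := fun y => by
    have : h3.τ (ψ y) = κ y := MonoidHom.apply_ofInjective_symm hτ _
    rw [this]; simp [κ, mul_assoc]
  refine ⟨ψ, fun y z e => Subtype.ext (hj (by rw [e5, e5, e])), fun d => ⟨?_, fun e => ?_⟩, fun y => ?_⟩
  · rintro ⟨y, rfl⟩
    have := (hR _).2 ⟨y.1, rfl⟩
    rw [e5, e3] at this
    exact hτ (by simpa using this)
  · obtain ⟨y, hy⟩ := (hR (g * h3.τ d * g⁻¹)).1 (by rw [e3, e])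
    have : y ∈ Subgroup.centralizer {x} := Subgroup.mem_centralizer_singleton_iff.2 (hj (by
      rw [map_mul, map_mul, hy, e0, conj_mul, conj_mul, h3.HH_comm (h3.τ_mem _) (h3.τ_mem _)]))
    exact ⟨⟨y, this⟩, hτ (by simpa [hy] using (e5 ⟨y, this⟩).symm)⟩
  · rw [← (G.st k).τ_conj_iff h3 hτ (G.st_Gr k), isConj_iff]
    refine ⟨fun ⟨z, e⟩ => ⟨g⁻¹ * j z * g, ?_⟩, fun ⟨z, e⟩ => ?_⟩
    · have := congrArg j e
      rw [map_mul, map_mul, map_inv, e5, e0] at this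
      calc _ = g⁻¹ * (g * h3.τ (ψ y) * g⁻¹) * g := by group
        _ = _ := by rw [← this]; group
    · have e6 : j y = g * z * g⁻¹ * j x * (g * z * g⁻¹)⁻¹ := by rw [e5, e, e0]; group
      obtain ⟨a, ha, e7⟩ := X.conj_fix hn hx' hσ (e6 ▸ (hR _).2 ⟨_, rfl⟩)
      obtain ⟨a, rfl⟩ := (hR _).1 ha
      exact ⟨a, hj (by rw [map_mul, map_mul, map_inv, e7, e6])⟩

omit hf in
theorem isConj_of {x y : R} {n : ℕ} (hn : (n : k) ≠ 0) (hx : x ^ n = 1) (h : IsConj (j x) (j y)) : IsConj x y := by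
  obtain ⟨z, e⟩ := isConj_iff.1 h
  obtain ⟨a, ha, e7⟩ := X.conj_fix hn (by rw [← map_pow, hx, map_one]) ((hR _).2 ⟨x, rfl⟩) (e ▸ (hR _).2 ⟨_, rfl⟩)
  obtain ⟨a, rfl⟩ := (hR _).1 ha
  exact isConj_iff.2 ⟨a, hj (by rw [map_mul, map_mul, map_inv, e7, e])⟩

end Frob

end CfsgH6
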