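import Cfsg.Agent.H6.TwistF
import Cfsg.Agent.H6.GoodE6

/-! The folded Weyl group for the twisted group of type E6. -/

set_option autoImplicit false

namespace CfsgH6

open Cfsg.Lie

set_option maxRecDepth 100000

/-- classes of nodes -/
def clE6 (i : Fin chevE6.rank) : Fin 4 := ([3, 0, 2, 1, 2, 3] : List (Fin 4)).getD i 0

/-- longest elements -/
def cdE6 (c : Fin 4) : List ℕ × List ℕ × ℕ := [([1], [1], 1), ([3], [3], 1), ([2, 4], [2, 4], 2), ([0, 5], [0, 5], 2)].getD c ([], [], 0)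

theorem foldE6 : FoldOK goodE6 clE6 cdE6 := by decide +kernel

/-- orbit table -/
def tworbE6x0 : Orb where
  l := 6
  cm := 0xa788887a788887a778887a878878a888878a
  lam := 0x988889
  cl := [([1], [1], 1), ([3], [3], 1), ([2, 4], [2, 4], 2), ([0, 5], [0, 5], 2)]
  O := [0x988889, 0x2798987, 0x487a788, 0x58969a8, 0x6898968, 0x79787a9, 0x897a769, 0x97888a7,
    0x9996989, 0xa78a867, 0xba7878a, 0xb7a6a87, 0xd698986, 0xd96a689, 0xf77a787, 0xe9868a9,
    0x107969a7, 0xf988869, 0x11798967, 0x128787a8, 0x1387a768, 0x14896988, 0x16978789, 0x18788887]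

theorem twcmE6 : ∀ i j : Fin chevE6.rank, chevE6.cartan i (chevE6.simple j) = tworbE6x0.a i j := by
  decide +kernel

theorem twpoinE6x0 {F : Type*} [Field F] {Γ : Type*} [Group Γ] {C : Cover goodE6 F Γ} (T : Twist C (Fin 4)) (hT : T.cl = clE6)
    {R : Type*} [CommSemiring R] (q : R) :
    T.fold.poin q {c | c ∈ ([0, 1, 2, 3] : List (Fin 4))} = (q ^ 0 + q ^ 2 + q ^ 4 + q ^ 5 + q ^ 6 + q ^ 7 + q ^ 8 + 2 * q ^ 9 + q ^ 10 + 2 * q ^ 11 + 2 * q ^ 13 + q ^ 14 + 2 * q ^ 15 + q ^ 16 + q ^ 17 + q ^ 18 + q ^ 19 + q ^ 20 + q ^ 22 + q ^ 24) *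
      T.fold.poin q {c | c ∈ ([0, 1, 2] : List (Fin 4))} := by
  rw [T.poin_step (hT ▸ foldE6) tworbE6x0 rfl twcmE6 [0, 1, 2] [0, 1, 2, 3] (by decide +kernel) rfl (by decide +kernel)
    (by decide +kernel) (by decide +kernel) (by decide +kernel) q (L := [0, 2, 4, 5, 6, 7, 8, 9, 9, 10, 11, 11, 13, 13, 15, 14, 16, 15, 17, 18, 19, 20, 22, 24]) (by decide +kernel)]
  congr 1
  simp only [List.map_cons, List.map_nil, List.sum_cons, List.sum_nil]
  ring

/-- orbit table -/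
def tworbE6x1 : Orb where
  l := 6
  cm := 0xa788887a788887a778887a878878a888878a
  lam := 0x888898
  cl := [([1], [1], 1), ([3], [3], 1), ([2, 4], [2, 4], 2)]
  O := [0x888898, 0x1889878, 0x2897988, 0x4979789, 0x5987899, 0x6988879]

theorem twpoinE6x1 {F : Type*} [Field F] {Γ : Type*} [Group Γ] {C : Cover goodE6 F Γ} (T : Twist C (Fin 4)) (hT : T.cl = clE6)
    {R : Type*} [CommSemiring R] (q : R) :
    T.fold.poin q {c | c ∈ ([0, 1, 2] : List (Fin 4))} = (q ^ 0 + q ^ 1 + q ^ 2 + q ^ 4 + q ^ 5 + q ^ 6) *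
      T.fold.poin q {c | c ∈ ([1, 2] : List (Fin 4))} := by
  rw [T.poin_step (hT ▸ foldE6) tworbE6x1 rfl twcmE6 [1, 2] [0, 1, 2] (by decide +kernel) rfl (by decide +kernel)
    (by decide +kernel) (by decide +kernel) (by decide +kernel) q (L := [0, 1, 2, 4, 5, 6]) (by decide +kernel)]
  congr 1
  simp only [List.map_cons, List.map_nil, List.sum_cons, List.sum_nil]
  ring

/-- orbit table -/
def tworbE6x2 : Orb where
  l := 6
  cm := 0xa788887a788887a778887a878878a888878a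
  lam := 0x889888
  cl := [([3], [3], 1), ([2, 4], [2, 4], 2)]
  O := [0x889888, 0x1897998, 0x3979799, 0x49878a9]

theorem twpoinE6x2 {F : Type*} [Field F] {Γ : Type*} [Group Γ] {C : Cover goodE6 F Γ} (T : Twist C (Fin 4)) (hT : T.cl = clE6)
    {R : Type*} [CommSemiring R] (q : R) :
    T.fold.poin q {c | c ∈ ([1, 2] : List (Fin 4))} = (q ^ 0 + q ^ 1 + q ^ 3 + q ^ 4) *
      T.fold.poin q {c | c ∈ ([2] : List (Fin 4))} := by
  rw [T.poin_step (hT ▸ foldE6) tworbE6x2 rfl twcmE6 [2] [1, 2] (by decide +kernel) rfl (by decide +kernel)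
    (by decide +kernel) (by decide +kernel) (by decide +kernel) q (L := [0, 1, 3, 4]) (by decide +kernel)]
  congr 1
  simp only [List.map_cons, List.map_nil, List.sum_cons, List.sum_nil]
  ring

/-- orbit table -/
def tworbE6x3 : Orb where
  l := 6
  cm := 0xa788887a788887a778887a878878a888878a
  lam := 0x898988
  cl := [([2, 4], [2, 4], 2)]
  O := [0x898988, 0x297a789]

theorem twpoinE6x3 {F : Type*} [Field F] {Γ : Type*} [Group Γ] {C : Cover goodE6 F Γ} (T : Twist C (Fin 4)) (hT : T.cl = clE6)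
    {R : Type*} [CommSemiring R] (q : R) :
    T.fold.poin q {c | c ∈ ([2] : List (Fin 4))} = (q ^ 0 + q ^ 2) *
      T.fold.poin q {c | c ∈ ([] : List (Fin 4))} := by
  rw [T.poin_step (hT ▸ foldE6) tworbE6x3 rfl twcmE6 [] [2] (by decide +kernel) rfl (by decide +kernel)
    (by decide +kernel) (by decide +kernel) (by decide +kernel) q (L := [0, 2]) (by decide +kernel)]
  congr 1
  simp only [List.map_cons, List.map_nil, List.sum_cons, List.sum_nil]
  ring

theorem twpoinE6 {F : Type*} [Field F] {Γ : Type*} [Group Γ] {C : Cover goodE6 F Γ} (T : Twist C (Fin 4)) (hT : T.cl = clE6)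
    {R : Type*} [CommRing R] (q : R) :
    (q - 1) ^ 2 * (q ^ 2 - 1) ^ 2 * T.fold.poin q Set.univ = (q ^ 2 - 1) * (q ^ 5 + 1) * (q ^ 6 - 1) * (q ^ 8 - 1) * (q ^ 9 + 1) * (q ^ 12 - 1) := by
  rw [show (Set.univ : Set (Fin 4)) = {c | c ∈ ([0, 1, 2, 3] : List (Fin 4))} from (Set.eq_univ_of_forall (by decide)).symm,
    twpoinE6x0 T hT, twpoinE6x1 T hT, twpoinE6x2 T hT, twpoinE6x3 T hT]
  simp only [List.not_mem_nil, Set.ofPred_false, Fold.poin_empty]
  ring

theorem twcardE6 {F : Type*} [Field F] {Γ : Type*} [Group Γ] {C : Cover goodE6 F Γ} (T : Twist C (Fin 4)) (hT : T.cl = clE6) :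
    Nat.card T.W1 = 1152 := by
  rw [T.card_W1, show (Set.univ : Set (Fin 4)) = {c | c ∈ ([0, 1, 2, 3] : List (Fin 4))} from (Set.eq_univ_of_forall (by decide)).symm,
    twpoinE6x0 T hT, twpoinE6x1 T hT, twpoinE6x2 T hT, twpoinE6x3 T hT]
  simp only [List.not_mem_nil, Set.ofPred_false, Fold.poin_empty]
  rfl

/-- orders of products -/
def twmE6 (i j : Fin 4) : ℕ := ([[1, 3, 2, 2], [3, 1, 4, 2], [2, 4, 1, 3], [2, 2, 3, 1]].getD i []).getD j 0

theorem twordE6 {F : Type*} [Field F] {Γ : Type*} [Group Γ] {C : Cover goodE6 F Γ} (T : Twist C (Fin 4)) (hT : T.cl = clE6) :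
    ∀ i j, orderOf (T.s i * T.s j) = twmE6 i j :=
  T.order_s (hT ▸ foldE6) tworbE6x0 rfl twcmE6 _ (by decide +kernel)

theorem twirrE6 {F : Type*} [Field F] {Γ : Type*} [Group Γ] {C : Cover goodE6 F Γ} (T : Twist C (Fin 4)) (hT : T.cl = clE6) :
    T.bn.Irreducible :=
  T.irreducible_of (twordE6 T hT) (by decide) Fin.val 0 (by decide)

end CfsgH6
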