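import Cfsg.Agent.H6.TwistF
import Cfsg.Agent.H6.GoodF4

/-! The folded Weyl group for the twisted group of type F4. -/

set_option autoImplicit false

namespace CfsgH6

open Cfsg.Lie

set_option maxRecDepth 100000

/-- classes of nodes -/
def clF4 (i : Fin chevF4.rank) : Fin 2 := ([0, 1, 1, 0] : List (Fin 2)).getD i 0

/-- longest elements -/
def cdF4 (c : Fin 2) : List ℕ × List ℕ × ℕ := [([0, 3], [0, 3], 2), ([1, 2], [1, 2, 1, 2], 4)].getD c ([], [], 0)

theorem foldF4 : FoldOK goodF4 clF4 cdF4 := by decide +kernel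

/-- orbit table -/
def tworbF4x0 : Orb where
  l := 4
  cm := 0xa7887a7886a7887a
  lam := 0x9889
  cl := [([0, 3], [0, 3], 2), ([1, 2], [1, 2, 1, 2], 4)]
  O := [0x9889, 0x27997, 0x6b77a, 0x85a96, 0xcb67a, 0xe5996, 0x129779, 0x147887]

theorem twcmF4 : ∀ i j : Fin chevF4.rank, chevF4.cartan i (chevF4.simple j) = tworbF4x0.a i j := by
  decide +kernel

theorem twpoinF4x0 {F : Type*} [Field F] {Γ : Type*} [Group Γ] {C : Cover goodF4 F Γ} (T : Twist C (Fin 2)) (hT : T.cl = clF4)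
    {R : Type*} [CommSemiring R] (q : R) :
    T.fold.poin q {c | c ∈ ([0, 1] : List (Fin 2))} = (q ^ 0 + q ^ 2 + q ^ 6 + q ^ 8 + q ^ 12 + q ^ 14 + q ^ 18 + q ^ 20) *
      T.fold.poin q {c | c ∈ ([1] : List (Fin 2))} := by
  rw [T.poin_step (hT ▸ foldF4) tworbF4x0 rfl twcmF4 [1] [0, 1] (by decide +kernel) rfl (by decide +kernel)
    (by decide +kernel) (by decide +kernel) (by decide +kernel) q (L := [0, 2, 6, 8, 12, 14, 18, 20]) (by decide +kernel)]
  congr 1
  simp only [List.map_cons, List.map_nil, List.sum_cons, List.sum_nil]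
  ring

/-- orbit table -/
def tworbF4x1 : Orb where
  l := 4
  cm := 0xa7887a7886a7887a
  lam := 0x8998
  cl := [([1, 2], [1, 2, 1, 2], 4)]
  O := [0x8998, 0x4c77b]

theorem twpoinF4x1 {F : Type*} [Field F] {Γ : Type*} [Group Γ] {C : Cover goodF4 F Γ} (T : Twist C (Fin 2)) (hT : T.cl = clF4)
    {R : Type*} [CommSemiring R] (q : R) :
    T.fold.poin q {c | c ∈ ([1] : List (Fin 2))} = (q ^ 0 + q ^ 4) *
      T.fold.poin q {c | c ∈ ([] : List (Fin 2))} := by
  rw [T.poin_step (hT ▸ foldF4) tworbF4x1 rfl twcmF4 [] [1] (by decide +kernel) rfl (by decide +kernel)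
    (by decide +kernel) (by decide +kernel) (by decide +kernel) q (L := [0, 4]) (by decide +kernel)]
  congr 1
  simp only [List.map_cons, List.map_nil, List.sum_cons, List.sum_nil]
  ring

theorem twpoinF4 {F : Type*} [Field F] {Γ : Type*} [Group Γ] {C : Cover goodF4 F Γ} (T : Twist C (Fin 2)) (hT : T.cl = clF4)
    {R : Type*} [CommRing R] (q : R) :
    (q ^ 2 - 1) ^ 2 * T.fold.poin q Set.univ = (q ^ 2 - 1) * (q ^ 6 + 1) * (q ^ 8 - 1) * (q ^ 12 + 1) := by
  rw [show (Set.univ : Set (Fin 2)) = {c | c ∈ ([0, 1] : List (Fin 2))} from (Set.eq_univ_of_forall (by decide)).symm,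
    twpoinF4x0 T hT, twpoinF4x1 T hT]
  simp only [List.not_mem_nil, Set.ofPred_false, Fold.poin_empty]
  ring

theorem twcardF4 {F : Type*} [Field F] {Γ : Type*} [Group Γ] {C : Cover goodF4 F Γ} (T : Twist C (Fin 2)) (hT : T.cl = clF4) :
    Nat.card T.W1 = 16 := by
  rw [T.card_W1, show (Set.univ : Set (Fin 2)) = {c | c ∈ ([0, 1] : List (Fin 2))} from (Set.eq_univ_of_forall (by decide)).symm,
    twpoinF4x0 T hT, twpoinF4x1 T hT]
  simp only [List.not_mem_nil, Set.ofPred_false, Fold.poin_empty]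
  rfl

/-- orders of products -/
def twmF4 (i j : Fin 2) : ℕ := ([[1, 8], [8, 1]].getD i []).getD j 0

theorem twordF4 {F : Type*} [Field F] {Γ : Type*} [Group Γ] {C : Cover goodF4 F Γ} (T : Twist C (Fin 2)) (hT : T.cl = clF4) :
    ∀ i j, orderOf (T.s i * T.s j) = twmF4 i j :=
  T.order_s (hT ▸ foldF4) tworbF4x0 rfl twcmF4 _ (by decide +kernel)

theorem twirrF4 {F : Type*} [Field F] {Γ : Type*} [Group Γ] {C : Cover goodF4 F Γ} (T : Twist C (Fin 2)) (hT : T.cl = clF4) :
    T.bn.Irreducible :=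
  T.irreducible_of (twordF4 T hT) (by decide) Fin.val 0 (by decide)

end CfsgH6
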