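import Cfsg.Prelude.Def_LieTwisted
import Cfsg.Agent.H6.TwWF4
import Cfsg.Agent.H6.MapF4
import Cfsg.Agent.H6.GraphAut
import Cfsg.Agent.H6.Smith
import Cfsg.Agent.H6.TwistH

/-! The twisted group of type F4. -/

set_option autoImplicit false

namespace CfsgH6

open Cfsg.Lie
open scoped commutatorElement

set_option maxRecDepth 100000

theorem Good.τ_gl_injective {D : ChevalleyDatum} (G : Good D) (F : Type*) [Field F]
    (h : Function.Injective (pw Fˣ (cartanM D))) : Function.Injective (G.gl_R3 F).τ :=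
  (injective_iff_map_eq_one _).2 fun _ e => h (((G.gl_R3 F).π_τ_eq_one.1 e).trans (map_one _).symm)

theorem exists_theta {K : Type*} [Field K] [Fintype K] {p m : ℕ} (hp : p.Prime) (hK : Fintype.card K = p ^ (2 * m + 1)) :
    CharP K p ∧ ∃ φ : K →+* K, ∀ t, φ t = t ^ p ^ m := by
  obtain ⟨p', hc, n, hp', e⟩ := FiniteField.card' K
  obtain rfl : p = p' := (Nat.prime_dvd_prime_iff_eq hp hp').1 (hp.dvd_of_dvd_pow (by
    rw [← e, hK]; exact dvd_pow_self _ (by positivity)))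
  have := Fact.mk hp
  exact ⟨hc, iterateFrobenius K p m, iterateFrobenius_def p m⟩

theorem theta_theta {K : Type*} [Field K] [Fintype K] {p m : ℕ} {φ : K →+* K} (hφ : ∀ t, φ t = t ^ p ^ m)
    (hK : Fintype.card K = p ^ (2 * m + 1)) (t : K) : φ (φ t) ^ p = t := by
  rw [hφ, hφ, ← pow_mul, ← pow_mul, ← pow_succ, ← pow_add, ← add_assoc, ← two_mul, ← hK, FiniteField.pow_card]

theorem exists_dihedral {W : Type*} [Group W] (cs : CoxeterSystem (CoxeterMatrix.I 6) W) (h : Nat.card W = 16) :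
    Nonempty (W ≃* DihedralGroup 8) := by
  let φ := cs.lift ⟨![DihedralGroup.sr (n := 8) 0, DihedralGroup.sr 1], fun i j => by
    fin_cases i <;> fin_cases j <;> simp [CoxeterMatrix.I] <;> decide⟩
  have h0 : DihedralGroup.sr 0 ∈ φ.range := ⟨_, cs.lift_apply_simple _ 0⟩
  have h1 : DihedralGroup.r 1 ∈ φ.range := by simpa using mul_mem h0 (⟨_, cs.lift_apply_simple _ 1⟩ : _ ∈ φ.range)
  have h2 : ∀ i, DihedralGroup.r i ∈ φ.range := fun i => by simpa using pow_mem h1 i.val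
  have : Finite W := Nat.finite_of_card_ne_zero (by omega)
  refine ⟨MulEquiv.ofBijective φ ((Nat.bijective_iff_surjective_and_card _).2 ⟨fun x => ?_, by
    rw [h, DihedralGroup.nat_card]⟩)⟩
  cases x with
  | r i => exact h2 i
  | sr i => simpa using mul_mem h0 (h2 i)

/-- the diagram symmetry -/
def pF4 : Equiv.Perm (Fin chevF4.rank) where
  toFun i := ⟨[3, 2, 1, 0].getD i 0, by revert i; decide +kernel⟩
  invFun i := ⟨[3, 2, 1, 0].getD i 0, by revert i; decide +kernel⟩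
  left_inv := by decide +kernel
  right_inv := by decide +kernel

theorem feF4 : ∀ r : Fin chevF4.nroots, mapF4.fe r = 1 ∨ mapF4.fe r = 2 := by decide +kernel

variable {K : Type*} [Field K] [Fintype K] [CharP K 2] (φ : K →+* K)

/-- the twisting data -/
noncomputable def XF4 : TwD goodF4 K (Fin 2) where
  M := mapF4
  H := okF4
  φ := φ
  m e := (powHom K 2 e).comp φ
  hm r t := powHom_apply 2 (feF4 r) _
  hs _ := Finite.surjective_of_injective (RingHom.injective _)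
  hp := by simpa [mapF4] using CharTwo.two_eq_zero
  p := pF4
  hsm := smF4
  cl := clF4
  cl_surj := by decide +kernel
  cl_p := by decide +kernel
  cl_trans i j h := by
    have : ∀ i j, clF4 i = clF4 j → ∃ k < 2, (pF4 ^ k) i = j := by decide +kernel
    exact (this i j h).imp fun _ h => h.2

theorem clsF4 : ClsOK goodF4 clF4 0 [33, 24] [14, 23] ∧ ClsOK goodF4 clF4 1 [27, 25, 28, 30] [20, 22, 19, 17] := by
  decide +kernel

theorem prF4 : ∀ p ∈ [(33, 24), (14, 23)], (mapF4.fι p.1 = p.2 ∧ mapF4.fι p.2 = p.1 ∧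
    mapF4.fγ p.1 = 1 ∧ mapF4.fγ p.2 = 1) ∧ SwOK chevF4 p.1 p.2 [] ∧ mapF4.fe p.1 = 2 ∧ mapF4.fe p.2 = 1 := by
  decide +kernel

theorem revF4 : (Fin.revPerm : Equiv.Perm (Fin chevF4.nroots)) ∈ goodF4.W := by
  rw [show Fin.revPerm = goodF4.wN (List.replicate 6 [0, 1, 2, 3]).flatten from Equiv.ext (by decide +kernel)]
  exact goodF4.wN_mem _

variable {φ} {m : ℕ} (hφ : ∀ t, φ t = t ^ 2 ^ m) (hK : Fintype.card K = 2 ^ (2 * m + 1))
  {Γ : Type*} [Group Γ] (C : Cover goodF4 K Γ) (h1 : (XF4 φ).Fn C)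
  {f : Fin chevF4.rank → ℤ} {S : Set (Fin chevF4.nroots)} (hS : goodF4.Nil f S)
include hφ hK h1 hS

theorem twoF4 {r s : ℕ} (hr : (r, s) ∈ [(33, 24), (14, 23)]) (hL : Enum [r, s] S) (g : Γ) :
    g ∈ C.US S ∧ (g, g) ∈ C.graph (XF4 φ).ρ (XF4 φ).f ↔ ∃ t, g = wordG C.x (f4PairWord (2 ^ m) r s t) := by
  rw [(XF4 φ).fix_two C h1 hS hL (prF4 _ hr).1 (prF4 _ hr).2.1]
  simp only [XF4, (prF4 _ hr).2.2, pow_one, f4PairWord, ← hφ]
  exact ⟨fun ⟨a, b, e, _, e'⟩ => ⟨b, e ▸ e'⟩, fun ⟨t, e⟩ => ⟨_, t, rfl, (theta_theta hφ hK t).symm, e⟩⟩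

theorem posF4 (hL : Enum [27, 25, 28, 30] S) (g : Γ) : g ∈ C.US S ∧ (g, g) ∈ C.graph (XF4 φ).ρ (XF4 φ).f ↔
    ∃ t u, g = wordG C.x (b2ClassWord (2 ^ m) f4a f4b f4ab f4aab t u) := by
  rw [(XF4 φ).fix_B2 C h1 hS (theta_theta hφ hK) hL (by dsimp only [XF4]; decide +kernel) (ε := -1)
    (by simp [CharTwo.neg_eq]) (by decide +kernel) (by decide +kernel)]
  simp only [XF4, b2ClassWord, hφ, pow_succ _ (2 ^ m), mul_comm 2 (2 ^ m), pow_mul]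
  rfl

theorem negF4 (hL : Enum [20, 22, 19, 17] S) (g : Γ) : g ∈ C.US S ∧ (g, g) ∈ C.graph (XF4 φ).ρ (XF4 φ).f ↔
    ∃ t u, g = wordG C.x (b2ClassWord (2 ^ m) f4ma f4mb f4mab f4maab t u) := by
  rw [(XF4 φ).fix_B2 C h1 hS (theta_theta hφ hK) hL (by dsimp only [XF4]; decide +kernel) (ε := 1)
    (by simp) (by decide +kernel) (by decide +kernel)]
  simp only [XF4, b2ClassWord, hφ, pow_succ _ (2 ^ m), mul_comm 2 (2 ^ m), pow_mul]
  rfl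

omit hS

theorem exF4 : (XF4 φ).Ex C := fun c => by
  have hn : ∀ c, goodF4.Nil (-1) {r | ¬ goodF4.Pos r ∧ goodF4.InJ {i | clF4 i = c} r} := fun c =>
    goodF4.nil_neg.subset (fun _ h => h.1) (goodF4.nil_neg.closed.inter (goodF4.closed_inJ _))
  fin_cases c
  · have := (twoF4 hφ hK C h1 (hn 0) (by simp) clsF4.1.2 _).2 ⟨1, rfl⟩
    exact ⟨_, this.1, this.2, C.word_ne_one (hn 0) clsF4.1.2 rfl (by simp [f4PairWord])⟩
  · have := (negF4 hφ hK C h1 (hn 1) clsF4.2.2 _).2 ⟨1, 0, rfl⟩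
    exact ⟨_, this.1, this.2, C.word_ne_one (hn 1) clsF4.2.2 rfl (by simp [b2ClassWord])⟩

/-- the twist -/
noncomputable def TF4 : Twist C (Fin 2) := (XF4 φ).tw C h1 (exF4 hφ hK C h1)

theorem G1F4 : Subgroup.closure {g | ∃ w ∈ f4Words K (2 ^ m), g = wordG C.x w} = (TF4 hφ hK C h1).G1 := by
  set T := TF4 hφ hK C h1
  have a0 := twoF4 hφ hK C h1 (T.nil_Sp 0) (by simp) clsF4.1.1
  have a1 := posF4 hφ hK C h1 (T.nil_Sp 1) clsF4.2.1
  have b0 := twoF4 hφ hK C h1 (T.nil_Sn 0) (by simp) clsF4.1.2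
  have b1 := negF4 hφ hK C h1 (T.nil_Sn 1) clsF4.2.2
  have hp : ∀ {c g}, g ∈ C.US (T.Sp c) ∧ g ∈ T.Fix → g ∈ T.Fix ∧ (g ∈ C.U ∨ g ∈ C.V) := fun h =>
    ⟨h.2, Or.inl (C.US_mono (fun _ h => h.1) h.1)⟩
  have hn : ∀ {c g}, g ∈ C.US (T.Sn c) ∧ g ∈ T.Fix → g ∈ T.Fix ∧ (g ∈ C.U ∨ g ∈ C.V) := fun h =>
    ⟨h.2, Or.inr (C.US_mono (fun _ h => h.1) h.1)⟩
  refine T.G1_eq_closure ?_ (fun c g h h' => ?_) fun c g h h' => ?_
  · rintro _ ⟨w, ⟨t, rfl | rfl⟩ | ⟨t, u, rfl | rfl⟩, rfl⟩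
    exacts [hp ((a0 _).2 ⟨t, rfl⟩), hn ((b0 _).2 ⟨t, rfl⟩), hp ((a1 _).2 ⟨t, u, rfl⟩), hn ((b1 _).2 ⟨t, u, rfl⟩)]
  · fin_cases c
    · obtain ⟨t, e⟩ := (a0 g).1 ⟨h, h'⟩; exact ⟨_, Or.inl ⟨t, Or.inl rfl⟩, e⟩
    · obtain ⟨t, u, e⟩ := (a1 g).1 ⟨h, h'⟩; exact ⟨_, Or.inr ⟨t, u, Or.inl rfl⟩, e⟩
  · fin_cases c
    · obtain ⟨t, e⟩ := (b0 g).1 ⟨h, h'⟩; exact ⟨_, Or.inl ⟨t, Or.inr rfl⟩, e⟩
    · obtain ⟨t, u, e⟩ := (b1 g).1 ⟨h, h'⟩; exact ⟨_, Or.inr ⟨t, u, Or.inr rfl⟩, e⟩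

theorem hqF4 {R : Type*} [CommSemiring R] {s : R} (hs : s ^ 2 = (2 ^ (2 * m + 1) : ℕ)) (c : Fin 2) :
    (Nat.card ↥(C.US ((TF4 hφ hK C h1).Sp c) ⊓ (TF4 hφ hK C h1).Fix) : R) = s ^ goodF4.N ((TF4 hφ hK C h1).s c) := by
  set T := TF4 hφ hK C h1
  rw [T.N_s' foldF4]
  fin_cases c
  · exact (congrArg _ ((C.card_of_param (T.nil_Sp 0) clsF4.1.1 (f4PairWord (2 ^ m) 33 24) (fun _ => rfl)
      (fun a b e => by simp [f4PairWord] at e; exact e.2) (twoF4 hφ hK C h1 (T.nil_Sp 0) (by simp) clsF4.1.1)).trans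
        (Nat.card_eq_fintype_card.trans hK))).trans hs.symm
  · refine (congrArg _ (C.card_of_param (T.nil_Sp 1) clsF4.2.1
      (fun p : K × K => b2ClassWord (2 ^ m) f4a f4b f4ab f4aab p.1 p.2) (fun _ => rfl) (fun a b e => ?_)
      fun g => (posF4 hφ hK C h1 (T.nil_Sp 1) clsF4.2.1 g).trans (by simp))).trans ?_
    · simp only [b2ClassWord, List.cons.injEq, Prod.mk.injEq, true_and] at e
      exact Prod.ext e.2.1 (by simpa [e.2.1] using e.2.2.1)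
    · rw [Nat.card_prod, Nat.card_eq_fintype_card, hK, Nat.cast_mul, ← hs, ← pow_add]; rfl

theorem hlcF4 (i : Fin chevF4.rank) : ∃ u ∈ C.U, u ∈ (TF4 hφ hK C h1).G1 ∧ C.lc i (goodF4.sm i) u ≠ 0 := by
  set T := TF4 hφ hK C h1
  have a0 := (twoF4 hφ hK C h1 (T.nil_Sp 0) (by simp) clsF4.1.1 _).2 ⟨1, rfl⟩
  have a1 := (posF4 hφ hK C h1 (T.nil_Sp 1) clsF4.2.1 _).2 ⟨1, 0, rfl⟩
  have h2 := mul_mem (T.mem_G1_of_Sp a0.1 a0.2) (T.mem_G1_of_Sp a1.1 a1.2)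
  have h3 : ∀ r : Fin chevF4.nroots, (r : ℕ) ∈ [33, 24, 27, 25, 28, 30] → goodF4.Pos r := by decide +kernel
  refine ⟨wordG C.x [(33, 1), (24, 1), (27, 1), (25, 1), (28, 1), (30, 0)], C.word_mem h3,
    by simpa [C.word_cons, C.wordG_nil, mul_assoc, f4PairWord, b2ClassWord, f4a, f4b, f4ab, f4aab] using h2, ?_⟩
  rw [C.lc_word i (by exact h3)]
  have : ∀ i : Fin chevF4.rank, chevF4.simple i ∈ [33, 24, 27, 25] := by decide +kernel
  have := this i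
  simp only [List.mem_cons, List.not_mem_nil, or_false] at this
  rcases this with e | e | e | e <;> simp [e]

/-- the maps on the fundamental parameters -/
noncomputable abbrev mF4 (φ : K →+* K) (i : Fin chevF4.rank) : K →+* K := (XF4 φ).m (mapF4.fe (chevF4.simple i))

theorem mem_CfF4 (d : Fin 4 → Kˣ) : d ∈ (TF4 hφ hK C h1).Cf (mF4 φ) ↔ d 0 = d 3 ^ 2 ^ m ∧ d 1 = d 2 ^ 2 ^ m := by
  have h2 : ∀ (i : Fin chevF4.rank) t, mF4 φ i t = φ t ^ mapF4.fe (chevF4.simple i) := fun i t => by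
    rw [mF4, ← goodF4.sm_val]; exact (XF4 φ).hm _ t
  refine (forall_congr' fun i => Eq.congr_right (h2 i _)).trans ?_
  simp only [← Units.val_inj, Units.val_pow_eq_pow_val, ← hφ]
  refine ⟨fun h => ⟨(h ⟨3, by decide⟩).trans (pow_one _), (h ⟨2, by decide⟩).trans (pow_one _)⟩, fun h (i : Fin 4) => ?_⟩
  fin_cases i
  exacts [(theta_theta hφ hK _).symm.trans (congrArg (φ · ^ 2) h.1.symm),
    (theta_theta hφ hK _).symm.trans (congrArg (φ · ^ 2) h.2.symm), h.2.trans (pow_one _).symm,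
    h.1.trans (pow_one _).symm]

omit h1

/-- the twist in the general linear group -/
noncomputable abbrev TF4g : Twist (goodF4.gl K) (Fin 2) := TF4 hφ hK _ (XF4 φ).fn_gl

theorem twistedF4_eq : twistedF4 K (2 ^ m) = (TF4g hφ hK).G1 := (goodF4.genSubgroup_eq K _).trans (G1F4 hφ hK _ _)

theorem τF4 {d : Fin chevF4.rank → Kˣ} (hd : d ∈ (TF4g hφ hK).Cf (mF4 φ)) : (goodF4.gl_R3 K).τ d ∈ (TF4g hφ hK).G1 := by
  have := (TF4g hφ hK).sq_mem_G1 Function.injective_id revF4 ((goodF4.gl_R3 K).τ_mem _)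
    ((TF4g hφ hK).τ_mem_Fix (goodF4.gl_R3 K) _ (XF4 φ).f_sm (pow_mem hd (2 ^ (2 * m))))
  rwa [← map_mul, ← sq, ← pow_mul, ← pow_succ, ← hK, show d ^ Fintype.card K = d from
    funext fun i => Units.ext (FiniteField.pow_card _)] at this

theorem H1F4 : (goodF4.gl K).HH ⊓ (TF4g hφ hK).G1 = ((TF4g hφ hK).Cf (mF4 φ)).map (goodF4.gl_R3 K).τ :=
  (TF4g hφ hK).H1_eq _ rfl rfl rfl (goodF4.gl_R3 K) (goodF4.τ_gl_injective K (pw_inj_F4 _)) _ (XF4 φ).f_sm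
    fun _ => τF4 hφ hK

theorem card_H1F4 : Nat.card ↥((goodF4.gl K).HH ⊓ (TF4g hφ hK).G1) = (2 ^ (2 * m + 1) - 1) ^ 2 := by
  have e : (TF4g hφ hK).Cf (mF4 φ) ≃ Kˣ × Kˣ :=
    { toFun := fun d => (d.1 ⟨3, by decide⟩, d.1 ⟨2, by decide⟩)
      invFun := fun x => ⟨![x.1 ^ 2 ^ m, x.2 ^ 2 ^ m, x.2, x.1], (mem_CfF4 hφ hK _ _ _).2 ⟨rfl, rfl⟩⟩
      left_inv := fun d => Subtype.ext (funext fun i : Fin 4 => by
        have h := (mem_CfF4 hφ hK _ _ d.1).1 d.2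
        fin_cases i
        exacts [h.1.symm, h.2.symm, rfl, rfl])
      right_inv := fun x => rfl }
  rw [H1F4, Subgroup.card_map_of_injective (goodF4.τ_gl_injective K (pw_inj_F4 _)), Nat.card_congr e]
  simp only [Nat.card_prod, Nat.card_units, Nat.card_eq_fintype_card (α := K), hK, sq]

theorem perfF4 (hm : 1 ≤ m) : commutator (TF4g hφ hK).G1 = ⊤ := by
  obtain ⟨a, ha⟩ := exists_pow_ne_one (K := K)
  have h2 : 2 ≤ 2 ^ m := Nat.le_self_pow (by omega) 2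
  have h3 : 4 * 2 ^ m ≤ Fintype.card K := by rw [hK, pow_succ, two_mul, pow_add]; nlinarith
  have h4 : ∀ x y : ℤ, (x, y) ∈ [(2, 0), (0, 2), (2, -1), (-2, 2), (0, 1)] → (a ^ 2 ^ m) ^ x * a ^ y ≠ 1 := by
    intro x y h
    rw [← zpow_natCast, ← zpow_mul, ← zpow_add]
    simp only [List.mem_cons, Prod.mk.injEq, List.not_mem_nil, or_false] at h
    generalize 2 ^ m = θ at h2 h3
    rcases h with h | h | h | h | h <;> obtain ⟨rfl, rfl⟩ := h <;> exact ha _ (by omega) (by omega)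
  refine (TF4g hφ hK).perfect_of fun c => ?_
  fin_cases c
  · refine (TF4g hφ hK).le_comm_of_fpf 0 ((goodF4.gl_R3 K).τ_mem _) (τF4 hφ hK ((mem_CfF4 hφ hK _ _
      ![a ^ 2 ^ m, 1, 1, a]).2 ⟨rfl, (one_pow _).symm⟩)) ((goodF4.gl_R3 K).π_τ _) fun r hr => ?_
    have h5 : ∀ r : Fin chevF4.nroots, (r : ℕ) ∈ [33, 24] → (chevF4.cartan 0 r, chevF4.cartan 3 r) ∈
      [(2, 0), (0, 2), (2, -1), (-2, 2), (0, 1)] := by decide +kernel
    refine ne_of_eq_of_ne ((goodF4.chr_pw' _ r).trans (Fin.prod_univ_four _)) ?_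
    change (a ^ 2 ^ m) ^ chevF4.cartan 0 r * 1 ^ chevF4.cartan 1 r * 1 ^ chevF4.cartan 2 r * a ^ chevF4.cartan 3 r ≠ 1
    simpa using h4 _ _ (h5 r ((clsF4.1.1.2.2 r).2 hr))
  · refine (TF4g hφ hK).le_comm_of_fpf 1 ((goodF4.gl_R3 K).τ_mem _) (τF4 hφ hK ((mem_CfF4 hφ hK _ _
      ![1, a ^ 2 ^ m, a, 1]).2 ⟨(one_pow _).symm, rfl⟩)) ((goodF4.gl_R3 K).π_τ _) fun r hr => ?_
    have h5 : ∀ r : Fin chevF4.nroots, (r : ℕ) ∈ [27, 25, 28, 30] → (chevF4.cartan 1 r, chevF4.cartan 2 r) ∈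
      [(2, 0), (0, 2), (2, -1), (-2, 2), (0, 1)] := by decide +kernel
    refine ne_of_eq_of_ne ((goodF4.chr_pw' _ r).trans (Fin.prod_univ_four _)) ?_
    change 1 ^ chevF4.cartan 0 r * (a ^ 2 ^ m) ^ chevF4.cartan 1 r * a ^ chevF4.cartan 2 r * 1 ^ chevF4.cartan 3 r ≠ 1
    simpa using h4 _ _ (h5 r ((clsF4.2.1.2.2 r).2 hr))

theorem card_U1F4 : Nat.card ↥((goodF4.gl K).U ⊓ (TF4g hφ hK).G1) = (2 ^ (2 * m + 1)) ^ 12 := by
  have hs : √(2 ^ (2 * m + 1) : ℕ) ^ 2 = _ := Real.sq_sqrt (Nat.cast_nonneg _)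
  have := (TF4g hφ hK).card_U1 _ (hqF4 hφ hK _ _ hs)
  rw [show chevF4.nroots / 2 = 2 * 12 from rfl, pow_mul, hs] at this
  exact_mod_cast this

theorem card_G1F4 : Nat.card (TF4g hφ hK).G1 = (2 ^ (2 * m + 1)) ^ 12 * (2 ^ (2 * m + 1) - 1) *
    ((2 ^ (2 * m + 1)) ^ 3 + 1) * ((2 ^ (2 * m + 1)) ^ 4 - 1) * ((2 ^ (2 * m + 1)) ^ 6 + 1) := by
  have hs : √(2 ^ (2 * m + 1) : ℕ) ^ 2 = _ := Real.sq_sqrt (Nat.cast_nonneg _)
  have h1 := (TF4g hφ hK).card_G1 _ (hqF4 hφ hK _ _ hs)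
  have h3 := twpoinF4 (TF4g hφ hK) rfl √(2 ^ (2 * m + 1) : ℕ)
  rw [card_H1F4] at h1
  have hq : 1 ≤ 2 ^ (2 * m + 1) := Nat.one_le_two_pow
  generalize TF4g hφ hK = T at h1 h3 ⊢
  generalize 2 ^ (2 * m + 1) = q at hs h1 h3 hq ⊢
  generalize √(q : ℝ) = s at hs h1 h3
  refine Nat.cast_injective (R := ℝ) ?_
  rw [h1, show chevF4.nroots / 2 = 24 from rfl]
  push_cast [hq, Nat.one_le_pow _ q hq, ← hs]
  linear_combination s ^ 24 * h3

theorem coreF4 : ((goodF4.gl K).B.subgroupOf (TF4g hφ hK).G1).normalCore = ⊥ :=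
  (TF4g hφ hK).core_eq_bot Function.injective_id (hlcF4 hφ hK _ _)

theorem simpleF4 (hm : 1 ≤ m) : IsSimpleGroup (TF4g hφ hK).G1 ∧ ¬ IsMulCommutative (TF4g hφ hK).G1 :=
  (TF4g hφ hK).simple (twirrF4 _ rfl) (perfF4 hφ hK hm) (coreF4 hφ hK)

theorem weylF4 : Nonempty ((TF4g hφ hK).W1 ≃* DihedralGroup 8) := by
  obtain ⟨cs, -⟩ := (TF4g hφ hK).exists_coxeter (CoxeterMatrix.I 6) fun i j => (twordF4 _ rfl i j).trans (by
    fin_cases i <;> fin_cases j <;> rfl)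
  exact exists_dihedral cs (twcardF4 _ rfl)

end CfsgH6
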