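import Cfsg.Agent.H6.TwistF
import Cfsg.Agent.H6.GoodB2

/-! The folded Weyl group for the twisted group of type B2. -/

set_option autoImplicit false

namespace CfsgH6

open Cfsg.Lie

set_option maxRecDepth 100000

/-- classes of nodes -/
def clB2 (i : Fin chevB2.rank) : Fin 1 := ([0, 0] : List (Fin 1)).getD i 0

/-- longest elements -/
def cdB2 (c : Fin 1) : List ℕ × List ℕ × ℕ := [([0, 1], [0, 1, 0, 1], 4)].getD c ([], [], 0)

theorem foldB2 : FoldOK goodB2 clB2 cdB2 := by decide +kernel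

/-- orbit table -/
def tworbB2x0 : Orb where
  l := 2
  cm := 0xa76a
  lam := 0x99
  cl := [([0, 1], [0, 1, 0, 1], 4)]
  O := [0x99, 0x477]

theorem twcmB2 : ∀ i j : Fin chevB2.rank, chevB2.cartan i (chevB2.simple j) = tworbB2x0.a i j := by
  decide +kernel

theorem twpoinB2x0 {F : Type*} [Field F] {Γ : Type*} [Group Γ] {C : Cover goodB2 F Γ} (T : Twist C (Fin 1)) (hT : T.cl = clB2)
    {R : Type*} [CommSemiring R] (q : R) :
    T.fold.poin q {c | c ∈ ([0] : List (Fin 1))} = (q ^ 0 + q ^ 4) *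
      T.fold.poin q {c | c ∈ ([] : List (Fin 1))} := by
  rw [T.poin_step (hT ▸ foldB2) tworbB2x0 rfl twcmB2 [] [0] (by decide +kernel) rfl (by decide +kernel)
    (by decide +kernel) (by decide +kernel) (by decide +kernel) q (L := [0, 4]) (by decide +kernel)]
  congr 1
  simp only [List.map_cons, List.map_nil, List.sum_cons, List.sum_nil]
  ring

theorem twpoinB2 {F : Type*} [Field F] {Γ : Type*} [Group Γ] {C : Cover goodB2 F Γ} (T : Twist C (Fin 1)) (hT : T.cl = clB2)
    {R : Type*} [CommRing R] (q : R) :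
    1 * T.fold.poin q Set.univ = q ^ 4 + 1 := by
  rw [show (Set.univ : Set (Fin 1)) = {c | c ∈ ([0] : List (Fin 1))} from (Set.eq_univ_of_forall (by decide)).symm,
    twpoinB2x0 T hT]
  simp only [List.not_mem_nil, Set.ofPred_false, Fold.poin_empty]
  ring

theorem twcardB2 {F : Type*} [Field F] {Γ : Type*} [Group Γ] {C : Cover goodB2 F Γ} (T : Twist C (Fin 1)) (hT : T.cl = clB2) :
    Nat.card T.W1 = 2 := by
  rw [T.card_W1, show (Set.univ : Set (Fin 1)) = {c | c ∈ ([0] : List (Fin 1))} from (Set.eq_univ_of_forall (by decide)).symm,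
    twpoinB2x0 T hT]
  simp only [List.not_mem_nil, Set.ofPred_false, Fold.poin_empty]
  rfl

/-- orders of products -/
def twmB2 (i j : Fin 1) : ℕ := ([[1]].getD i []).getD j 0

theorem twordB2 {F : Type*} [Field F] {Γ : Type*} [Group Γ] {C : Cover goodB2 F Γ} (T : Twist C (Fin 1)) (hT : T.cl = clB2) :
    ∀ i j, orderOf (T.s i * T.s j) = twmB2 i j :=
  T.order_s (hT ▸ foldB2) tworbB2x0 rfl twcmB2 _ (by decide +kernel)

theorem twirrB2 {F : Type*} [Field F] {Γ : Type*} [Group Γ] {C : Cover goodB2 F Γ} (T : Twist C (Fin 1)) (hT : T.cl = clB2) :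
    T.bn.Irreducible :=
  T.irreducible_of (twordB2 T hT) (by decide) Fin.val 0 (by decide)

end CfsgH6
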