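import Cfsg.Agent.H6.WtX

set_option autoImplicit false
set_option linter.unusedSectionVars false

/-! Lower bounds for cross characteristic representations of SL and Sp. -/

namespace CfsgH6.Wt
open Matrix Module

variable {F : Type*} [Field F] [Fintype F] {L : Type*} [Field L] {ψ : AddChar F L}
  {V : Type*} [AddCommGroup V] [Module L V]

theorem isW_conj {G : Type*} [Group G] {ι : Type*} [Fintype ι] (ρ : G →* End L V)
    (u : (ι → F) → G) (h : G) {b b' : ι → F} (f : (ι → F) → ι → F)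
    (hf : ∀ a, h * u a = u (f a) * h) (hb : ∀ a, b ⬝ᵥ f a = b' ⬝ᵥ a) {v : V}
    (hv : IsW ψ (fun a => ρ (u a)) b v) : IsW ψ (fun a => ρ (u a)) b' (ρ h⁻¹ v) := by
  refine ⟨fun e => hv.1 ?_, fun a => ?_⟩
  · have := congrArg (ρ h) e
    rwa [← End.mul_apply, ← map_mul, mul_inv_cancel, map_one, map_zero] at this
  · have e : u a * h⁻¹ = h⁻¹ * u (f a) := by
      rw [eq_inv_mul_iff_mul_eq, ← mul_assoc, hf, mul_inv_cancel_right]
    have := hv.2 (f a)
    simp only at this ⊢
    rw [← End.mul_apply, ← map_mul, e, map_mul, End.mul_apply, this, map_smul, hb]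

section SL
variable {m : ℕ}

/-- transvections -/
def tv {ι : Type*} [Fintype ι] [DecidableEq ι] (x y : ι → F) (h : y ⬝ᵥ x = 0) :
    SpecialLinearGroup ι F := ⟨1 + vecMulVec x y, by rw [det_one_add, h, add_zero]⟩

theorem tv_val {ι : Type*} [Fintype ι] [DecidableEq ι] (x y : ι → F) (h : y ⬝ᵥ x = 0) :
    (tv x y h : Matrix ι ι F) = 1 + vecMulVec x y := rfl

/-- the abelian unipotent radical in `SL` -/
def uL (a : Fin m → F) : SpecialLinearGroup (Fin (m + 1)) F :=
  tv (Fin.cons 0 a) (Pi.single 0 1) (by simp)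

/-- Levi transvections -/
def hL (x y : Fin m → F) (h : y ⬝ᵥ x = 0) : SpecialLinearGroup (Fin (m + 1)) F :=
  tv (Fin.cons 0 x) (Fin.cons 0 y) (by simpa [dotProduct, Fin.sum_univ_succ] using h)

theorem cons_dot (x y : Fin m → F) :
    (Fin.cons 0 x : Fin (m + 1) → F) ⬝ᵥ Fin.cons 0 y = x ⬝ᵥ y := by
  simp [dotProduct, Fin.sum_univ_succ]

theorem cons_add' (x y : Fin m → F) (t : F) :
    (Fin.cons 0 (x + t • y) : Fin (m + 1) → F) = Fin.cons 0 x + t • Fin.cons 0 y := by
  ext i; refine Fin.cases ?_ (fun j => ?_) i <;> simp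

theorem uL_zero : uL (0 : Fin m → F) = 1 := by
  apply Subtype.ext
  have : (Fin.cons 0 0 : Fin (m + 1) → F) = 0 := by
    ext i; refine Fin.cases ?_ (fun j => ?_) i <;> simp
  simp [uL, tv, this]

theorem uL_add (a b : Fin m → F) : uL (a + b) = uL a * uL b := by
  apply Subtype.ext
  change _ = (uL a).1 * (uL b).1
  have := cons_add' a b 1
  simp only [one_smul] at this
  simp only [uL, tv, this, add_mul, mul_add, one_mul, mul_one,
    vecMulVec_mul_vecMulVec, add_vecMulVec]
  simp; abel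

theorem hL_uL (x y : Fin m → F) (h : y ⬝ᵥ x = 0) (a : Fin m → F) :
    hL x y h * uL a = uL (a + (y ⬝ᵥ a) • x) * hL x y h := by
  apply Subtype.ext
  change (hL x y h).1 * (uL a).1 = (uL _).1 * (hL x y h).1
  simp only [uL, hL, tv, cons_add', add_mul, mul_add, one_mul, mul_one,
    vecMulVec_mul_vecMulVec, add_vecMulVec, cons_dot, smul_vecMulVec]
  simp [vecMulVec_mul_vecMulVec]; abel

theorem SL_bound (hψ : ψ.IsPrimitive) (hc : (Fintype.card F : L) ≠ 0) [FiniteDimensional L V]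
    (hm : 2 ≤ m) (ρ : SpecialLinearGroup (Fin (m + 1)) F →* End L V) {a : Fin m → F}
    (ha : ρ (uL a) ≠ 1) : Fintype.card F ^ m - 1 ≤ finrank L V := by
  classical
  obtain ⟨v, hv⟩ : ∃ v, ρ (uL a) v ≠ v := by
    by_contra! h; exact ha (LinearMap.ext h)
  obtain ⟨b, hb, w, -, hw⟩ := exists_w hψ hc (fun a => ρ (uL a)) (by simp [uL_zero])
    (fun a b => by simp [uL_add]) ⊤ (by simp) (Submodule.mem_top) hv
  have step : ∀ b c : Fin m → F, b ≠ 0 → (∀ t : F, c ≠ t • b) →
      (∃ w, IsW ψ (fun a => ρ (uL a)) b w) → ∃ w, IsW ψ (fun a => ρ (uL a)) c w := by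
    rintro b c hb hc ⟨w, hw⟩
    obtain ⟨x, h1, h2⟩ := exists_dot_both hb hc
    exact ⟨_, isW_conj ρ uL (hL x (c - b) (by simp [sub_dotProduct, h1, h2])) _
      (hL_uL _ _ _) (fun a => by simp [dotProduct_add, h1, sub_dotProduct]) hw⟩
  have hall : ∀ c : Fin m → F, c ≠ 0 → ∃ w, IsW ψ (fun a => ρ (uL a)) c w := by
    intro c hc0
    by_cases h : ∀ t : F, c ≠ t • b
    · exact step b c hb h ⟨w, hw⟩
    push Not at h
    obtain ⟨t, rfl⟩ := h
    obtain ⟨d, hd⟩ : ∃ d : Fin m → F, ∀ s : F, d ≠ s • b := by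
      by_contra! h
      obtain ⟨s, hs⟩ := h (Pi.single ⟨0, by omega⟩ 1)
      obtain ⟨r, hr⟩ := h (Pi.single ⟨1, by omega⟩ 1)
      have h1 := congrFun hs ⟨0, by omega⟩
      have h2 := congrFun hs ⟨1, by omega⟩
      have h3 := congrFun hr ⟨1, by omega⟩
      simp [Pi.single_apply] at h1 h2 h3
      rcases h2 with h2 | h2
      · simp [h2] at h1
      · simp [h2] at h3
    have hd0 : d ≠ 0 := by simpa using hd 0
    refine step d _ hd0 (fun s e => ?_) (step b d hb hd ⟨w, hw⟩)
    have hs : s ≠ 0 := by rintro rfl; simp only [zero_smul] at e; exact hc0 e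
    apply hd (s⁻¹ * t)
    rw [mul_smul, e, smul_smul, inv_mul_cancel₀ hs, one_smul]
  have := card_le hψ (fun a => ρ (uL a)) ⊤ (Finset.univ.erase 0) fun c hc => by
    obtain ⟨w, hw⟩ := hall c (Finset.ne_of_mem_erase hc)
    exact ⟨w, trivial, hw⟩
  simpa using this

end SL

section Sp
variable {n : Type*} [Fintype n] [DecidableEq n]

/-- matrix of a function on pairs -/
def mat (a : n × n → F) : Matrix n n F := Matrix.of fun i j => a (i, j)

/-- function on pairs of a matrix -/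
def vec' (M : Matrix n n F) : n × n → F := fun x => M x.1 x.2

@[simp] theorem mat_vec (M : Matrix n n F) : mat (vec' M) = M := rfl
@[simp] theorem vec_mat (a : n × n → F) : vec' (mat a) = a := rfl

theorem dot_eq (b a : n × n → F) : b ⬝ᵥ a = trace ((mat b)ᵀ * mat a) := by
  simp only [dotProduct, trace, diag, mul_apply, mat, transpose_apply, of_apply]
  rw [Fintype.sum_prod_type, Finset.sum_comm]

/-- the Siegel unipotent radical -/
def uS (a : n × n → F) : symplecticGroup n F :=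
  ⟨fromBlocks 1 (mat a + (mat a)ᵀ) 0 1, by
    rw [SymplecticGroup.mem_iff]
    simp [J, fromBlocks_transpose, fromBlocks_multiply, add_comm]; abel⟩

/-- the Siegel Levi -/
def hS (g : GL n F) : symplecticGroup n F :=
  ⟨fromBlocks (g : Matrix n n F) 0 0 ((g⁻¹ : GL n F) : Matrix n n F)ᵀ, by
    rw [SymplecticGroup.mem_iff]
    simp [J, fromBlocks_transpose, fromBlocks_multiply, ← transpose_mul]⟩

theorem uS_zero : uS (0 : n × n → F) = 1 := by
  apply Subtype.ext
  have : mat (0 : n × n → F) = 0 := rfl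
  simp [uS, this]

theorem uS_add (a b : n × n → F) : uS (a + b) = uS a * uS b := by
  apply Subtype.ext
  have : mat (a + b) = mat a + mat b := rfl
  simp only [uS, this, Submonoid.coe_mul, fromBlocks_multiply, transpose_add]
  simp; abel

theorem uS_tr (a : n × n → F) : uS (vec' (mat a)ᵀ) = uS a := by
  apply Subtype.ext
  simp [uS, add_comm]

theorem hS_uS (g : GL n F) (a : n × n → F) :
    hS g * uS a = uS (vec' ((g : Matrix n n F) * mat a * (g : Matrix n n F)ᵀ)) * hS g := by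
  apply Subtype.ext
  have h : (g : Matrix n n F)ᵀ * ((g⁻¹ : GL n F) : Matrix n n F)ᵀ = 1 := by
    rw [← transpose_mul, ← Units.val_mul, inv_mul_cancel, Units.val_one, transpose_one]
  simp only [uS, hS, Submonoid.coe_mul, fromBlocks_multiply, mat_vec, transpose_mul,
    transpose_transpose, add_mul, mul_add, Matrix.mul_assoc, h]
  simp

theorem Sp_wts (hψ : ψ.IsPrimitive) (hc : (Fintype.card F : L) ≠ 0) (h2 : (2 : F) ≠ 0)
    (ρ : symplecticGroup n F →* End L V) (p : Submodule L V) (hp : ∀ g, ∀ v ∈ p, ρ g v ∈ p)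
    {a : n × n → F} {v : V} (hv : v ∈ p) (ha : ρ (uS a) v ≠ v) :
    ∃ S : Finset (n × n → F), 0 ∉ S ∧ (∀ b ∈ S, ∃ v ∈ p, IsW ψ (fun a => ρ (uS a)) b v) ∧
      Fintype.card F ^ Fintype.card n - 1 ≤ 2 * S.card := by
  classical
  let S : Finset (n × n → F) :=
    Finset.univ.filter fun b => b ≠ 0 ∧ ∃ v ∈ p, IsW ψ (fun a => ρ (uS a)) b v
  refine ⟨S, by simp [S], fun b hb => (Finset.mem_filter.1 hb).2.2, ?_⟩
  have hinj : Function.Injective (mat : (n × n → F) → _) := fun x y e => by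
    rw [← vec_mat x, e, vec_mat]
  rw [← Finset.card_image_of_injective S hinj, ← Fintype.card_fun]
  refine orbit_ge h2 _ ?_ ?_ ?_
  · intro B hB
    obtain ⟨b, hb, rfl⟩ := Finset.mem_image.1 hB
    obtain ⟨hb0, w, -, hw⟩ := (Finset.mem_filter.1 hb).2
    refine ⟨?_, fun e => hb0 (hinj e)⟩
    have : vec' (mat b)ᵀ = b := eq_of_psi hψ fun a => by
      have h1 := hw.2 a
      have h3 := hw.2 (vec' (mat a)ᵀ)
      simp only [uS_tr] at h1 h3
      rw [h1] at h3
      rw [smul_left_injective L hw.1 h3, dot_eq, dot_eq, mat_vec, mat_vec, transpose_transpose,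
        ← transpose_mul, trace_transpose, trace_mul_comm]
    exact congrArg mat this
  · intro B hB g
    obtain ⟨b, hb, rfl⟩ := Finset.mem_image.1 hB
    obtain ⟨hb0, w, hwp, hw⟩ := (Finset.mem_filter.1 hb).2
    refine Finset.mem_image.2 ⟨vec' _, Finset.mem_filter.2 ⟨Finset.mem_univ _, fun e => hb0 ?_,
      _, hp _ _ hwp, isW_conj ρ uS (hS g) _ (hS_uS g) (fun a => ?_) hw⟩, mat_vec _⟩
    · have h1 : (g : Matrix n n F)ᵀ * mat b * (g : Matrix n n F) = 0 := congrArg mat e
      have h3 : ((g⁻¹ : GL n F) : Matrix n n F)ᵀ * ((g : Matrix n n F)ᵀ * mat b * (g : Matrix n n F)) *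
          ((g⁻¹ : GL n F) : Matrix n n F) = mat b := by
        rw [Matrix.mul_assoc, Matrix.mul_assoc, ← Units.val_mul, mul_inv_cancel, Units.val_one,
          Matrix.mul_one, ← Matrix.mul_assoc, ← transpose_mul, ← Units.val_mul, mul_inv_cancel,
          Units.val_one, transpose_one, Matrix.one_mul]
      rw [h1] at h3
      exact hinj (by rw [← h3]; simp; rfl)
    · rw [dot_eq, dot_eq, mat_vec, mat_vec, transpose_mul, transpose_mul, transpose_transpose,
        ← Matrix.mul_assoc, trace_mul_comm]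
      simp only [Matrix.mul_assoc]
  · obtain ⟨b, hb, hw⟩ := exists_w hψ hc (fun a => ρ (uS a)) (by simp [uS_zero])
      (fun a b => by simp [uS_add]) p (fun a => hp _) hv ha
    exact ⟨_, Finset.mem_image.2 ⟨b, Finset.mem_filter.2 ⟨Finset.mem_univ _, hb, hw⟩, rfl⟩⟩

theorem Sp_bound (hψ : ψ.IsPrimitive) (hc : (Fintype.card F : L) ≠ 0) (h2 : (2 : F) ≠ 0)
    [FiniteDimensional L V] (ρ : symplecticGroup n F →* End L V) {a : n × n → F}
    (ha : ρ (uS a) ≠ 1) : Fintype.card F ^ Fintype.card n - 1 ≤ 2 * finrank L V := by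
  obtain ⟨v, hv⟩ : ∃ v, ρ (uS a) v ≠ v := by
    by_contra! h; exact ha (LinearMap.ext h)
  obtain ⟨S, -, h1, h3⟩ := Sp_wts hψ hc h2 ρ ⊤ (by simp) Submodule.mem_top hv
  have := card_le hψ _ ⊤ S h1
  rw [finrank_top] at this
  omega

theorem Sp_irr (hψ : ψ.IsPrimitive) (hc : (Fintype.card F : L) ≠ 0) (h2 : (2 : F) ≠ 0)
    [FiniteDimensional L V] (ρ : Representation L (symplecticGroup n F) V) {a : n × n → F}
    (ha : ρ (uS a) ≠ 1) (hd : 2 * finrank L V ≤ Fintype.card F ^ Fintype.card n - 1) :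
    ρ.IsIrreducible := by
  classical
  obtain ⟨v, hv⟩ : ∃ v, ρ (uS a) v ≠ v := by
    by_contra! h; exact ha (LinearMap.ext h)
  have hv0 : v ≠ 0 := by rintro rfl; simp at hv
  have : Nontrivial (Subrepresentation ρ) := ⟨⊥, ⊤, fun e => hv0 (by
    have h1 : v ∈ (⊤ : Subrepresentation ρ).toSubmodule := trivial
    rw [← e] at h1
    exact h1)⟩
  refine ⟨fun W => ?_⟩
  by_cases h : ∃ a, ∃ w ∈ W.toSubmodule, ρ (uS a) w ≠ w
  · right
    obtain ⟨a, w, hw, hw'⟩ := h
    obtain ⟨S, -, h1, h3⟩ := Sp_wts hψ hc h2 ρ W.toSubmodule (fun g v hv => W.apply_mem_toSubmodule g hv) hw hw'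
    have h4 := card_le hψ _ _ S h1
    apply Subrepresentation.toSubmodule_injective
    exact Submodule.eq_top_of_finrank_eq (le_antisymm (Submodule.finrank_le _) (by omega))
  · left
    push Not at h
    apply Subrepresentation.toSubmodule_injective
    change W.toSubmodule = ⊥
    rw [eq_bot_iff]
    intro w hw
    by_contra hw0
    obtain ⟨S, h0, h1, h3⟩ := Sp_wts hψ hc h2 ρ ⊤ (by simp) Submodule.mem_top hv
    have := card_le hψ (fun a => ρ (uS a)) ⊤ (insert 0 S) fun b hb => by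
      rcases Finset.mem_insert.1 hb with rfl | hb
      · exact ⟨w, trivial, hw0, fun a => by simpa using h a w hw⟩
      · exact h1 b hb
    rw [finrank_top, Finset.card_insert_of_notMem h0] at this
    omega

end Sp

end CfsgH6.Wt
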