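import Cfsg.Agent.H6.Wt2

set_option autoImplicit false
set_option linter.unusedSectionVars false

/-! Base change for the cross characteristic bounds. -/

namespace CfsgH6.Wt
open Matrix Module

theorem exists_baseChange {G : Type*} [Group G] {K : Type*} [Field K] (L : Type*) [Field L]
    [Algebra K L] {d : ℕ} (ρ : G →* GL (Fin d) K) :
    ∃ ρ' : G →* End L (Fin d → L), ∀ g, ρ' g = 1 → ρ g = 1 := by
  refine ⟨(Matrix.toLinAlgEquiv' (R := L) (n := Fin d)).toMonoidHom.comp
    (((algebraMap K L).mapMatrix (m := Fin d)).toMonoidHom.comp ((Units.coeHom _).comp ρ)), ?_⟩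
  intro g hg
  have h1 : (algebraMap K L).mapMatrix ((ρ g : GL (Fin d) K) : Matrix (Fin d) (Fin d) K) = 1 :=
    (Matrix.toLinAlgEquiv' (R := L) (n := Fin d)).injective (by rw [map_one]; exact hg)
  apply Units.ext
  ext i j
  apply (algebraMap K L).injective
  have := congrFun (congrFun h1 i) j
  simp only [RingHom.mapMatrix_apply, map_apply] at this
  rw [this]
  by_cases h : i = j <;> simp [one_apply, h]

theorem card_ne_zero {F : Type*} [Field F] [Fintype F] {K : Type*} [Field K]
    (hK : ringChar K ≠ ringChar F) (L : Type*) [Field L] [Algebra K L] :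
    (Fintype.card F : L) ≠ 0 := by
  obtain ⟨n, hp, hn⟩ := FiniteField.card F (ringChar F)
  rw [hn, ← map_natCast (algebraMap K L), map_ne_zero]
  push_cast
  refine pow_ne_zero _ fun h => ?_
  rw [ringChar.spec] at h
  rcases (Nat.dvd_prime hp).1 h with h1 | h1
  · exact CharP.ringChar_ne_one h1
  · exact hK h1

theorem two_ne {F : Type*} [Field F] [Fintype F] (h : Odd (Fintype.card F)) : (2 : F) ≠ 0 := by
  apply Ring.two_ne_zero
  intro h2
  have := FiniteField.even_card_of_char_two h2
  rw [Nat.odd_iff] at h
  omega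

theorem uS_not_central {F : Type*} [Field F] [Fintype F] (h2 : (2 : F) ≠ 0) {n : Type*} [Fintype n]
    [DecidableEq n] (i : n) :
    uS (Pi.single (i, i) (1 : F)) ∉ Subgroup.center (symplecticGroup n F) := by
  intro h
  have h1 := congrArg Subtype.val (Subgroup.mem_center_iff.1 h ⟨J n F, SymplecticGroup.J_mem n F⟩)
  simp only [Submonoid.coe_mul, uS, J, fromBlocks_multiply] at h1
  have := congrFun (congrFun h1 (Sum.inl i)) (Sum.inl i)
  simp [mat] at this
  apply h2
  linear_combination -this

end CfsgH6.Wt
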