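import Mathlib

set_option autoImplicit false
set_option linter.unusedSectionVars false

/-! Weights of an elementary abelian subgroup in cross characteristic. -/

namespace CfsgH6.Wt
open Matrix Module

section General
variable {F : Type*} [Field F] [Fintype F] {L : Type*} [Field L] {ι : Type*} [Fintype ι]
  [DecidableEq ι] {ψ : AddChar F L}

theorem exists_psi_ne (hψ : ψ.IsPrimitive) {a : ι → F} (ha : a ≠ 0) : ∃ b : ι → F, ψ (b ⬝ᵥ a) ≠ 1 := by
  obtain ⟨i, hi⟩ := Function.ne_iff.1 ha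
  have h1 := hψ hi
  by_contra! h
  apply h1
  ext x
  have := h (Pi.single i x)
  simpa [AddChar.mulShift_apply, single_dotProduct, mul_comm] using this

theorem sum_psi (hψ : ψ.IsPrimitive) {a : ι → F} (ha : a ≠ 0) : ∑ b : ι → F, ψ (b ⬝ᵥ a) = 0 := by
  obtain ⟨c, hc⟩ := exists_psi_ne hψ ha
  have h : ∑ b : ι → F, ψ (b ⬝ᵥ a) = ψ (c ⬝ᵥ a) * ∑ b : ι → F, ψ (b ⬝ᵥ a) := by
    rw [Finset.mul_sum, ← Equiv.sum_comp (Equiv.addLeft c)]
    refine Finset.sum_congr rfl fun b _ => ?_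
    simp [add_dotProduct, AddChar.map_add_eq_mul]
  have h2 : (ψ (c ⬝ᵥ a) - 1) * ∑ b : ι → F, ψ (b ⬝ᵥ a) = 0 := by linear_combination -h
  exact (mul_eq_zero.1 h2).resolve_left (sub_ne_zero.2 hc)

theorem eq_of_psi (hψ : ψ.IsPrimitive) {b c : ι → F} (h : ∀ a, ψ (b ⬝ᵥ a) = ψ (c ⬝ᵥ a)) : b = c := by
  by_contra hne
  obtain ⟨a, ha⟩ := exists_psi_ne hψ (sub_ne_zero.2 hne)
  apply ha
  have h0 : ψ (c ⬝ᵥ a) ≠ 0 := by
    intro e
    have := ψ.map_add_eq_mul (c ⬝ᵥ a) (-(c ⬝ᵥ a))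
    simp [e] at this
  have h1 := ψ.map_add_eq_mul (a ⬝ᵥ (b - c)) (c ⬝ᵥ a)
  rw [dotProduct_sub, dotProduct_comm a c, sub_add_cancel, dotProduct_comm a b, h a] at h1
  rw [dotProduct_sub, dotProduct_comm a c, dotProduct_comm a b]
  exact mul_right_cancel₀ h0 (by rw [← h1, one_mul])

variable {V : Type*} [AddCommGroup V] [Module L V]

/-- `v` is a weight vector of weight `b` -/
def IsW (ψ : AddChar F L) (T : (ι → F) → End L V) (b : ι → F) (v : V) : Prop :=
  v ≠ 0 ∧ ∀ a, T a v = ψ (b ⬝ᵥ a) • v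

/-- the character of `b` -/
def chr (ψ : AddChar F L) (b : ι → F) : Multiplicative (ι → F) →* L where
  toFun a := ψ (b ⬝ᵥ a.toAdd)
  map_one' := by simp
  map_mul' x y := by simp [dotProduct_add, AddChar.map_add_eq_mul]

theorem card_le (hψ : ψ.IsPrimitive) [FiniteDimensional L V] (T : (ι → F) → End L V)
    (p : Submodule L V) (S : Finset (ι → F)) (hS : ∀ b ∈ S, ∃ v ∈ p, IsW ψ T b v) :
    S.card ≤ finrank L p := by
  choose! v hv hw using hS
  have hli : LinearIndependent L (fun b : S => (⟨v b, hv b b.2⟩ : p)) := by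
    apply LinearIndependent.of_comp p.subtype
    rw [Fintype.linearIndependent_iff]
    intro c hc b
    have hinj : Function.Injective (fun b : S => chr ψ (b : ι → F)) := fun x y e =>
      Subtype.ext (eq_of_psi hψ fun a => by
        simpa [chr] using DFunLike.congr_fun e (Multiplicative.ofAdd a))
    have hl := (linearIndependent_monoidHom (Multiplicative (ι → F)) L).comp _ hinj
    rw [Fintype.linearIndependent_iff] at hl
    obtain ⟨f, hf⟩ := Module.Projective.exists_dual_eq_one L (hw b b.2).1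
    have := hl (fun x => c x * f (v x)) (by
      ext a
      have h1 := congrArg (fun z => f (T a.toAdd z)) hc
      simp only [Function.comp, Submodule.subtype_apply, map_sum, map_smul, map_zero] at h1
      simp only [Function.comp, Finset.sum_apply, Pi.smul_apply, smul_eq_mul, Pi.zero_apply]
      rw [← h1]
      refine Finset.sum_congr rfl fun x _ => ?_
      rw [(hw x x.2).2, map_smul]
      simp [chr]; ring) b
    simpa [hf] using this
  simpa using hli.fintype_card_le_finrank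

theorem exists_w (hψ : ψ.IsPrimitive) (hc : (Fintype.card F : L) ≠ 0) (T : (ι → F) → End L V)
    (h0 : T 0 = 1) (hT : ∀ a b, T (a + b) = T a * T b) (p : Submodule L V)
    (hp : ∀ a, ∀ v ∈ p, T a v ∈ p) {a : ι → F} {v : V} (hv : v ∈ p) (ha : T a v ≠ v) :
    ∃ b, b ≠ 0 ∧ ∃ w ∈ p, IsW ψ T b w := by
  classical
  set e : (ι → F) → V := fun b => ∑ x : ι → F, ψ (-(b ⬝ᵥ x)) • T x v with he
  have hep : ∀ b, e b ∈ p := fun b => p.sum_mem fun x _ => p.smul_mem _ (hp x v hv)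
  have hew : ∀ b y, T y (e b) = ψ (b ⬝ᵥ y) • e b := by
    intro b y
    simp only [he, map_sum, map_smul, Finset.smul_sum]
    rw [← Equiv.sum_comp (Equiv.addLeft y) (fun x => ψ (b ⬝ᵥ y) • ψ (-(b ⬝ᵥ x)) • T x v)]
    refine Finset.sum_congr rfl fun x _ => ?_
    simp only [Equiv.coe_addLeft, hT, smul_smul, ← AddChar.map_add_eq_mul, dotProduct_add,
      End.mul_apply]
    congr 2; ring
  have hsum : ∑ b, e b = (Fintype.card (ι → F) : L) • v := by
    simp only [he]
    rw [Finset.sum_comm]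
    simp only [← Finset.sum_smul]
    rw [Finset.sum_eq_single 0]
    · simp [h0]
    · intro x _ hx
      have := sum_psi hψ (neg_ne_zero.2 hx)
      simp only [dotProduct_neg] at this
      rw [this, zero_smul]
    · simp
  by_contra! hno
  have hz : ∀ b, b ≠ 0 → e b = 0 := fun b hb => by
    by_contra hne
    exact hno b hb (e b) (hep b) ⟨hne, hew b⟩
  rw [Finset.sum_eq_single 0 (fun b _ hb => hz b hb) (by simp)] at hsum
  have h2 := hew 0 a
  rw [hsum, map_smul, zero_dotProduct, AddChar.map_zero_eq_one, one_smul] at h2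
  have hc' : (Fintype.card (ι → F) : L) ≠ 0 := by
    rw [Fintype.card_fun]; push_cast; exact pow_ne_zero _ hc
  exact ha (smul_right_injective V hc' h2)

end General

section Lin
variable {F : Type*} [Field F] {ι : Type*} [Fintype ι] [DecidableEq ι]

theorem exists_dot_one {v : ι → F} (hv : v ≠ 0) : ∃ y, y ⬝ᵥ v = 1 := by
  obtain ⟨i, hi⟩ := Function.ne_iff.1 hv
  exact ⟨Pi.single i (v i)⁻¹, by rw [single_dotProduct]; exact inv_mul_cancel₀ hi⟩

theorem det_one_add (x y : ι → F) : (1 + vecMulVec x y).det = 1 + y ⬝ᵥ x := by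
  rw [vecMulVec_eq Unit, det_one_add_replicateCol_mul_replicateRow]

theorem exists_dot_both {b c : ι → F} (hb : b ≠ 0) (hc : ∀ t : F, c ≠ t • b) :
    ∃ x, b ⬝ᵥ x = 1 ∧ c ⬝ᵥ x = 1 := by
  obtain ⟨x, hx⟩ := exists_dot_one hb
  rw [dotProduct_comm] at hx
  obtain ⟨z, hz, hz'⟩ : ∃ z, b ⬝ᵥ z = 0 ∧ c ⬝ᵥ z ≠ 0 := by
    by_contra! h
    apply hc (c ⬝ᵥ x)
    ext i
    have := h (Pi.single i 1 - b i • x) (by simp [dotProduct_sub, hx])
    simp only [dotProduct_sub, dotProduct_single, mul_one, dotProduct_smul, smul_eq_mul] at this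
    simp only [Pi.smul_apply, smul_eq_mul]
    linear_combination this
  refine ⟨x + ((1 - c ⬝ᵥ x) / (c ⬝ᵥ z)) • z, by simp [dotProduct_add, hx, hz], ?_⟩
  simp only [dotProduct_add, dotProduct_smul, smul_eq_mul]
  field_simp
  ring

theorem exists_GL_pair {v l v0 l0 : ι → F} (h0 : v0 ⬝ᵥ l0 ≠ 0) (h : v ⬝ᵥ l = v0 ⬝ᵥ l0) :
    ∃ g : GL ι F, (g : Matrix ι ι F) *ᵥ v = v0 ∧ (g : Matrix ι ι F)ᵀ *ᵥ l0 = l := by
  have hv : v ≠ 0 := by rintro rfl; simp [← h] at h0
  have hv0 : v0 ≠ 0 := by rintro rfl; simp at h0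
  obtain ⟨y, hy, hy'⟩ : ∃ y, y ⬝ᵥ v = 1 ∧ y ⬝ᵥ v0 ≠ 0 := by
    obtain ⟨y1, h1⟩ := exists_dot_one hv
    obtain ⟨y2, h2⟩ := exists_dot_one hv0
    by_cases h3 : y1 ⬝ᵥ v0 = 0
    · by_cases h4 : y2 ⬝ᵥ v = 0
      · exact ⟨y1 + y2, by simp [add_dotProduct, h1, h4], by simp [add_dotProduct, h2, h3]⟩
      · exact ⟨(y2 ⬝ᵥ v)⁻¹ • y2, by simp [h4], by simp [h4, h2]⟩
    · exact ⟨y1, h1, h3⟩
  let g1 : GL ι F := GeneralLinearGroup.mkOfDetNeZero (1 + vecMulVec (v0 - v) y) (by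
    rw [det_one_add, dotProduct_sub, hy]; simpa using hy')
  have hg1 : (g1 : Matrix ι ι F) *ᵥ v = v0 := by
    change (1 + vecMulVec (v0 - v) y) *ᵥ v = v0
    simp [add_mulVec, vecMulVec_mulVec, hy]
  set z : ι → F := (v0 ⬝ᵥ l0)⁻¹ • (((g1⁻¹ : GL ι F) : Matrix ι ι F)ᵀ *ᵥ l - l0) with hz
  have hg1' : ((g1⁻¹ : GL ι F) : Matrix ι ι F) *ᵥ v0 = v := by
    rw [← hg1, mulVec_mulVec, ← Units.val_mul, inv_mul_cancel, Units.val_one, one_mulVec]
  have hzv : z ⬝ᵥ v0 = 0 := by
    rw [hz, smul_dotProduct, sub_dotProduct, mulVec_transpose, ← dotProduct_mulVec, hg1',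
      dotProduct_comm l, h, dotProduct_comm l0, sub_self, smul_zero]
  let g2 : GL ι F := GeneralLinearGroup.mkOfDetNeZero (1 + vecMulVec v0 z) (by
    rw [det_one_add, hzv]; simp)
  have hg2 : (g2 : Matrix ι ι F) = 1 + vecMulVec v0 z := rfl
  refine ⟨g2 * g1, ?_, ?_⟩
  · rw [Units.val_mul, ← mulVec_mulVec, hg1, hg2]
    simp [add_mulVec, vecMulVec_mulVec, hzv]
  · rw [Units.val_mul, transpose_mul, ← mulVec_mulVec, hg2, transpose_add, transpose_one,
      transpose_vecMulVec, add_mulVec, one_mulVec, vecMulVec_mulVec, hz]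
    simp only [MulOpposite.smul_eq_mul_unop, op_smul_eq_smul, smul_smul, mul_inv_cancel₀ h0,
      one_smul, add_sub_cancel]
    rw [mulVec_mulVec, ← transpose_mul, ← Units.val_mul, inv_mul_cancel, Units.val_one,
      transpose_one, one_mulVec]

variable [Fintype F] [DecidableEq F]

theorem card_lin {v : ι → F} (hv : v ≠ 0) (c : F) :
    (Finset.univ.filter fun l : ι → F => v ⬝ᵥ l = c).card * Fintype.card F =
      Fintype.card (ι → F) := by
  obtain ⟨y, hy⟩ := exists_dot_one hv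
  rw [dotProduct_comm] at hy
  rw [← Finset.card_univ, ← Finset.card_product, ← Finset.card_univ]
  refine Finset.card_bij' (fun x _ => x.1 + x.2 • y)
    (fun w _ => (w - (v ⬝ᵥ w - c) • y, v ⬝ᵥ w - c)) (by simp) ?_ ?_ ?_
  · intro w _
    simp [dotProduct_sub, hy]
  · rintro ⟨l, t⟩ h
    simp only [Finset.mem_product, Finset.mem_filter, Finset.mem_univ, true_and, and_true] at h
    simp [dotProduct_add, hy, h]
  · simp

theorem card_quad (B : Matrix ι ι F) {u : ι → F} (hu : u ⬝ᵥ B *ᵥ u ≠ 0) (c : F) :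
    (Finset.univ.filter fun v : ι → F => v ⬝ᵥ B *ᵥ v = c).card * Fintype.card F ≤
      2 * Fintype.card (ι → F) := by
  rw [← Finset.card_univ, ← Finset.card_product, ← Finset.card_univ]
  refine Finset.card_le_mul_card_image_of_maps_to (f := fun x => x.1 + x.2 • u) (by simp) 2 ?_
  intro w _
  let P : Polynomial F := Polynomial.C (u ⬝ᵥ B *ᵥ u) * Polynomial.X ^ 2 +
    Polynomial.C (-(u ⬝ᵥ B *ᵥ w + w ⬝ᵥ B *ᵥ u)) * Polynomial.X + Polynomial.C (w ⬝ᵥ B *ᵥ w - c)
  have hP : P.natDegree = 2 := Polynomial.natDegree_quadratic hu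
  have hP0 : P ≠ 0 := by intro e; rw [e] at hP; simp at hP
  refine le_trans (Finset.card_le_card_of_injOn (t := P.roots.toFinset) (fun x => x.2) ?_ ?_)
    (le_trans (Multiset.toFinset_card_le _) (hP ▸ Polynomial.card_roots' P))
  · rintro ⟨v, t⟩ h
    simp only [Finset.coe_filter, Finset.mem_product, Finset.mem_filter, Finset.mem_univ,
      true_and, and_true, Set.mem_setOf_eq] at h
    obtain ⟨h1, rfl⟩ := h
    simp only [Finset.mem_coe, Multiset.mem_toFinset, Polynomial.mem_roots hP0, Polynomial.IsRoot.def, P]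
    simp only [Polynomial.eval_add, Polynomial.eval_mul, Polynomial.eval_C, Polynomial.eval_pow,
      Polynomial.eval_X, mulVec_add, mulVec_smul, add_dotProduct, dotProduct_add, smul_dotProduct,
      dotProduct_smul, smul_eq_mul]
    linear_combination h1
  · rintro ⟨v, t⟩ h ⟨v', t'⟩ h' e
    simp only [Finset.coe_filter, Set.mem_setOf_eq] at h h' e
    subst e
    have := h.2.trans h'.2.symm
    simp only [add_left_inj] at this
    rw [this]

theorem exists_aniso (h2 : (2 : F) ≠ 0) {B : Matrix ι ι F} (hB : Bᵀ = B) (h0 : B ≠ 0) :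
    ∃ u, u ⬝ᵥ B *ᵥ u ≠ 0 := by
  by_contra! h
  apply h0
  ext i j
  have h1 := h (Pi.single i 1)
  have h3 := h (Pi.single j 1)
  have h4 := h (Pi.single i 1 + Pi.single j 1)
  have h5 : B j i = B i j := by rw [← hB, transpose_apply, hB]
  simp only [mulVec_add, add_dotProduct, dotProduct_add, mulVec_single_one, single_dotProduct,
    one_mul, col_apply] at h1 h3 h4
  have : 2 * B i j = 0 := by linear_combination h4 - h1 - h3 - h5
  simpa [h2] using this

theorem orbit_ge (h2 : (2 : F) ≠ 0) (S : Finset (Matrix ι ι F))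
    (hS : ∀ B ∈ S, Bᵀ = B ∧ B ≠ 0)
    (hc : ∀ B ∈ S, ∀ g : GL ι F, (g : Matrix ι ι F)ᵀ * B * (g : Matrix ι ι F) ∈ S) (hne : S.Nonempty) :
    Fintype.card (ι → F) - 1 ≤ 2 * S.card := by
  obtain ⟨B0, hB0⟩ := hne
  obtain ⟨v0, hv0⟩ := exists_aniso h2 (hS B0 hB0).1 (hS B0 hB0).2
  set c := v0 ⬝ᵥ B0 *ᵥ v0 with hcd
  let P := S.sigma fun B => Finset.univ.filter fun v : ι → F => v ⬝ᵥ B *ᵥ v = c
  let Q := (Finset.univ.erase (0 : ι → F)).sigma fun v =>
    Finset.univ.filter fun l : ι → F => v ⬝ᵥ l = c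
  have hPQ : Q.card ≤ P.card := by
    refine Finset.card_le_card_of_surjOn (fun x => ⟨x.2, x.1 *ᵥ x.2⟩) ?_
    rintro ⟨v, l⟩ h
    simp only [Q, Finset.coe_sigma, Set.mem_sigma_iff, Finset.mem_coe, Finset.mem_filter,
      Finset.mem_univ, true_and] at h
    obtain ⟨g, hg, hg'⟩ := exists_GL_pair hv0 h.2
    have e : ((g : Matrix ι ι F)ᵀ * B0 * (g : Matrix ι ι F)) *ᵥ v = l := by
      rw [← mulVec_mulVec, ← mulVec_mulVec, hg, hg']
    refine ⟨⟨(g : Matrix ι ι F)ᵀ * B0 * (g : Matrix ι ι F), v⟩, ?_, by simp only [e]⟩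
    simp only [P, Finset.coe_sigma, Set.mem_sigma_iff, Finset.mem_coe, Finset.mem_filter,
      Finset.mem_univ, true_and, e]
    exact ⟨hc B0 hB0 g, h.2⟩
  have hQ : Q.card * Fintype.card F = (Fintype.card (ι → F) - 1) * Fintype.card (ι → F) := by
    rw [Finset.card_sigma, Finset.sum_mul, Finset.sum_congr rfl fun v hv =>
      card_lin (Finset.ne_of_mem_erase hv) c, Finset.sum_const, smul_eq_mul,
      Finset.card_erase_of_mem (Finset.mem_univ _), Finset.card_univ]
  have hP : P.card * Fintype.card F ≤ S.card * (2 * Fintype.card (ι → F)) := by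
    rw [Finset.card_sigma, Finset.sum_mul, ← smul_eq_mul, ← Finset.sum_const]
    refine Finset.sum_le_sum fun B hB => ?_
    obtain ⟨u, hu⟩ := exists_aniso h2 (hS B hB).1 (hS B hB).2
    exact card_quad B hu c
  have h3 := Nat.mul_le_mul_right (Fintype.card F) hPQ
  refine Nat.le_of_mul_le_mul_right ?_ (Fintype.card_pos (α := ι → F))
  rw [← hQ]
  nlinarith

end Lin

end CfsgH6.Wt
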